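import Mathlib
import Cfsg.Agent.Lib.Geometry.SymplecticBasis

/-!
An alternating matrix has even rank.
-/

set_option autoImplicit false

namespace CfsgLib.KnownA

open Matrix

theorem even_rank_of_alternating {F : Type*} [Field F] {n : Type*} [Fintype n] [DecidableEq n]
    (M : Matrix n n F) (h : ∀ v, v ⬝ᵥ M *ᵥ v = 0) : Even M.rank := by
  classical
  set B : LinearMap.BilinForm F (n → F) := Matrix.toBilin' M with hB
  have hBap : ∀ u v, B u v = u ⬝ᵥ M *ᵥ v := fun u v => Matrix.toBilin'_apply' M u v
  have hA : B.IsAlt := fun v => (hBap v v).trans (h v)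
  obtain ⟨m, k, b, h1, h2, h3, h4⟩ := Geometry.exists_sympBasis_aux _ rfl B hA
  have hker : LinearMap.ker B = Submodule.span F (Set.range fun j => b (Sum.inr j)) := by
    apply le_antisymm
    · intro v hv
      rw [LinearMap.mem_ker] at hv
      rw [← b.sum_repr v]
      refine Submodule.sum_mem _ fun i _ => ?_
      have h0 : ∀ x, B v x = 0 := fun x => by rw [hv]; rfl
      have e : ∀ x, B v x = ∑ i, b.repr v i * B (b i) x := by
        intro x
        have hh : B (∑ i, b.repr v i • b i) x = ∑ i, b.repr v i * B (b i) x := by
          simp only [map_sum, LinearMap.sum_apply, map_smul, LinearMap.smul_apply, smul_eq_mul]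
        rwa [b.sum_repr] at hh
      have hsw : ∀ i j, B (b (Sum.inl (Sum.inr i))) (b (Sum.inl (Sum.inl j))) =
          -(if j = i then (1 : F) else 0) := fun i j => by rw [← h1 j i, hA.neg_eq]
      rcases i with (i | i) | i
      · have := e (b (Sum.inl (Sum.inr i)))
        simp [h0, Fintype.sum_sum_type, h1, h3, h4] at this
        first | simp [this] | simp [← this] | simp_all
      · have := e (b (Sum.inl (Sum.inl i)))
        simp [h0, Fintype.sum_sum_type, h2, h4, hsw] at this
        first | simp [this] | simp [← this] | simp_all
      · exact Submodule.smul_mem _ _ (Submodule.subset_span ⟨i, rfl⟩)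
    · rw [Submodule.span_le]
      rintro _ ⟨j, rfl⟩
      exact LinearMap.mem_ker.2 (LinearMap.ext (h4 j))
  have hk : Module.finrank F (LinearMap.ker B) = k := by
    rw [hker, finrank_span_eq_card, Fintype.card_fin]
    exact b.linearIndependent.comp _ Sum.inr_injective
  have hker' : LinearMap.ker Mᵀ.mulVecLin = LinearMap.ker B := by
    ext v
    simp only [LinearMap.mem_ker, Matrix.mulVecLin_apply, Matrix.mulVec_transpose]
    constructor
    · intro hv
      refine LinearMap.ext fun x => ?_
      simp [hBap, Matrix.dotProduct_mulVec, hv]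
    · intro hv
      funext i
      have := LinearMap.congr_fun hv (Pi.single i 1)
      rw [hBap, Matrix.dotProduct_mulVec, dotProduct_single, mul_one] at this
      exact this
  have hsum := LinearMap.finrank_range_add_finrank_ker Mᵀ.mulVecLin
  rw [hker', hk, Module.finrank_eq_card_basis b] at hsum
  have hr : Mᵀ.rank + k = m + m + k := by
    simpa [Matrix.rank] using hsum
  rw [← Matrix.rank_transpose]
  exact ⟨m, by omega⟩

end CfsgLib.KnownA
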