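import Mathlib
import Cfsg.Prelude.Def_Classical

/-!
The element orders of `PSp₄(3)` are the divisors of `12`, `9` and `5`: an element of `Sp₄(3)`
satisfies `x⁴ + a x³ + b x² + a x + 1`, and each of these nine polynomials divides `x ^ n ± 1`
for some `n` among `12`, `9`, `5`.
-/

set_option autoImplicit false
set_option linter.style.haveILetI false

namespace CfsgLib.KnownA.PSpFourThreeSpectrum

open Matrix Polynomial

/-- A range of element orders is determined by upper bounds and witnesses. -/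
theorem range_orderOf_eq {G : Type*} [Group G] [Finite G]
    (hup : ∀ g : G, orderOf g ∣ 12 ∨ orderOf g ∣ 9 ∨ orderOf g ∣ 5)
    (h12 : ∃ g : G, orderOf g = 12) (h9 : ∃ g : G, orderOf g = 9) (h5 : ∃ g : G, orderOf g = 5) :
    Set.range (orderOf : G → ℕ) = {n | n ∣ 12 ∨ n ∣ 9 ∨ n ∣ 5} := by
  ext n
  constructor
  · rintro ⟨g, rfl⟩; exact hup g
  · intro hn
    have key : ∀ g : G, n ∣ orderOf g → n ∈ Set.range (orderOf : G → ℕ) := fun g hg =>
      ⟨g ^ (orderOf g / n), orderOf_pow_orderOf_div (orderOf_pos g).ne' hg⟩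
    obtain ⟨g, hg⟩ := h12
    obtain ⟨g', hg'⟩ := h9
    obtain ⟨g'', hg''⟩ := h5
    rcases hn with h | h | h
    exacts [key g (hg ▸ h), key g' (hg' ▸ h), key g'' (hg'' ▸ h)]

variable {F : Type*} [Field F] [Fintype F]

theorem three_eq_zero (hF : Fintype.card F = 3) : (3 : F) = 0 := by
  have := FiniteField.cast_card_eq_zero F
  rw [hF] at this
  exact_mod_cast this

theorem cases_three (hF : Fintype.card F = 3) (a : F) : a = 0 ∨ a = 1 ∨ a = 2 := by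
  have h := FiniteField.pow_card a
  rw [hF] at h
  have h3 := three_eq_zero hF
  have : a * ((a - 1) * (a - 2)) = 0 := by linear_combination h + (a - a ^ 2) * h3
  simpa [sub_eq_zero] using this

theorem cover (hF : Fintype.card F = 3) (a b : F) : ∃ (n : ℕ) (c : F),
    n ∈ ({12, 9, 5} : Finset ℕ) ∧
      (X ^ 4 + C a * X ^ 3 + C b * X ^ 2 + C a * X + 1 : F[X]) ∣ X ^ n - C c := by
  have h3 : (3 : F[X]) = 0 := by
    have := congrArg C (three_eq_zero hF)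
    rwa [map_ofNat, map_zero] at this
  rcases cases_three hF a with rfl | rfl | rfl <;> rcases cases_three hF b with rfl | rfl | rfl
  · exact ⟨12, 2, by simp, ⟨(1 * X ^ 0 + 2 * X ^ 4 + 1 * X ^ 8 : F[X]), by
      simp only [map_zero, map_one, map_ofNat]
      linear_combination ((-1) * X ^ 0 + (-1) * X ^ 4 + (-1) * X ^ 8 : F[X]) * h3⟩⟩
  · exact ⟨12, 1, by simp, ⟨(2 * X ^ 0 + 1 * X ^ 2 + 2 * X ^ 6 + 1 * X ^ 8 : F[X]), by
      simp only [map_zero, map_one, map_ofNat]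
      linear_combination ((-1) * X ^ 0 + (-1) * X ^ 2 + (-1) * X ^ 4 + (-1) * X ^ 6 + (-1) * X ^ 8 + 
        (-1) * X ^ 10 : F[X]) * h3⟩⟩
  · exact ⟨12, 1, by simp, ⟨(2 * X ^ 0 + 2 * X ^ 2 + 1 * X ^ 6 + 1 * X ^ 8 : F[X]), by
      simp only [map_zero, map_one, map_ofNat]
      linear_combination ((-1) * X ^ 0 + (-2) * X ^ 2 + (-2) * X ^ 4 + (-1) * X ^ 6 + (-1) * X ^ 8 + 
        (-1) * X ^ 10 : F[X]) * h3⟩⟩
  · exact ⟨9, 2, by simp, ⟨(1 * X ^ 0 + 2 * X ^ 1 + 1 * X ^ 2 + 1 * X ^ 3 + 2 * X ^ 4 + 1 * X ^ 5 : F[X]), by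
      simp only [map_zero, map_one, map_ofNat]
      linear_combination ((-1) * X ^ 0 + (-1) * X ^ 1 + (-1) * X ^ 2 + (-1) * X ^ 3 + (-2) * X ^ 4 + 
        (-2) * X ^ 5 + (-1) * X ^ 6 + (-1) * X ^ 7 + (-1) * X ^ 8 : F[X]) * h3⟩⟩
  · exact ⟨5, 1, by simp, ⟨(2 * X ^ 0 + 1 * X ^ 1 : F[X]), by
      simp only [map_zero, map_one, map_ofNat]
      linear_combination ((-1) * X ^ 0 + (-1) * X ^ 1 + (-1) * X ^ 2 + (-1) * X ^ 3 + (-1) * X ^ 4 : F[X]) * h3⟩⟩
  · exact ⟨12, 1, by simp, ⟨(2 * X ^ 0 + 1 * X ^ 1 + 1 * X ^ 2 + 1 * X ^ 3 + 2 * X ^ 5 + 2 * X ^ 6 + 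
        2 * X ^ 7 + 1 * X ^ 8 : F[X]), by
      simp only [map_zero, map_one, map_ofNat]
      linear_combination ((-1) * X ^ 0 + (-1) * X ^ 1 + (-2) * X ^ 2 + (-2) * X ^ 3 + (-2) * X ^ 4 + 
        (-2) * X ^ 5 + (-2) * X ^ 6 + (-3) * X ^ 7 + (-3) * X ^ 8 + (-3) * X ^ 9 + 
        (-2) * X ^ 10 + (-1) * X ^ 11 : F[X]) * h3⟩⟩
  · exact ⟨9, 1, by simp, ⟨(2 * X ^ 0 + 2 * X ^ 1 + 2 * X ^ 2 + 1 * X ^ 3 + 1 * X ^ 4 + 1 * X ^ 5 : F[X]), by
      simp only [map_zero, map_one, map_ofNat]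
      linear_combination ((-1) * X ^ 0 + (-2) * X ^ 1 + (-2) * X ^ 2 + (-3) * X ^ 3 + (-3) * X ^ 4 + 
        (-3) * X ^ 5 + (-2) * X ^ 6 + (-1) * X ^ 7 + (-1) * X ^ 8 : F[X]) * h3⟩⟩
  · exact ⟨5, 2, by simp, ⟨(1 * X ^ 0 + 1 * X ^ 1 : F[X]), by
      simp only [map_zero, map_one, map_ofNat]
      linear_combination ((-1) * X ^ 0 + (-1) * X ^ 1 + (-1) * X ^ 2 + (-1) * X ^ 3 + (-1) * X ^ 4 : F[X]) * h3⟩⟩
  · exact ⟨12, 1, by simp, ⟨(2 * X ^ 0 + 2 * X ^ 1 + 1 * X ^ 2 + 2 * X ^ 3 + 1 * X ^ 5 + 2 * X ^ 6 + 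
        1 * X ^ 7 + 1 * X ^ 8 : F[X]), by
      simp only [map_zero, map_one, map_ofNat]
      linear_combination ((-1) * X ^ 0 + (-2) * X ^ 1 + (-3) * X ^ 2 + (-4) * X ^ 3 + (-4) * X ^ 4 + 
        (-3) * X ^ 5 + (-3) * X ^ 6 + (-3) * X ^ 7 + (-3) * X ^ 8 + (-3) * X ^ 9 + 
        (-2) * X ^ 10 + (-1) * X ^ 11 : F[X]) * h3⟩⟩

local notation "I2" => Fin 2 ⊕ Fin 2
local notation "M4" => Matrix I2 I2 F
local notation "Sp4" => Matrix.symplecticGroup (Fin 2) F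

theorem mk_pow_eq_one (g : Sp4) (n : ℕ) (c : F) (h : ((g : Sp4) : M4) ^ n = c • (1 : M4)) :
    (g : Cfsg.PSp 2 F) ^ n = 1 := by
  rw [← QuotientGroup.mk_pow, QuotientGroup.eq_one_iff, Subgroup.mem_center_iff]
  intro x
  refine Subtype.ext ?_
  show (x : M4) * ((g ^ n : Sp4) : M4) = ((g ^ n : Sp4) : M4) * (x : M4)
  rw [SubmonoidClass.coe_pow, h]
  simp

theorem mk_pow_ne_one (g x : Sp4) (n : ℕ)
    (h : (x : M4) * (g : M4) ^ n ≠ (g : M4) ^ n * (x : M4)) : (g : Cfsg.PSp 2 F) ^ n ≠ 1 := by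
  intro h1
  rw [← QuotientGroup.mk_pow, QuotientGroup.eq_one_iff, Subgroup.mem_center_iff] at h1
  have := congrArg (fun y : Sp4 => (y : M4)) (h1 x)
  exact h (by simpa using this)

theorem upper (hF : Fintype.card F = 3) (x : Cfsg.PSp 2 F) :
    orderOf x ∣ 12 ∨ orderOf x ∣ 9 ∨ orderOf x ∣ 5 := by
  obtain ⟨g, rfl⟩ := QuotientGroup.mk_surjective x
  set M : M4 := (g : M4) with hM
  set p := M.charpoly with hp
  have hdeg : p.natDegree = 4 := by rw [hp, Matrix.charpoly_natDegree_eq_dim]; rfl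
  have h4 : p.coeff 4 = 1 := by rw [← hdeg]; exact (Matrix.charpoly_monic M).coeff_natDegree
  have h0 : p.coeff 0 = 1 := by
    have := Matrix.det_eq_sign_charpoly_coeff M
    rw [SymplecticGroup.det_eq_one g.2, ← hp] at this
    simpa [show ((-1 : F)) ^ 4 = 1 by norm_num] using this.symm
  have hsum : ∀ N : M4, aeval N p = p.coeff 0 • (1 : M4) + p.coeff 1 • N + p.coeff 2 • N ^ 2 +
      p.coeff 3 • N ^ 3 + p.coeff 4 • N ^ 4 := by
    intro N
    rw [aeval_eq_sum_range' (show p.natDegree < 5 by omega) N]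
    simp [Finset.sum_range_succ]
  set V : M4 := ((g⁻¹ : Sp4) : M4) with hV
  have hgV : M * V = 1 := congrArg (fun y : Sp4 => (y : M4)) (mul_inv_cancel g)
  have hVg : V * M = 1 := congrArg (fun y : Sp4 => (y : M4)) (inv_mul_cancel g)
  have hJ : Matrix.J (Fin 2) F * Mᵀ = V * Matrix.J (Fin 2) F := by
    have h := congrArg (V * ·) (SymplecticGroup.mem_iff.1 g.2)
    simp only [← hM, ← mul_assoc] at h
    rwa [hVg, one_mul] at h
  have hVp : aeval V p = 0 := by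
    have h1 : aeval Mᵀ p = 0 := by rw [hp, ← Matrix.charpoly_transpose]; exact Matrix.aeval_self_charpoly _
    have h2 : ∀ i : ℕ, Matrix.J (Fin 2) F * Mᵀ ^ i = V ^ i * Matrix.J (Fin 2) F :=
      fun i => SemiconjBy.pow_right hJ i
    have h3 : aeval V p * Matrix.J (Fin 2) F = Matrix.J (Fin 2) F * aeval Mᵀ p := by
      rw [hsum, hsum]
      simp only [mul_add, add_mul, mul_smul_comm, smul_mul_assoc, h2, hJ, one_mul, mul_one]
    rw [h1, mul_zero] at h3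
    have := congrArg (· * Matrix.J (Fin 2) F) h3
    simpa [mul_assoc, Matrix.J_squared] using this
  have hMp : aeval M p = 0 := Matrix.aeval_self_charpoly M
  rw [hsum, h0, h4, one_smul, one_smul] at hMp hVp
  have hrev : M ^ 4 + p.coeff 1 • M ^ 3 + p.coeff 2 • M ^ 2 + p.coeff 3 • M + 1 = 0 := by
    have hc : ∀ i j : ℕ, M ^ (i + j) * V ^ j = M ^ i := by
      intro i j
      induction j with
      | zero => simp
      | succ j ih =>
        rw [← add_assoc, pow_succ, pow_succ', mul_assoc, ← mul_assoc M, hgV, one_mul, ih]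
    have := congrArg (M ^ 4 * ·) hVp
    simp only [mul_add, mul_smul_comm, mul_one, mul_zero] at this
    rwa [show M ^ 4 * V = M ^ 3 from (by simpa using hc 3 1), show M ^ 4 * V ^ 2 = M ^ 2 from hc 2 2,
      show M ^ 4 * V ^ 3 = M from (by simpa using hc 1 3),
      show M ^ 4 * V ^ 4 = 1 from (by simpa using hc 0 4)] at this
  by_cases hac : p.coeff 1 = p.coeff 3
  · obtain ⟨n, c, hn, hdvd⟩ := cover hF (p.coeff 3) (p.coeff 2)
    have hzero : aeval M (X ^ n - C c : F[X]) = 0 := by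
      obtain ⟨Q, hQ⟩ := hdvd
      rw [hQ, map_mul]
      convert zero_mul (aeval M Q) using 2
      rw [hac] at hrev
      simp only [map_add, map_mul, map_pow, map_one, aeval_C, aeval_X, ← Algebra.smul_def]
      exact hrev
    rw [map_sub, map_pow, aeval_X, aeval_C, sub_eq_zero, Algebra.algebraMap_eq_smul_one] at hzero
    have := orderOf_dvd_of_pow_eq_one (mk_pow_eq_one g n c hzero)
    simp only [Finset.mem_insert, Finset.mem_singleton] at hn
    rcases hn with rfl | rfl | rfl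
    exacts [.inl this, .inr (.inl this), .inr (.inr this)]
  · left
    have h : (p.coeff 1 - p.coeff 3) • (M ^ 3 - M) = 0 := by
      have e := congrArg₂ (fun y z : M4 => y - z) hrev hMp
      simp only [sub_zero] at e
      rw [← e]
      simp only [sub_smul, smul_sub]
      abel
    have h3 : M ^ 3 = M := sub_eq_zero.1 ((smul_eq_zero.1 h).resolve_left (sub_ne_zero.2 hac))
    refine orderOf_dvd_of_pow_eq_one (mk_pow_eq_one g 12 1 ?_)
    have h2 : M ^ 2 = 1 := by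
      calc M ^ 2 = M ^ 2 * (M * V) := by rw [hgV, mul_one]
        _ = M ^ 3 * V := by rw [← mul_assoc, ← pow_succ]
        _ = 1 := by rw [h3, hgV]
    rw [← hM, one_smul, show 12 = 2 * 6 from rfl, pow_mul, h2, one_pow]

omit [Fintype F] in
theorem map_mem {R : Type*} [CommRing R] (f : R →+* F) {A : Matrix I2 I2 R}
    (h : A * Matrix.J (Fin 2) R * Aᵀ = Matrix.J (Fin 2) R) : A.map f ∈ Sp4 := by
  rw [SymplecticGroup.mem_iff]
  have := congrArg (fun B : Matrix I2 I2 R => B.map f) h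
  simpa [Matrix.map_mul, Matrix.transpose_map] using this

/-- An element of projective order `12`. -/
def wit12 : Matrix I2 I2 (ZMod 3) := Matrix.fromBlocks 0 !![2, 0; 0, 2] !![1, 0; 0, 1] !![1, 0; 0, 0]

/-- An element of projective order `9`. -/
def wit9 : Matrix I2 I2 (ZMod 3) :=
  Matrix.fromBlocks !![0, 0; 1, 0] !![0, 2; 0, 0] !![1, 1; 0, 0] !![0, 0; 1, 2]

/-- An element of projective order `5`. -/
def wit5 : Matrix I2 I2 (ZMod 3) := Matrix.fromBlocks 0 !![2, 0; 0, 2] !![1, 0; 0, 1] !![1, 1; 1, 0]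

theorem wit_mem :
    wit12 * Matrix.J (Fin 2) (ZMod 3) * wit12ᵀ = Matrix.J (Fin 2) (ZMod 3) ∧
      wit9 * Matrix.J (Fin 2) (ZMod 3) * wit9ᵀ = Matrix.J (Fin 2) (ZMod 3) ∧
      wit5 * Matrix.J (Fin 2) (ZMod 3) * wit5ᵀ = Matrix.J (Fin 2) (ZMod 3) := by
  decide

theorem wit_pow :
    wit12 ^ 12 = (1 : ZMod 3) • 1 ∧ wit9 ^ 9 = (2 : ZMod 3) • 1 ∧ wit5 ^ 5 = (2 : ZMod 3) • 1 := by
  decide

theorem wit_noncomm :
    wit9 * wit12 ^ 4 ≠ wit12 ^ 4 * wit9 ∧ wit9 * wit12 ^ 6 ≠ wit12 ^ 6 * wit9 ∧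
      wit12 * wit9 ^ 3 ≠ wit9 ^ 3 * wit12 ∧ wit9 * wit5 ^ 1 ≠ wit5 ^ 1 * wit9 := by
  decide

theorem exists_orders (hF : Fintype.card F = 3) :
    (∃ x : Cfsg.PSp 2 F, orderOf x = 12) ∧ (∃ x : Cfsg.PSp 2 F, orderOf x = 9) ∧
      ∃ x : Cfsg.PSp 2 F, orderOf x = 5 := by
  haveI : Fact (Nat.Prime 3) := ⟨Nat.prime_three⟩
  haveI : CharP F 3 :=
    (CharP.charP_iff_prime_eq_zero Nat.prime_three).2 (by exact_mod_cast three_eq_zero hF)
  let f : ZMod 3 →+* F := ZMod.castHom (dvd_refl 3) F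
  have hf : Function.Injective f := f.injective
  have hmap : ∀ {A B : Matrix I2 I2 (ZMod 3)}, A.map f = B.map f → A = B := fun h =>
    Matrix.map_injective hf h
  have key : ∀ (A : Matrix I2 I2 (ZMod 3)) (c : ZMod 3) (n : ℕ),
      A * Matrix.J (Fin 2) (ZMod 3) * Aᵀ = Matrix.J (Fin 2) (ZMod 3) → A ^ n = c • 1 →
      ∃ x : Cfsg.PSp 2 F, x ^ n = 1 ∧ ∀ m : ℕ, x ^ m = 1 →
        ∀ B : Matrix I2 I2 (ZMod 3), B * Matrix.J (Fin 2) (ZMod 3) * Bᵀ = Matrix.J (Fin 2) (ZMod 3) →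
          B * A ^ m = A ^ m * B := by
    intro A c n hA hAn
    refine ⟨((⟨A.map f, map_mem f hA⟩ : Sp4) : Cfsg.PSp 2 F), mk_pow_eq_one _ n (f c) ?_, ?_⟩
    · show (A.map f) ^ n = f c • (1 : M4)
      rw [← RingHom.mapMatrix_apply, ← map_pow, hAn, RingHom.mapMatrix_apply]
      ext i j
      by_cases hij : i = j <;> simp [hij, Matrix.map_apply]
    · intro m hm B hB
      by_contra hne
      refine mk_pow_ne_one _ ⟨B.map f, map_mem f hB⟩ m ?_ hm
      intro he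
      refine hne (hmap ?_)
      change B.map f * (A.map f) ^ m = (A.map f) ^ m * B.map f at he
      rw [← RingHom.mapMatrix_apply, ← RingHom.mapMatrix_apply f A, ← map_pow, ← map_mul, ← map_mul,
        RingHom.mapMatrix_apply, RingHom.mapMatrix_apply] at he
      exact he
  refine ⟨?_, ?_, ?_⟩
  · obtain ⟨x, hx, hn⟩ := key wit12 1 12 wit_mem.1 wit_pow.1
    refine ⟨x, ?_⟩
    have hd : orderOf x ∣ 12 := orderOf_dvd_of_pow_eq_one hx
    have h4 : ¬ orderOf x ∣ 4 := fun h => absurd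
      (hn 4 (orderOf_dvd_iff_pow_eq_one.1 h) wit9 wit_mem.2.1) wit_noncomm.1
    have h6 : ¬ orderOf x ∣ 6 := fun h => absurd
      (hn 6 (orderOf_dvd_iff_pow_eq_one.1 h) wit9 wit_mem.2.1) wit_noncomm.2.1
    have := Nat.le_of_dvd (by norm_num) hd
    interval_cases h : orderOf x <;> simp_all
  · obtain ⟨x, hx, hn⟩ := key wit9 2 9 wit_mem.2.1 wit_pow.2.1
    refine ⟨x, orderOf_eq_prime_pow (p := 3) (n := 1) ?_ hx⟩
    rw [pow_one]
    intro h
    exact absurd (hn 3 h wit12 wit_mem.1) wit_noncomm.2.2.1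
  · obtain ⟨x, hx, hn⟩ := key wit5 2 5 wit_mem.2.2 wit_pow.2.2
    haveI : Fact (Nat.Prime 5) := ⟨Nat.prime_five⟩
    refine ⟨x, orderOf_eq_prime hx ?_⟩
    intro h
    exact absurd (hn 1 (by rw [pow_one]; exact h) wit9 wit_mem.2.1) wit_noncomm.2.2.2

theorem range_orderOf_PSp (hF : Fintype.card F = 3) :
    Set.range (orderOf : Cfsg.PSp 2 F → ℕ) = {n | n ∣ 12 ∨ n ∣ 9 ∨ n ∣ 5} := by
  haveI : Finite (Cfsg.PSp 2 F) := Quotient.finite _
  obtain ⟨h12, h9, h5⟩ := exists_orders hF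
  exact range_orderOf_eq (upper hF) h12 h9 h5

end CfsgLib.KnownA.PSpFourThreeSpectrum
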