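import Mathlib

/-!
Orders of unipotent matrices in characteristic `p`.
-/

set_option autoImplicit false

namespace CfsgLib.KnownA

open Matrix

variable {F : Type*} [Field F] (p : ℕ) [Fact p.Prime] [CharP F p]

theorem pow_eq_zero_of_nilpotent {d : ℕ} {N : Matrix (Fin d) (Fin d) F} (hN : IsNilpotent N) :
    N ^ d = 0 := by
  have h := Matrix.isNilpotent_charpoly_sub_pow_of_isNilpotent hN
  have h' : N.charpoly = Polynomial.X ^ d := by
    simpa [Fintype.card_fin, sub_eq_zero] using h.eq_zero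
  have := Matrix.aeval_self_charpoly N
  rw [h'] at this
  simpa using this

theorem unipotent_pow {d : ℕ} (hd : d ≠ 0) (u : GL (Fin d) F) (k : ℕ) :
    u ^ p ^ k = 1 ↔ ((u : Matrix (Fin d) (Fin d) F) - 1) ^ p ^ k = 0 := by
  have : Nonempty (Fin d) := ⟨⟨0, Nat.pos_of_ne_zero hd⟩⟩
  rw [← Units.val_inj, Units.val_pow_eq_pow_val, Units.val_one,
    sub_pow_char_pow_of_commute p k (Commute.one_right _), one_pow, sub_eq_zero]

theorem orderOf_unipotent_dvd {d : ℕ} (u : GL (Fin d) F)
    (hu : IsNilpotent ((u : Matrix (Fin d) (Fin d) F) - 1)) : orderOf u ∣ p ^ Nat.clog p d := by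
  rcases eq_or_ne d 0 with rfl | hd
  · have : u = 1 := Units.ext (Subsingleton.elim _ _)
    simp [this]
  apply orderOf_dvd_of_pow_eq_one
  rw [unipotent_pow p hd]
  exact pow_eq_zero_of_le (Nat.le_pow_clog (Fact.out : p.Prime).one_lt d) (pow_eq_zero_of_nilpotent hu)

theorem orderOf_unipotent_eq {d : ℕ} (u : GL (Fin d) F)
    (hu : IsNilpotent ((u : Matrix (Fin d) (Fin d) F) - 1))
    (h : ((u : Matrix (Fin d) (Fin d) F) - 1) ^ (d - 1) ≠ 0) : orderOf u = p ^ Nat.clog p d := by
  have hp := (Fact.out : p.Prime)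
  obtain ⟨j, hj, hord⟩ := (Nat.dvd_prime_pow hp).1 (orderOf_unipotent_dvd p u hu)
  rcases hj.eq_or_lt with h' | h'
  · rw [hord, h']
  exfalso
  rcases eq_or_ne d 0 with rfl | hd
  · simp at h'
  apply h
  refine pow_eq_zero_of_le ?_ ((unipotent_pow p hd u j).1 (hord ▸ pow_orderOf_eq_one u))
  have := (Nat.lt_clog_iff_pow_lt hp.one_lt).1 h'
  omega

/-- The nilpotent Jordan block. -/
def shiftMat (F : Type*) [Field F] (d : ℕ) : Matrix (Fin d) (Fin d) F :=
  Matrix.of fun i j => if (j : ℕ) = (i : ℕ) + 1 then 1 else 0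

theorem shiftMat_pow {F : Type*} [Field F] (d k : ℕ) :
    shiftMat F d ^ k = Matrix.of fun i j : Fin d => if (j : ℕ) = (i : ℕ) + k then (1 : F) else 0 := by
  induction k with
  | zero => ext i j; simp [Matrix.one_apply, Fin.ext_iff, eq_comm]
  | succ k ih =>
    ext i j
    rw [pow_succ, ih, Matrix.mul_apply, Matrix.of_apply]
    simp only [shiftMat, Matrix.of_apply, ite_mul, one_mul, zero_mul]
    by_cases h : (i : ℕ) + k < d
    · rw [Finset.sum_eq_single (⟨i + k, h⟩ : Fin d) (fun b _ hb => if_neg fun e => hb (Fin.ext e))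
        (by simp)]
      rw [if_pos rfl]
      simp only [add_assoc]
    · rw [Finset.sum_eq_zero fun b _ => if_neg (by have := b.2; omega), if_neg (by have := j.2; omega)]

theorem exists_jordanBlock (F : Type*) [Field F] (d : ℕ) :
    ∃ u : GL (Fin d) F, IsNilpotent ((u : Matrix (Fin d) (Fin d) F) - 1) ∧
      (0 < d → ((u : Matrix (Fin d) (Fin d) F) - 1) ^ (d - 1) ≠ 0) := by
  have hnil : IsNilpotent (shiftMat F d) := ⟨d, by
    ext i j
    rw [shiftMat_pow, Matrix.of_apply, if_neg (by have := j.2; omega), Matrix.zero_apply]⟩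
  refine ⟨hnil.isUnit_one_add.unit, ?_, fun hd h0 => ?_⟩
  · simpa [IsUnit.unit_spec] using hnil
  · simp [IsUnit.unit_spec, shiftMat_pow] at h0
    have := congrFun (congrFun h0 ⟨0, hd⟩) ⟨d - 1, by omega⟩
    simp at this

end CfsgLib.KnownA
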