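import Cfsg.Agent.Lib.Schur.SylowCriterion
import Cfsg.Agent.Lib.Classical.SL2Sylow
import Cfsg.Agent.S3963

/-!
The Schur multiplier of `SL₂(q)`, `q ≠ 4, 9`.
-/

set_option autoImplicit false

namespace CfsgLib.KnownA.SLTwo

open Polynomial Matrix Matrix.SpecialLinearGroup CfsgLib.Classical
open scoped commutatorElement

variable {F : Type*} [Field F] [Fintype F]

/-- A square `b` such that `1 + b` is a square, with some degenerate values avoided. -/
theorem exists_square (h : 4 < Fintype.card F)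
    (h13 : (2 : F) ≠ 0 → 13 < Fintype.card F) :
    ∃ b : F, b ≠ 0 ∧ 1 + b ≠ 0 ∧ b ^ 2 + b + 1 ≠ 0 ∧ IsSquare b ∧ IsSquare (1 + b) := by
  classical
  by_cases h2 : (2 : F) = 0
  · haveI : CharP F 2 := CharTwo.of_one_ne_zero_of_two_eq_zero one_ne_zero h2
    have hsq : ∀ x : F, IsSquare x := fun x => FiniteField.isSquare_of_char_two (ringChar.eq F 2) x
    by_contra hc
    push Not at hc
    have hp : ∀ x : F, ((X : F[X]) * (X + 1) * (X ^ 2 + X + 1)).eval x = 0 := by
      intro x
      simp only [eval_mul, eval_add, eval_pow, eval_X, eval_one, mul_eq_zero]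
      by_contra hx
      rw [not_or, not_or] at hx
      exact hc x hx.1.1 (by rw [add_comm]; exact hx.1.2) hx.2 (hsq _) (hsq _)
    have hpz := eq_zero_of_natDegree_lt_card_of_eval_eq_zero ((X : F[X]) * (X + 1) * (X ^ 2 + X + 1))
      Function.injective_id hp (lt_of_le_of_lt (by compute_degree) h)
    have hm : ((X : F[X]) * (X + 1) * (X ^ 2 + X + 1)).Monic :=
      (monic_X.mul (monic_X_add_C 1)).mul (by monicity!)
    exact hm.ne_zero hpz
  · -- Pythagorean parametrisation
    by_contra hc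
    push Not at hc
    let P : F[X] := ((2 * X) ^ 4 + (2 * X) ^ 2 * (1 - X ^ 2) ^ 2 + (1 - X ^ 2) ^ 4) *
      (X * (1 - X ^ 2) * (1 + X ^ 2))
    have hp : ∀ x : F, P.eval x = 0 := by
      intro x
      simp only [P, eval_mul, eval_add, eval_sub, eval_pow, eval_X, eval_one, eval_ofNat, mul_eq_zero]
      by_contra hx
      rw [not_or, not_or, not_or] at hx
      obtain ⟨hP, ⟨hx0, hd⟩, hs⟩ := hx
      have hb : (2 * x / (1 - x ^ 2)) ^ 2 ≠ 0 := pow_ne_zero _ (div_ne_zero (mul_ne_zero h2 hx0) hd)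
      have h1 : 1 + (2 * x / (1 - x ^ 2)) ^ 2 = ((1 + x ^ 2) / (1 - x ^ 2)) ^ 2 := by
        field_simp
        ring
      refine hc ((2 * x / (1 - x ^ 2)) ^ 2) hb (by rw [h1]; exact pow_ne_zero _ (div_ne_zero hs hd)) ?_
        (IsSquare.sq _) (h1 ▸ IsSquare.sq _)
      intro h0
      apply hP
      field_simp at h0
      linear_combination h0
    have hdeg : P.natDegree ≤ 13 := by
      simp only [P]
      compute_degree
    have hpz := eq_zero_of_natDegree_lt_card_of_eval_eq_zero P Function.injective_id hp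
      (lt_of_le_of_lt hdeg (h13 h2))
    have := congrArg (fun Q : F[X] => Q.derivative.eval 0) hpz
    simp [P] at this

/-- An invariant biadditive form on the root group vanishes. -/
theorem eq_zero_of_invariant_form {A : Type*} [AddCommGroup A] (h : 4 < Fintype.card F)
    (h13 : (2 : F) ≠ 0 → 13 < Fintype.card F) (β : F → F → A)
    (h1 : ∀ x x' y, β (x + x') y = β x y + β x' y) (h2 : ∀ x y y', β x (y + y') = β x y + β x y')
    (hinv : ∀ s : F, s ≠ 0 → ∀ x y, β (s ^ 2 * x) (s ^ 2 * y) = β x y) (x y : F) : β x y = 0 := by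
  classical
  obtain ⟨b, hb0, hb1, hb2, ⟨t, ht⟩, ⟨u, hu⟩⟩ := exists_square h h13
  have h0l : ∀ y, β 0 y = 0 := fun y => by
    have h := h1 0 0 y
    rw [add_zero] at h
    exact left_eq_add.1 h
  have hsq : ∀ s : F, s ≠ 0 → ∀ y, β (s ^ 2) y = β 1 ((s ^ 2)⁻¹ * y) := fun s hs y => by
    have h := hinv s hs 1 ((s ^ 2)⁻¹ * y)
    rwa [mul_one, mul_inv_cancel_left₀ (pow_ne_zero _ hs)] at h
  have ht0 : t ≠ 0 := fun h => hb0 (by rw [ht, h, mul_zero])
  have hu0 : u ≠ 0 := fun h => hb1 (by rw [hu, h, mul_zero])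
  rw [← sq] at ht hu
  set d := 1 + b⁻¹ - (1 + b)⁻¹ with hd
  have hd0 : d ≠ 0 := by
    intro h0
    apply hb2
    rw [hd] at h0
    field_simp at h0
    linear_combination h0
  have hlam : ∀ w, β 1 w = 0 := by
    intro w
    have key : ∀ z, β 1 (d * z) = 0 := by
      intro z
      have hn : ∀ a c, β a (-c) = -β a c := fun a c => by
        have h := h2 a c (-c)
        have h' := h2 a 0 0
        rw [add_zero] at h'
        rw [add_neg_cancel, left_eq_add.1 h'] at h
        exact (neg_eq_of_add_eq_zero_right h.symm).symm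
      rw [hd, sub_mul, add_mul, one_mul, sub_eq_add_neg, h2, h2, hn, hu, ht, ← hsq u hu0, ← hsq t ht0,
        ← ht, ← hu, h1, add_neg_cancel]
    rw [← mul_inv_cancel_left₀ hd0 w]
    exact key _
  have hs : ∀ s y, β (s ^ 2) y = 0 := fun s y => by
    by_cases hs0 : s = 0
    · rw [hs0, zero_pow two_ne_zero, h0l]
    · rw [hsq s hs0, hlam]
  by_cases hc : (2 : F) = 0
  · haveI : CharP F 2 := CharTwo.of_one_ne_zero_of_two_eq_zero one_ne_zero hc
    obtain ⟨s, rfl⟩ := FiniteField.isSquare_of_char_two (ringChar.eq F 2) x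
    rw [← sq, hs]
  · have hx : ((x + 1) / 2) ^ 2 = x + ((x - 1) / 2) ^ 2 := by
      field_simp
      ring
    have h := hs ((x + 1) / 2) y
    rwa [hx, h1, hs, add_zero] at h

/-- The preimage of the root group in a central extension is abelian. -/
theorem commute_of_root {Γ : Type*} [Group Γ] (σ : Γ →* Matrix.SpecialLinearGroup (Fin 2) F)
    (hsurj : Function.Surjective σ) (hcen : σ.ker ≤ Subgroup.center Γ) (h : 4 < Fintype.card F)
    (h13 : (2 : F) ≠ 0 → 13 < Fintype.card F) {x y : Γ} (hx : σ x ∈ uSubgroup F)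
    (hy : σ y ∈ uSubgroup F) : x * y = y * x := by
  classical
  choose L hL using fun a : F => hsurj (uSL a)
  have hkc : ∀ k ∈ σ.ker, ∀ g : Γ, g * k = k * g := fun k hk g => Subgroup.mem_center_iff.1 (hcen hk) g
  have hsame : ∀ g g' : Γ, σ g = σ g' → ∀ z : Γ, ⁅g, z⁆ = ⁅g', z⁆ ∧ ⁅z, g⁆ = ⁅z, g'⁆ := by
    intro g g' hg z
    obtain ⟨k, hk, rfl⟩ : ∃ k ∈ σ.ker, g' = g * k := ⟨g⁻¹ * g', by
      rw [MonoidHom.mem_ker, map_mul, map_inv, hg, inv_mul_cancel], by group⟩
    refine ⟨?_, ?_⟩ <;> simp only [commutatorElement_def, _root_.mul_inv_rev]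
    · rw [mul_assoc g k z, ← hkc k hk z]
      group
    · rw [← mul_assoc z g k, mul_assoc (z * g) k z⁻¹, ← hkc k hk z⁻¹]
      group
  have hker : ∀ a b, ⁅L a, L b⁆ ∈ σ.ker := fun a b => by
    rw [MonoidHom.mem_ker, map_commutatorElement, hL, hL, commutatorElement_eq_one_iff_mul_comm]
    exact ((Commute.all (Multiplicative.ofAdd a) (Multiplicative.ofAdd b)).map (uHom (F := F))).eq
  have hadd : ∀ a b, σ (L a * L b) = σ (L (a + b)) := fun a b => by
    rw [map_mul, hL, hL, hL]
    exact ((uHom (F := F)).map_mul (Multiplicative.ofAdd a) (Multiplicative.ofAdd b)).symm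
  letI hcg : CommGroup σ.ker :=
    { (inferInstance : Group σ.ker) with
      mul_comm := fun a b => Subtype.ext (hkc b b.2 a) }
  let β : F → F → Additive σ.ker := fun a b => Additive.ofMul ⟨⁅L a, L b⁆, hker a b⟩
  have hβ : ∀ a b, β a b = 0 := by
    intro a b
    refine eq_zero_of_invariant_form h h13 β (fun a a' c => ?_) (fun a c c' => ?_) (fun s hs a c => ?_) a b
    · refine congrArg Additive.ofMul (Subtype.ext ?_)
      show ⁅L (a + a'), L c⁆ = ⁅L a, L c⁆ * ⁅L a', L c⁆
      rw [← (hsame _ _ (hadd a a') _).1, show ⁅L a * L a', L c⁆ =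
        L a * ⁅L a', L c⁆ * (L a)⁻¹ * ⁅L a, L c⁆ by simp only [commutatorElement_def]; group,
        hkc _ (hker a' c), mul_inv_cancel_right, hkc _ (hker a c)]
    · refine congrArg Additive.ofMul (Subtype.ext ?_)
      show ⁅L a, L (c + c')⁆ = ⁅L a, L c⁆ * ⁅L a, L c'⁆
      rw [← (hsame _ _ (hadd c c') _).2, show ⁅L a, L c * L c'⁆ =
        ⁅L a, L c⁆ * (L c * ⁅L a, L c'⁆ * (L c)⁻¹) by simp only [commutatorElement_def]; group,
        hkc _ (hker a c'), mul_inv_cancel_right]
    · obtain ⟨τ, hτ⟩ := hsurj (torusHom F (Units.mk0 s hs))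
      have hc : ∀ z, σ (τ * L z * τ⁻¹) = σ (L (s ^ 2 * z)) := fun z => by
        rw [map_mul, map_mul, map_inv, hτ, hL, hL, mul_inv_eq_iff_eq_mul]
        refine Subtype.ext ?_
        rw [Matrix.SpecialLinearGroup.coe_mul, Matrix.SpecialLinearGroup.coe_mul, torusHom_coe, uSL_coe, uSL_coe]
        ext i j
        fin_cases i <;> fin_cases j <;> simp [Matrix.mul_apply, Fin.sum_univ_two] <;> field_simp
      refine congrArg Additive.ofMul (Subtype.ext ?_)
      show ⁅L (s ^ 2 * a), L (s ^ 2 * c)⁆ = ⁅L a, L c⁆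
      rw [← (hsame _ _ (hc a) _).1, ← (hsame _ _ (hc c) _).2,
        show ⁅τ * L a * τ⁻¹, τ * L c * τ⁻¹⁆ = τ * ⁅L a, L c⁆ * τ⁻¹ by
          simp only [commutatorElement_def]; group,
        hkc _ (hker a c), mul_inv_cancel_right]
  obtain ⟨a, ha⟩ := mem_uSubgroup_iff.1 hx
  obtain ⟨b, hb⟩ := mem_uSubgroup_iff.1 hy
  rw [← commutatorElement_eq_one_iff_mul_comm, (hsame x (L a) (by rw [hL, ha]) y).1,
    (hsame y (L b) (by rw [hL, hb]) (L a)).2]
  exact congrArg Subtype.val (congrArg Additive.toMul (hβ a b) :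
    (⟨⁅L a, L b⁆, hker a b⟩ : σ.ker) = 1)

/-- `SL₂(q)` has trivial multiplier for `q ≠ 4, 9`. -/
theorem multiplier_trivial (h4 : Fintype.card F ≠ 4) (h9 : Fintype.card F ≠ 9) :
    Cfsg.HasCyclicSchurMultiplier (Matrix.SpecialLinearGroup (Fin 2) F) 1 := by
  classical
  obtain ⟨p, hchar⟩ := CharP.exists F
  have hp : p.Prime := CharP.char_is_prime F p
  haveI := Fact.mk hp
  refine CfsgLib.Schur.hasCyclicSchurMultiplier_one_of_sylow fun r hr => ?_
  by_cases hrp : r = p
  · subst hrp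
    refine ⟨uSylow r, fun Γ _ _ σ hsurj hcen x hx _ => ?_⟩
    have hu : ((uSylow (F := F) r : Sylow r _) : Subgroup _) = uSubgroup F := rfl
    rw [hu] at hx
    obtain ⟨k, hk, hcard⟩ := card_eq_charPow (F := F) r
    by_cases hcyc : IsCyclic (uSubgroup F)
    · exact CfsgLib.Schur.sylow_condition_of_cyclic σ hcen hcyc x hx
    · have hnp : k ≠ 1 := by
        rintro rfl
        rw [pow_one] at hcard
        exact hcyc (isCyclic_of_prime_card (p := r) (by rw [card_uSubgroup, hcard]))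
      rw [Nat.card_eq_fintype_card] at hcard
      have h2k : 2 ≤ k := by omega
      have hbig : 4 < Fintype.card F ∧ ((2 : F) ≠ 0 → 13 < Fintype.card F) := by
        have hle : r ^ 2 ≤ r ^ k := Nat.pow_le_pow_right hp.pos h2k
        refine ⟨?_, fun h2 => ?_⟩
        · have : 4 ≤ r ^ 2 := by nlinarith [hp.two_le]
          omega
        · have hr2 : r ≠ 2 := by
            rintro rfl
            exact h2 (CharP.cast_eq_zero F 2)
          by_cases hr3 : r = 3
          · subst hr3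
            have hk2 : k ≠ 2 := by rintro rfl; exact h9 (by rw [hcard]; norm_num)
            have : 3 ^ 3 ≤ 3 ^ k := Nat.pow_le_pow_right (by norm_num) (by omega)
            omega
          · have h5 : 5 ≤ r := hp.five_le_of_ne_two_of_ne_three hr2 hr3
            nlinarith
      rw [← Subgroup.mem_bot]
      refine Subgroup.commutator_le.2 ?_ hx
      intro a ha b hb
      rw [Subgroup.mem_bot, commutatorElement_eq_one_iff_mul_comm]
      exact commute_of_root σ hsurj hcen hbig.1 hbig.2 ha hb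
  · obtain ⟨S⟩ : Nonempty (Sylow r (Matrix.SpecialLinearGroup (Fin 2) F)) := inferInstance
    refine ⟨S, fun Γ _ _ σ hsurj hcen x hx hk => ?_⟩
    by_cases hr2 : r = 2
    · subst hr2
      have h2 : (2 : F) ≠ 0 := fun h => hrp ((Nat.prime_dvd_prime_iff_eq hp Nat.prime_two).1
        ((CharP.cast_eq_zero_iff F p 2).1 h)).symm
      obtain ⟨k, -, ⟨e⟩⟩ := sylow_two_SL2 h2 S
      haveI : NeZero (2 ^ k) := ⟨pow_ne_zero _ two_ne_zero⟩
      exact CfsgLib.Schur.sylow_condition_of_trivial σ hsurj hcen e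
        (Cfsg.Agent.S3963.result (2 ^ k)) x hx hk
    · exact CfsgLib.Schur.sylow_condition_of_cyclic σ hcen (sylow_odd_SL2_isCyclic p hr2 hrp S) x hx

end CfsgLib.KnownA.SLTwo
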