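import Mathlib

/-!
# Sylow `2`-subgroups of symmetric and alternating groups are self-normalising

`exists_odd_eq_one_perm`: an element of odd order normalising a Sylow `2`-subgroup of `Sym(n)` is trivial.
`eq_one_of_normalize_sylow_alt`: the same in `A_n` for `n ≥ 6`.
The proof: for a Sylow subgroup `T` the relation "same point stabiliser in `T`" has the bottom pairs as
its classes, so a normalising element permutes these pairs, and one goes down to the pairs.
-/

set_option autoImplicit false

namespace CfsgLib.KnownA.SylowAlt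

open Equiv Equiv.Perm
open scoped Pointwise

variable {m ε : ℕ}

/-- The model point set: `m` pairs and `ε` further points. -/
abbrev Pt (m ε : ℕ) : Type := (Fin m × Fin 2) ⊕ Fin ε

/-- The involution exchanging the two points of every pair. -/
def rho (m ε : ℕ) : Perm (Pt m ε) :=
  Equiv.sumCongr (Equiv.prodCongr (Equiv.refl (Fin m)) (Equiv.swap 0 1)) (Equiv.refl (Fin ε))

/-- The pair of a point. -/
def proj : Pt m ε → Option (Fin m)
  | Sum.inl p => some p.1
  | Sum.inr _ => none

theorem rho_rho (a : Pt m ε) : rho m ε (rho m ε a) = a := by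
  rcases a with ⟨i, b⟩ | c <;> simp [rho]

theorem proj_rho (a : Pt m ε) : proj (rho m ε a) = proj a := by
  rcases a with ⟨i, b⟩ | c <;> simp [rho, proj]

theorem rho_eq_self_iff (a : Pt m ε) : rho m ε a = a ↔ proj a = none := by
  rcases a with ⟨i, b⟩ | c
  · fin_cases b <;> simp [rho, proj]
  · simp [rho, proj]

theorem eq_or_eq_rho (hε : ε ≤ 1) {a b : Pt m ε} (h : proj a = proj b) :
    b = a ∨ b = rho m ε a := by
  rcases a with ⟨i, x⟩ | c <;> rcases b with ⟨j, y⟩ | d
  · obtain rfl : i = j := by simpa [proj] using h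
    fin_cases x <;> fin_cases y <;> simp [rho]
  · simp [proj] at h
  · simp [proj] at h
  · left
    have := c.isLt
    have := d.isLt
    exact congrArg Sum.inr (Fin.ext (by omega))

/-- The centraliser of `rho`. -/
def cent (m ε : ℕ) : Subgroup (Perm (Pt m ε)) := Subgroup.centralizer {rho m ε}

theorem mem_cent_iff {g : Perm (Pt m ε)} :
    g ∈ cent m ε ↔ ∀ a, g (rho m ε a) = rho m ε (g a) := by
  rw [cent, Subgroup.mem_centralizer_singleton_iff]
  constructor
  · intro h a
    exact (congrArg (fun f : Perm (Pt m ε) => f a) h)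
  · intro h
    ext a
    simp [h a]

/-- The pair to which the pair `i` is sent. -/
def pairFun (g : Perm (Pt m ε)) (i : Fin m) : Fin m :=
  Sum.elim Prod.fst (fun _ => i) (g (Sum.inl (i, 0)))

theorem proj_apply {g : Perm (Pt m ε)} (hg : g ∈ cent m ε) (i : Fin m) (b : Fin 2) :
    proj (g (Sum.inl (i, b))) = some (pairFun g i) := by
  have hg' := mem_cent_iff.mp hg
  have h0 : proj (g (Sum.inl (i, 0))) = some (pairFun g i) := by
    rcases hc : g (Sum.inl (i, 0)) with p | c
    · simp [proj, pairFun, hc]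
    · exfalso
      have h1 : rho m ε (g (Sum.inl (i, 0))) = g (Sum.inl (i, 0)) := by
        rw [hc]; simp [rho]
      rw [← hg', g.injective.eq_iff, rho_eq_self_iff] at h1
      simp [proj] at h1
  fin_cases b
  · exact h0
  · have : (Sum.inl (i, 1) : Pt m ε) = rho m ε (Sum.inl (i, 0)) := by simp [rho]
    show proj (g (Sum.inl (i, 1))) = _
    rw [this, hg', proj_rho, h0]

theorem pairFun_mul (g h : cent m ε) (i : Fin m) :
    pairFun ((g : Perm (Pt m ε)) * (h : Perm (Pt m ε))) i =
      pairFun (g : Perm (Pt m ε)) (pairFun (h : Perm (Pt m ε)) i) := by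
  have h1 := proj_apply (g * h).2 i 0
  have h2 := proj_apply h.2 i 0
  rcases hc : (h : Perm (Pt m ε)) (Sum.inl (i, 0)) with ⟨j, b⟩ | c
  · rw [hc] at h2
    obtain rfl : j = pairFun (h : Perm (Pt m ε)) i := by simpa [proj] using h2
    have h3 := proj_apply g.2 (pairFun (h : Perm (Pt m ε)) i) b
    rw [Subgroup.coe_mul, Perm.mul_apply, hc, h3] at h1
    exact (Option.some_injective _ h1).symm
  · rw [hc] at h2
    simp [proj] at h2

theorem pairFun_one (i : Fin m) : pairFun (1 : Perm (Pt m ε)) i = i := rfl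

/-- The action on the pairs. -/
def pairHom (m ε : ℕ) : cent m ε →* Perm (Fin m) where
  toFun g :=
    { toFun := pairFun (g : Perm (Pt m ε))
      invFun := pairFun ((g⁻¹ : cent m ε) : Perm (Pt m ε))
      left_inv := fun i => by
        rw [← pairFun_mul, ← Subgroup.coe_mul, inv_mul_cancel, Subgroup.coe_one, pairFun_one]
      right_inv := fun i => by
        rw [← pairFun_mul, ← Subgroup.coe_mul, mul_inv_cancel, Subgroup.coe_one, pairFun_one] }
  map_one' := Equiv.ext fun i => pairFun_one (ε := ε) i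
  map_mul' g h := Equiv.ext fun i => pairFun_mul g h i

theorem pairHom_surjective (m ε : ℕ) : Function.Surjective (pairHom m ε) := by
  intro σ
  refine ⟨⟨Equiv.sumCongr (Equiv.prodCongr σ (Equiv.refl _)) (Equiv.refl _), ?_⟩, ?_⟩
  · rw [mem_cent_iff]
    rintro (⟨i, b⟩ | c) <;> simp [rho]
  · ext i
    simp [pairHom, pairFun]

theorem mul_self_of_mem_ker (hε : ε ≤ 1) {g : cent m ε} (hg : pairHom m ε g = 1) : g * g = 1 := by
  have hg' := mem_cent_iff.mp g.2
  apply Subtype.ext
  apply Equiv.ext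
  intro a
  have hp : proj ((g : Perm (Pt m ε)) a) = proj a := by
    rcases a with ⟨i, b⟩ | c
    · rw [proj_apply g.2]
      have h1 : pairFun (g : Perm (Pt m ε)) i = i := congrArg (fun f : Perm (Fin m) => f i) hg
      rw [h1]; rfl
    · have h1 : rho m ε ((g : Perm (Pt m ε)) (Sum.inr c)) = (g : Perm (Pt m ε)) (Sum.inr c) := by
        rw [← hg']; simp [rho]
      rw [rho_eq_self_iff] at h1
      rw [h1]; rfl
  show (g : Perm (Pt m ε)) ((g : Perm (Pt m ε)) a) = a
  rcases eq_or_eq_rho hε hp.symm with h | h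
  · rw [h, h]
  · rw [h, hg', h, rho_rho]

theorem isPGroup_ker (hε : ε ≤ 1) : IsPGroup 2 (pairHom m ε).ker := by
  intro g
  refine ⟨1, Subtype.ext ?_⟩
  rw [SubmonoidClass.coe_pow, pow_one, pow_two]
  exact mul_self_of_mem_ker hε g.2

/-- Independent exchanges inside the pairs. -/
def flipHom (m ε : ℕ) : (Fin m → Perm (Fin 2)) →* cent m ε where
  toFun f := ⟨Equiv.sumCongr (Equiv.prodCongrRight f) (Equiv.refl _), by
    rw [mem_cent_iff]
    rintro (⟨i, b⟩ | c)
    · have h2 : ∀ σ : Perm (Fin 2), ∀ b, σ (Equiv.swap 0 1 b) = Equiv.swap 0 1 (σ b) := by decide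
      simp [rho, h2]
    · simp [rho]⟩
  map_one' := by
    ext a; rcases a with ⟨i, b⟩ | c <;> simp
  map_mul' f g := by
    ext a; rcases a with ⟨i, b⟩ | c <;> simp

theorem flipHom_mem_ker (f : Fin m → Perm (Fin 2)) : flipHom m ε f ∈ (pairHom m ε).ker := by
  rw [MonoidHom.mem_ker]
  ext i
  simp [pairHom, pairFun, flipHom]

theorem flipHom_injective : Function.Injective (flipHom m ε) := by
  intro f g h
  funext i
  ext b
  have := congrArg (fun t : cent m ε => (t : Perm (Pt m ε)) (Sum.inl (i, b))) h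
  simpa [flipHom] using congrArg (fun x : Pt m ε => Sum.elim (fun p => p.2.val) (fun _ => 0) x) this

theorem two_pow_val_dvd (hε : ε ≤ 1) :
    2 ^ (Nat.card (Perm (Pt m ε))).factorization 2 ∣ Nat.card (cent m ε) := by
  have : Fact (Nat.Prime 2) := ⟨Nat.prime_two⟩
  have h1 : Nat.card (Perm (Pt m ε)) = (2 * m + ε).factorial := by
    rw [Nat.card_perm]; simp [mul_comm]
  have h2 : (Nat.card (Perm (Pt m ε))).factorization 2 = m + padicValNat 2 m.factorial := by
    rw [h1, Nat.factorization_def _ Nat.prime_two, padicValNat_factorial_mul_add m (by omega),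
      padicValNat_factorial_mul]
    omega
  rw [h2, pow_add]
  have hker : 2 ^ m ∣ Nat.card (pairHom m ε).ker := by
    have h3 : Nat.card (flipHom m ε).range = 2 ^ m := by
      rw [← Nat.card_congr (MonoidHom.ofInjective (flipHom_injective (m := m) (ε := ε))).toEquiv,
        Nat.card_fun, Nat.card_perm]
      simp
    rw [← h3]
    apply Subgroup.card_dvd_of_le
    rintro _ ⟨f, rfl⟩
    exact flipHom_mem_ker f
  have hidx : (pairHom m ε).ker.index = m.factorial := by
    rw [Subgroup.index_ker, MonoidHom.range_eq_top.mpr (pairHom_surjective m ε),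
      Subgroup.card_top, Nat.card_perm, Nat.card_fin]
  rw [← Subgroup.card_mul_index (pairHom m ε).ker, hidx]
  exact mul_dvd_mul hker pow_padicValNat_dvd

/-- A Sylow `2`-subgroup of the model that lies in `cent`, contains all flips and covers a Sylow subgroup. -/
theorem exists_sylow (hε : ε ≤ 1) :
    ∃ (P : Sylow 2 (cent m ε)) (Q : Sylow 2 (Perm (Pt m ε))),
      (Q : Subgroup (Perm (Pt m ε))) = (P : Subgroup (cent m ε)).map (cent m ε).subtype ∧
      ∀ f, flipHom m ε f ∈ P := by
  have : Fact (Nat.Prime 2) := ⟨Nat.prime_two⟩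
  obtain ⟨P⟩ : Nonempty (Sylow 2 (cent m ε)) := inferInstance
  have hc : Nat.card ↥((P : Subgroup (cent m ε)).map (cent m ε).subtype) =
      2 ^ (Nat.card (Perm (Pt m ε))).factorization 2 := by
    rw [Subgroup.card_map_of_injective (Subgroup.subtype_injective _), P.card_eq_multiplicity]
    congr 1
    apply le_antisymm
    · exact (Nat.factorization_le_iff_dvd Nat.card_pos.ne' Nat.card_pos.ne').mpr
        (Subgroup.card_subgroup_dvd_card _) 2
    · exact (Nat.Prime.pow_dvd_iff_le_factorization Nat.prime_two Nat.card_pos.ne').mp (two_pow_val_dvd hε)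
  refine ⟨P, Sylow.ofCard _ hc, rfl, fun f => ?_⟩
  exact (isPGroup_ker hε).le_sylow_of_normal P (flipHom_mem_ker f)

/-- The key step: a normalising element respects the pairs. -/
theorem mem_cent_of_normalize (hε : ε ≤ 1) (T : Subgroup (Perm (Pt m ε))) (hT : T ≤ cent m ε)
    (hE : ∀ (i : Fin m) (b : Pt m ε), proj b ≠ some i →
      ∃ e ∈ T, e (Sum.inl (i, 0)) ≠ Sum.inl (i, 0) ∧ e b = b)
    {x : Perm (Pt m ε)} (hx : x ∈ Subgroup.normalizer (T : Set (Perm (Pt m ε)))) : x ∈ cent m ε := by
  let R : Pt m ε → Pt m ε → Prop := fun a b => ∀ t ∈ T, (t a = a ↔ t b = b)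
  have hrho : ∀ a, R a (rho m ε a) := by
    intro a t ht
    rw [mem_cent_iff.mp (hT ht), (rho m ε).injective.eq_iff]
  have hsep : ∀ (i : Fin m) (c : Fin 2) (b : Pt m ε), proj b ≠ some i → ¬ R (Sum.inl (i, c)) b := by
    intro i c b hb hR
    obtain ⟨e, he, he0, heb⟩ := hE i b hb
    have h1 := (hR e he).mpr heb
    fin_cases c
    · exact he0 h1
    · apply he0
      have h01 : (Sum.inl (i, 1) : Pt m ε) = rho m ε (Sum.inl (i, 0)) := by simp [rho]
      change e (Sum.inl (i, 1)) = Sum.inl (i, 1) at h1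
      rwa [h01, mem_cent_iff.mp (hT he), (rho m ε).injective.eq_iff] at h1
  have hproj : ∀ a b, R a b → proj a = proj b := by
    intro a b hR
    by_contra hne
    rcases a with ⟨i, c⟩ | c
    · exact hsep i c b (Ne.symm hne) hR
    · rcases b with ⟨i, d⟩ | d
      · exact hsep i d _ hne (fun t ht => (hR t ht).symm)
      · exact hne rfl
  have hxR : ∀ a b, R (x a) (x b) ↔ R a b := by
    intro a b
    constructor
    · intro h t ht
      have := h (x * t * x⁻¹) ((Subgroup.mem_normalizer_iff.mp hx t).mp ht)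
      simpa using this
    · intro h t ht
      have hm : x⁻¹ * t * x ∈ T := by
        rw [Subgroup.mem_normalizer_iff.mp hx]
        simpa [mul_assoc] using ht
      have := h _ hm
      simpa [Perm.inv_eq_iff_eq, Equiv.symm_apply_eq] using this
  rw [mem_cent_iff]
  intro a
  by_cases ha : rho m ε a = a
  · rw [ha]
    obtain ⟨b, hb⟩ := x.surjective (rho m ε (x a))
    have h1 : R a b := by
      rw [← hxR, hb]
      exact hrho _
    rcases eq_or_eq_rho hε (hproj a b h1) with h | h
    · rw [← hb, h]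
    · rw [← hb, h, ha]
  · rcases eq_or_eq_rho hε (hproj _ _ ((hxR _ _).mpr (hrho a))) with h | h
    · exact absurd (x.injective h) ha
    · exact h

/-- Descent step. -/
theorem eq_one_of_step (hε : ε ≤ 1)
    (IH : ∀ (P : Sylow 2 (Perm (Fin m))) (y : Perm (Fin m)),
      y ∈ Subgroup.normalizer ((P : Subgroup (Perm (Fin m))) : Set (Perm (Fin m))) → Odd (orderOf y) → y = 1)
    (P : Sylow 2 (cent m ε)) (T : Subgroup (Perm (Pt m ε))) (hT : T ≤ cent m ε)
    (hTP : (T.subgroupOf (cent m ε)).map (pairHom m ε) = (P : Subgroup (cent m ε)).map (pairHom m ε))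
    (hE : ∀ (i : Fin m) (b : Pt m ε), proj b ≠ some i →
      ∃ e ∈ T, e (Sum.inl (i, 0)) ≠ Sum.inl (i, 0) ∧ e b = b)
    {x : Perm (Pt m ε)} (hx : x ∈ Subgroup.normalizer (T : Set (Perm (Pt m ε)))) (hodd : Odd (orderOf x)) :
    x = 1 := by
  have : Fact (Nat.Prime 2) := ⟨Nat.prime_two⟩
  have hxc := mem_cent_of_normalize hε T hT hE hx
  let y : cent m ε := ⟨x, hxc⟩
  have hy : orderOf y = orderOf x := Subgroup.orderOf_mk x hxc
  have hyn : y ∈ Subgroup.normalizer ((T.subgroupOf (cent m ε) : Subgroup (cent m ε)) : Set (cent m ε)) := by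
    rw [Subgroup.mem_normalizer_iff]
    intro z
    exact Subgroup.mem_normalizer_iff.mp hx z
  have h1 : pairHom m ε y = 1 := by
    refine IH (P.mapSurjective (pairHom_surjective m ε)) _ ?_ (hodd.of_dvd_nat ?_)
    · rw [Sylow.coe_mapSurjective, ← hTP]
      exact Subgroup.le_normalizer_map _ (Subgroup.mem_map_of_mem _ hyn)
    · exact hy ▸ orderOf_map_dvd _ y
  have h2 : orderOf x ∣ 2 := by
    apply orderOf_dvd_of_pow_eq_one
    rw [pow_two]
    exact congrArg Subtype.val (mul_self_of_mem_ker hε h1)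
  have h3 : orderOf x = 1 := by
    rcases (Nat.dvd_prime Nat.prime_two).mp h2 with h | h
    · exact h
    · rw [h] at hodd; exact absurd hodd (by decide)
  exact orderOf_eq_one_iff.mp h3

/-- Exchange of the two points of the pair `i`. -/
def flip1 (m ε : ℕ) (i : Fin m) : Perm (Pt m ε) :=
  (flipHom m ε (Pi.mulSingle i (Equiv.swap 0 1)) : cent m ε)

theorem flip1_self (i : Fin m) : flip1 m ε i (Sum.inl (i, 0)) = Sum.inl (i, 1) := by
  simp [flip1, flipHom]

theorem flip1_of_ne {i : Fin m} {b : Pt m ε} (hb : proj b ≠ some i) : flip1 m ε i b = b := by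
  rcases b with ⟨j, c⟩ | c
  · have hj : j ≠ i := fun h => hb (by simp [proj, h])
    simp [flip1, flipHom, Pi.mulSingle_eq_of_ne hj]
  · simp [flip1, flipHom]

theorem sign_flip1 (i : Fin m) : sign (flip1 m ε i) = -1 := by
  have h : flip1 m ε i = Equiv.swap (Sum.inl (i, 0)) (Sum.inl (i, 1)) := by
    apply Equiv.ext
    intro a
    by_cases ha : proj a = some i
    · rcases a with ⟨j, c⟩ | c
      · obtain rfl : j = i := by simpa [proj] using ha
        fin_cases c <;> simp [flip1, flipHom]
      · simp [proj] at ha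
    · rw [flip1_of_ne ha, Equiv.swap_apply_of_ne_of_ne]
      · rintro rfl; exact ha rfl
      · rintro rfl; exact ha rfl
  rw [h, sign_swap]
  simp

/-- A Sylow subgroup of any finite group goes to any given one by a conjugation-composed isomorphism. -/
theorem exists_iso_map_sylow {G H : Type*} [Group G] [Finite G] [Group H] [Finite H] {p : ℕ} [Fact p.Prime]
    (e : G ≃* H) (P : Sylow p G) (Q : Sylow p H) :
    ∃ h : H, (P : Subgroup G).map ((e.trans (MulAut.conj h)).toMonoidHom) = (Q : Subgroup H) := by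
  obtain ⟨h, hh⟩ := MulAction.exists_smul_eq H (P.mapSurjective (f := e.toMonoidHom) (by exact e.surjective)) Q
  refine ⟨h, ?_⟩
  rw [← hh, Sylow.coe_subgroup_smul]
  show (P : Subgroup G).map ((e.trans (MulAut.conj h)).toMonoidHom) =
    MulAut.conj h • (P : Subgroup G).map e.toMonoidHom
  rw [Subgroup.pointwise_smul_def]
  exact (Subgroup.map_map (P : Subgroup G) (MulAut.conj h).toMonoidHom e.toMonoidHom).symm

/-- An element of odd order normalising a Sylow `2`-subgroup of `Sym(n)` is trivial. -/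
theorem eq_one_of_normalize_sylow_perm :
    ∀ (n : ℕ) (P : Sylow 2 (Perm (Fin n))) (y : Perm (Fin n)),
      y ∈ Subgroup.normalizer ((P : Subgroup (Perm (Fin n))) : Set (Perm (Fin n))) → Odd (orderOf y) → y = 1 := by
  intro n
  induction n using Nat.strong_induction_on with
  | _ n ih =>
    intro P y hy hodd
    rcases Nat.eq_zero_or_pos n with rfl | hn
    · exact Subsingleton.elim _ _
    have : Fact (Nat.Prime 2) := ⟨Nat.prime_two⟩
    have hε : n % 2 ≤ 1 := by omega
    let e : Fin n ≃ Pt (n / 2) (n % 2) := Fintype.equivOfCardEq (by simp; omega)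
    obtain ⟨P₀, Q, hQ, hflip⟩ := exists_sylow (m := n / 2) hε
    obtain ⟨h, hh⟩ := exists_iso_map_sylow e.permCongrHom P Q
    let ψ := e.permCongrHom.trans (MulAut.conj h)
    have hψy : ψ y ∈ Subgroup.normalizer ((Q : Subgroup (Perm (Pt (n / 2) (n % 2)))) : Set (Perm (Pt (n / 2) (n % 2)))) := by
      rw [← hh]
      exact Subgroup.le_normalizer_map _ (Subgroup.mem_map_of_mem _ hy)
    have hQc : (Q : Subgroup (Perm (Pt (n / 2) (n % 2)))) ≤ cent _ _ := by
      rw [hQ]; exact Subgroup.map_subtype_le _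
    have hrel : (Q : Subgroup (Perm (Pt (n / 2) (n % 2)))).subgroupOf (cent (n / 2) (n % 2)) =
        (P₀ : Subgroup (cent (n / 2) (n % 2))) := by
      rw [hQ, Subgroup.subgroupOf, Subgroup.comap_map_eq_self_of_injective (Subgroup.subtype_injective _)]
    have h1 : ψ y = 1 := by
      refine eq_one_of_step hε (ih (n / 2) (by omega)) P₀ _ hQc (by rw [hrel]) ?_ hψy ?_
      · intro i b hb
        refine ⟨flip1 _ _ i, ?_, ?_, flip1_of_ne hb⟩
        · rw [hQ]; exact Subgroup.mem_map_of_mem _ (hflip _)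
        · rw [flip1_self]; simp
      · rw [MulEquiv.orderOf_eq]; exact hodd
    exact ψ.injective (h1.trans (map_one ψ).symm)

/-- An element of odd order normalising a Sylow `2`-subgroup of `A_n`, `n ≥ 6`, is trivial. -/
theorem eq_one_of_normalize_sylow_alt (n : ℕ) (hn : 6 ≤ n) (S : Sylow 2 (alternatingGroup (Fin n)))
    {y : alternatingGroup (Fin n)}
    (hy : y ∈ Subgroup.normalizer ((S : Subgroup (alternatingGroup (Fin n))) : Set (alternatingGroup (Fin n))))
    (hodd : Odd (orderOf y)) : y = 1 := by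
  have : Fact (Nat.Prime 2) := ⟨Nat.prime_two⟩
  have hε : n % 2 ≤ 1 := by omega
  let e : Fin n ≃ Pt (n / 2) (n % 2) := Fintype.equivOfCardEq (by simp; omega)
  obtain ⟨P₀, Q, hQ, hflip⟩ := exists_sylow (m := n / 2) hε
  let A := alternatingGroup (Fin n)
  let T₀ : Subgroup (Perm (Fin n)) := (S : Subgroup A).map A.subtype
  obtain ⟨P, hP⟩ := (S.isPGroup'.map A.subtype).exists_le_sylow
  obtain ⟨h, hh⟩ := exists_iso_map_sylow e.permCongrHom P Q
  let ψ := e.permCongrHom.trans (MulAut.conj h)
  let T : Subgroup (Perm (Pt (n / 2) (n % 2))) := T₀.map ψ.toMonoidHom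
  have hsign : ∀ g, sign (ψ g) = sign g := by
    intro g
    show sign (h * e.permCongr g * h⁻¹) = sign g
    rw [map_mul, map_mul, map_inv, mul_comm, inv_mul_cancel_left, sign_permCongr]
  have hTQ : T ≤ (Q : Subgroup (Perm (Pt (n / 2) (n % 2)))) := hh ▸ Subgroup.map_mono hP
  have hmem : ∀ g ∈ (Q : Subgroup (Perm (Pt (n / 2) (n % 2)))), sign g = 1 → g ∈ T := by
    intro g hg hs
    rw [← hh] at hg
    obtain ⟨g₀, hg₀, rfl⟩ := hg
    have hA : g₀ ∈ A := by
      rw [Equiv.Perm.mem_alternatingGroup, ← hsign]; exact hs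
    have hpg : IsPGroup 2 ((P : Subgroup (Perm (Fin n))).comap A.subtype) :=
      P.isPGroup'.comap_of_injective _ (Subgroup.subtype_injective _)
    have hS : (P : Subgroup (Perm (Fin n))).comap A.subtype = S :=
      S.is_maximal' hpg (Subgroup.map_le_iff_le_comap.mp hP)
    refine Subgroup.mem_map_of_mem _ ⟨⟨g₀, hA⟩, ?_, rfl⟩
    show (⟨g₀, hA⟩ : A) ∈ (S : Subgroup A)
    rw [← hS]
    exact hg₀
  have hQc : (Q : Subgroup (Perm (Pt (n / 2) (n % 2)))) ≤ cent _ _ := by
    rw [hQ]; exact Subgroup.map_subtype_le _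
  have hflipQ : ∀ i, flip1 (n / 2) (n % 2) i ∈ (Q : Subgroup (Perm (Pt (n / 2) (n % 2)))) := fun i => by
    rw [hQ]; exact Subgroup.mem_map_of_mem _ (hflip _)
  have hrel : (T.subgroupOf (cent _ _)).map (pairHom (n / 2) (n % 2)) =
      (P₀ : Subgroup (cent (n / 2) (n % 2))).map (pairHom _ _) := by
    apply le_antisymm
    · apply Subgroup.map_mono
      intro g hg
      obtain ⟨g', hg', heq⟩ := (hQ ▸ hTQ hg : (g : Perm (Pt (n / 2) (n % 2))) ∈
        (P₀ : Subgroup (cent (n / 2) (n % 2))).map (cent (n / 2) (n % 2)).subtype)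
      exact Subtype.ext heq ▸ hg'
    · rintro _ ⟨g, hg, rfl⟩
      have hgQ : (g : Perm (Pt (n / 2) (n % 2))) ∈ (Q : Subgroup (Perm (Pt (n / 2) (n % 2)))) := by
        rw [hQ]; exact Subgroup.mem_map_of_mem _ hg
      rcases Int.units_eq_one_or (sign (g : Perm (Pt (n / 2) (n % 2)))) with hs | hs
      · exact ⟨g, hmem _ hgQ hs, rfl⟩
      · let i : Fin (n / 2) := ⟨0, by omega⟩
        let f : cent (n / 2) (n % 2) := flipHom _ _ (Pi.mulSingle i (Equiv.swap 0 1))
        refine ⟨g * f, hmem _ (mul_mem hgQ (hflipQ i)) ?_, ?_⟩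
        · show sign ((g : Perm (Pt (n / 2) (n % 2))) * flip1 _ _ i) = 1
          rw [map_mul, hs, sign_flip1]; rfl
        · rw [map_mul, MonoidHom.mem_ker.mp (flipHom_mem_ker _), mul_one]
  have h1 : ψ y.1 = 1 := by
    refine eq_one_of_step hε (eq_one_of_normalize_sylow_perm _) P₀ T (hTQ.trans hQc) hrel ?_ ?_ ?_
    · intro i b hb
      obtain ⟨k, hki, hkb⟩ : ∃ k : Fin (n / 2), k ≠ i ∧ proj b ≠ some k := by
        have h3 : ∀ s : Finset (Fin (n / 2)), s.card ≤ 2 → ∃ k, k ∉ s := by
          intro s hs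
          by_contra hc
          push Not at hc
          have := Finset.card_le_card (fun k _ => hc k : (Finset.univ : Finset (Fin (n / 2))) ⊆ s)
          simp at this; omega
        rcases hpb : proj b with _ | j
        · obtain ⟨k, hk⟩ := h3 {i} (by simp)
          exact ⟨k, by simpa using hk, by simp⟩
        · obtain ⟨k, hk⟩ := h3 {i, j} Finset.card_le_two
          simp only [Finset.mem_insert, Finset.mem_singleton, not_or] at hk
          exact ⟨k, hk.1, by simpa using Ne.symm hk.2⟩
      refine ⟨flip1 _ _ i * flip1 _ _ k, hmem _ (mul_mem (hflipQ i) (hflipQ k)) ?_, ?_, ?_⟩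
      · rw [map_mul, sign_flip1, sign_flip1]; rfl
      · rw [Perm.mul_apply, flip1_of_ne (i := k) (b := Sum.inl (i, 0)) (by simp [proj, hki.symm]), flip1_self]; simp
      · rw [Perm.mul_apply, flip1_of_ne hkb, flip1_of_ne hb]
    · exact Subgroup.le_normalizer_map _ (Subgroup.mem_map_of_mem _
        (Subgroup.le_normalizer_map _ (Subgroup.mem_map_of_mem _ hy)))
    · rw [MulEquiv.orderOf_eq, Subgroup.orderOf_coe]; exact hodd
  exact Subtype.ext (ψ.injective (h1.trans (map_one ψ).symm))

/-- Sylow `2`-subgroups of `A_n`, `n ≥ 6`, are self-normalising. -/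
theorem normalizer_sylow_alt (n : ℕ) (hn : 6 ≤ n) (S : Sylow 2 (alternatingGroup (Fin n))) :
    Subgroup.normalizer ((S : Subgroup (alternatingGroup (Fin n))) : Set (alternatingGroup (Fin n))) =
      (S : Subgroup (alternatingGroup (Fin n))) := by
  have : Fact (Nat.Prime 2) := ⟨Nat.prime_two⟩
  refine S.is_maximal' ?_ Subgroup.le_normalizer
  intro g
  have hpos : 0 < orderOf (g : alternatingGroup (Fin n)) := orderOf_pos _
  obtain ⟨k, r, hr, hkr⟩ := Nat.exists_eq_two_pow_mul_odd hpos.ne'
  refine ⟨k, Subtype.ext ?_⟩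
  rw [SubmonoidClass.coe_pow]
  apply eq_one_of_normalize_sylow_alt n hn S
  · exact pow_mem g.2 _
  · rw [orderOf_pow' _ (by positivity), hkr, Nat.gcd_eq_right (Dvd.intro r rfl),
      Nat.mul_div_cancel_left _ (by positivity)]
    exact hr

end CfsgLib.KnownA.SylowAlt
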