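import Mathlib
import Cfsg.Agent.Lib.PGroups.Basic

/-!
Invariant sets of Sylow `2`-subgroups of symmetric groups and groups transitive off a fixed point.
-/

set_option autoImplicit false

namespace CfsgLib.KnownA.SylowTwoSets

open Equiv MulAction Finset
open scoped Pointwise commutatorElement

variable {Ω : Type*} [Fintype Ω] [DecidableEq Ω]

/-- `C(2^k + r, 2^k)` is odd for `r < 2^k`. -/
theorem odd_choose_top {k r : ℕ} (hr : r < 2 ^ k) : Odd ((2 ^ k + r).choose (2 ^ k)) := by
  haveI : Fact (Nat.Prime 2) := ⟨Nat.prime_two⟩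
  have h0 : padicValNat 2 ((2 ^ k + r).choose (2 ^ k)) = 0 := by
    rw [padicValNat_choose (b := Nat.log 2 (2 ^ k + r) + 1) (Nat.le_add_right _ _) (Nat.lt_succ_self _),
      Finset.card_eq_zero, Finset.filter_eq_empty_iff]
    intro i _
    rw [not_le, Nat.add_sub_cancel_left]
    rcases le_or_gt i k with hi | hi
    · rw [Nat.mod_eq_zero_of_dvd (pow_dvd_pow 2 hi), zero_add]
      exact Nat.mod_lt _ (pow_pos two_pos i)
    · have h2 : 2 ^ (k + 1) ≤ 2 ^ i := Nat.pow_le_pow_right two_pos hi
      rw [pow_succ] at h2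
      rw [Nat.mod_eq_of_lt (a := 2 ^ k) (by omega), Nat.mod_eq_of_lt (a := r) (by omega)]
      omega
  rw [padicValNat.eq_zero_iff] at h0
  rcases h0 with h | h | h
  · norm_num at h
  · exact absurd h (Nat.choose_pos (Nat.le_add_right _ _)).ne'
  · exact Nat.odd_iff.2 (by omega)

/-- `C(2^k + 1, a)` is even for `2 ≤ a < 2^k`. -/
theorem even_choose_succ {k a : ℕ} (h2 : 2 ≤ a) (ha : a < 2 ^ k) : Even ((2 ^ k + 1).choose a) := by
  obtain ⟨b, rfl⟩ : ∃ b, a = b + 1 := ⟨a - 1, by omega⟩
  rw [Nat.choose_succ_succ', even_iff_two_dvd]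
  exact dvd_add (Nat.prime_two.dvd_choose_pow (by omega) (by omega))
    (Nat.prime_two.dvd_choose_pow (by omega) (by omega))

/-- `C(2^k, a)` is even for `0 < a < 2^k`. -/
theorem even_choose_pow {k a : ℕ} (h0 : 0 < a) (ha : a < 2 ^ k) : Even ((2 ^ k).choose a) :=
  even_iff_two_dvd.2 (Nat.prime_two.dvd_choose_pow (by omega) (by omega))

/-- A Sylow `2`-subgroup fixes a set of each size with odd binomial coefficient. -/
theorem exists_invariant (Q : Sylow 2 (Perm Ω)) (a : ℕ) (h : Odd ((Fintype.card Ω).choose a)) :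
    ∃ O : Set Ω, O.ncard = a ∧ ∀ g ∈ (Q : Subgroup (Perm Ω)), g • O = O := by
  haveI : Fact (Nat.Prime 2) := ⟨Nat.prime_two⟩
  obtain ⟨s, hs⟩ := Q.2.nonempty_fixed_point_of_prime_not_dvd_card (Set.powersetCard Ω a) (by
    rw [Set.powersetCard.card, Nat.card_eq_fintype_card]
    exact fun hd => (Nat.not_even_iff_odd.2 h) (even_iff_two_dvd.2 hd))
  refine ⟨((s : Finset Ω) : Set Ω), by rw [Set.ncard_coe_finset]; exact s.2, fun g hg => ?_⟩
  have h1 := congrArg (fun t : Set.powersetCard Ω a => ((t : Finset Ω) : Set Ω)) (hs ⟨g, hg⟩)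
  simpa [Subgroup.smul_def, Finset.coe_smul_finset] using h1

/-- A set invariant under a Sylow `2`-subgroup has odd binomial coefficient. -/
theorem odd_choose_of_invariant (Q : Sylow 2 (Perm Ω)) (O : Set Ω)
    (hO : ∀ g ∈ (Q : Subgroup (Perm Ω)), g • O = O) : Odd ((Fintype.card Ω).choose O.ncard) := by
  classical
  have hmem : ∀ g ∈ (Q : Subgroup (Perm Ω)), ∀ x, g x ∈ O ↔ x ∈ O := fun g hg x => by
    conv_lhs => rw [← hO g hg]
    exact Set.smul_mem_smul_set_iff
  let φ : (Q : Subgroup (Perm Ω)) →* Perm {x // x ∈ O} × Perm {x // x ∉ O} :=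
    { toFun := fun g => ((g : Perm Ω).subtypePerm (hmem g g.2),
        (g : Perm Ω).subtypePerm fun x => not_congr (hmem g g.2 x))
      map_one' := by ext <;> simp
      map_mul' := fun g h => by ext <;> rfl }
  have hφ : Function.Injective φ := fun g h e => by
    refine Subtype.ext (Equiv.ext fun x => ?_)
    by_cases hx : x ∈ O
    · exact congrArg (fun p : Perm {x // x ∈ O} × Perm {x // x ∉ O} => (p.1 ⟨x, hx⟩).1) e
    · exact congrArg (fun p : Perm {x // x ∈ O} × Perm {x // x ∉ O} => (p.2 ⟨x, hx⟩).1) e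
  have hd := Subgroup.card_dvd_of_injective φ hφ
  have hle : O.ncard ≤ Fintype.card Ω := by
    rw [← Nat.card_eq_fintype_card]; exact Set.ncard_le_card O
  have hc2 : Nat.card {x // x ∉ O} = Fintype.card Ω - O.ncard := by
    rw [← Nat.card_eq_fintype_card, ← Set.ncard_compl, Set.ncard_def]
    exact (Nat.card_coe_set_eq Oᶜ)
  rw [Sylow.card_eq_multiplicity, Nat.card_prod, Nat.card_perm, Nat.card_perm, Nat.card_perm, hc2,
    Nat.card_eq_fintype_card (α := Ω), show Nat.card {x // x ∈ O} = O.ncard from Nat.card_coe_set_eq O] at hd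
  have hne : O.ncard.factorial * (Fintype.card Ω - O.ncard).factorial ≠ 0 :=
    mul_ne_zero (Nat.factorial_ne_zero _) (Nat.factorial_ne_zero _)
  have hv := (Nat.Prime.pow_dvd_iff_le_factorization Nat.prime_two hne).1 hd
  have hc := Nat.choose_mul_factorial_mul_factorial hle
  rw [mul_assoc] at hc
  rw [← hc, Nat.factorization_mul (Nat.choose_pos hle).ne' hne, Finsupp.add_apply] at hv
  rw [← Nat.not_even_iff_odd, even_iff_two_dvd]
  intro h2
  have := Nat.prime_two.factorization_pos_of_dvd (Nat.choose_pos hle).ne' h2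
  omega

/-- A transitive Sylow `2`-subgroup interchanges two halves. -/
theorem exists_halves (Q : Sylow 2 (Perm Ω)) {k : ℕ} (hn : Fintype.card Ω = 2 ^ (k + 1)) :
    ∃ O : Set Ω, O.ncard = 2 ^ k ∧ ∀ g ∈ (Q : Subgroup (Perm Ω)), g • O = O ∨ g • O = Oᶜ := by
  classical
  haveI : Fact (Nat.Prime 2) := ⟨Nat.prime_two⟩
  obtain ⟨x⟩ : Nonempty Ω := Fintype.card_pos_iff.1 (by rw [hn]; positivity)
  set H := (Q : Subgroup (Perm Ω)) with hH
  have horb : orbit H x = Set.univ := by
    have h := odd_choose_of_invariant Q (orbit H x) (fun g hg => smul_orbit (⟨g, hg⟩ : H) x)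
    have hpos : 0 < (orbit H x).ncard := (Set.ncard_pos (Set.toFinite _)).2 ⟨x, mem_orbit_self x⟩
    have hle : (orbit H x).ncard ≤ Fintype.card Ω := by
      rw [← Nat.card_eq_fintype_card]; exact Set.ncard_le_card _
    rw [Set.eq_univ_iff_ncard, Nat.card_eq_fintype_card]
    by_contra hne
    rw [hn] at h
    exact Nat.not_even_iff_odd.2 h (even_choose_pow hpos (by omega))
  have hidx : (stabilizer H x).index = 2 ^ (k + 1) := by
    rw [index_stabilizer, horb, Set.ncard_univ, Nat.card_eq_fintype_card, hn]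
  obtain ⟨M, hM, hMx⟩ : ∃ M : Subgroup H, M.index = 2 ∧ stabilizer H x ≤ M := by
    have hne : stabilizer H x ≠ ⊤ := fun h => by
      rw [h, Subgroup.index_top] at hidx
      have := Nat.one_lt_pow (show k + 1 ≠ 0 by omega) one_lt_two
      omega
    obtain ⟨M, hMc, hMx⟩ := (eq_top_or_exists_le_coatom (stabilizer H x)).resolve_left hne
    exact ⟨M, CfsgLib.PGroups.index_eq_of_isCoatom Q.2 hMc, hMx⟩
  haveI : M.Normal := Subgroup.normal_of_index_eq_two hM
  refine ⟨orbit M x, ?_, fun g hg => ?_⟩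
  · have h1 : (stabilizer M x).index = (orbit M x).ncard := index_stabilizer M x
    have h2 : stabilizer M x = (stabilizer H x).subgroupOf M := rfl
    have h3 := Subgroup.relIndex_mul_index hMx
    rw [Subgroup.relIndex, ← h2, h1, hM, hidx, pow_succ] at h3
    omega
  · have hblock := IsBlock.orbit_of_normal (G := H) (N := M) x
    rcases MulAction.isBlock_iff_smul_eq_or_disjoint.1 hblock ⟨g, hg⟩ with he | hd
    · exact Or.inl he
    · refine Or.inr (Set.eq_of_subset_of_ncard_le ?_ ?_)
      · exact fun y hy hy' => Set.disjoint_left.1 hd hy hy'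
      · rw [Set.ncard_smul_set, Set.ncard_compl, Nat.card_eq_fintype_card, hn, pow_succ]
        have h1 : (stabilizer M x).index = (orbit M x).ncard := index_stabilizer M x
        have h2 : stabilizer M x = (stabilizer H x).subgroupOf M := rfl
        have h3 := Subgroup.relIndex_mul_index hMx
        rw [Subgroup.relIndex, ← h2, h1, hM, hidx, pow_succ] at h3
        omega

/-- A transitive group transitive off one of its points is doubly transitive, so primitive. -/
theorem isPreprimitive_of_transitive_off (G : Subgroup (Perm Ω)) (x : Ω)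
    (htr : ∀ a : Ω, ∃ g ∈ G, g a = x)
    (hoff : ∀ a b : Ω, a ≠ x → b ≠ x → ∃ g ∈ G, g x = x ∧ g a = b) :
    IsPreprimitive G Ω := by
  refine isPreprimitive_of_is_two_pretransitive (is_two_pretransitive_iff.2 ?_)
  intro a b c d hab hcd
  obtain ⟨g, hg, hga⟩ := htr a
  obtain ⟨h, hh, hhc⟩ := htr c
  obtain ⟨r, hr, hrx, hrb⟩ := hoff (g b) (h d)
    (fun e => hab (g.injective (hga.trans e.symm))) (fun e => hcd (h.injective (hhc.trans e.symm)))
  refine ⟨⟨h⁻¹ * r * g, G.mul_mem (G.mul_mem (G.inv_mem hh) hr) hg⟩, ?_, ?_⟩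
  · show h⁻¹ (r (g a)) = c
    rw [hga, hrx, ← hhc, Perm.inv_def, Equiv.symm_apply_apply]
  · show h⁻¹ (r (g b)) = d
    rw [hrb, Perm.inv_def, Equiv.symm_apply_apply]

/-- Two involutions whose supports meet in one point have commutator a three-cycle. -/
theorem isThreeCycle_commutator {g h : Perm Ω} (hg : g * g = 1) (hh : h * h = 1) {p : Ω}
    (hgh : ∀ z, g z ≠ z → h z ≠ z → z = p) (hgp : g p ≠ p) (hhp : h p ≠ p) :
    (⁅g, h⁆ : Perm Ω).IsThreeCycle := by
  have hg' : g⁻¹ = g := inv_eq_of_mul_eq_one_right hg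
  have hh' : h⁻¹ = h := inv_eq_of_mul_eq_one_right hh
  have hgg : ∀ z, g (g z) = z := fun z => by rw [← Perm.mul_apply, hg, Perm.one_apply]
  have hhh : ∀ z, h (h z) = z := fun z => by rw [← Perm.mul_apply, hh, Perm.one_apply]
  have hgq : g (h p) = h p := by
    by_contra hc
    exact hhp (hgh _ hc (by rw [hhh]; exact hhp.symm))
  have hhq : h (g p) = g p := by
    by_contra hc
    exact hgp (hgh _ (by rw [hgg]; exact hgp.symm) hc)
  have hne : g p ≠ h p := fun e => hgp (by have := hgq; rw [← e, hgg] at this; exact this.symm)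
  have hval : ⁅g, h⁆ = swap p (h p) * swap p (g p) := by
    rw [commutatorElement_def, hg', hh']
    ext z
    simp only [Perm.mul_apply]
    by_cases h1 : z = p
    · subst h1
      rw [hgq, hhh, swap_apply_left, swap_apply_of_ne_of_ne hgp hne]
    by_cases h2 : z = g p
    · subst h2
      rw [hhq, hgg, hgq, swap_apply_right, swap_apply_left]
    by_cases h3 : z = h p
    · subst h3
      rw [hhh, hhq, hgg, swap_apply_of_ne_of_ne hhp hne.symm, swap_apply_right]
    rw [swap_apply_of_ne_of_ne h1 h2, swap_apply_of_ne_of_ne h1 h3]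
    by_cases hz : h z = z
    · rw [hz]
      by_cases hgz : g z = z
      · rw [hgz, hz, hgz]
      · have : h (g z) = g z := by
          by_contra hc
          exact h2 (by rw [← hgh (g z) (by rw [hgg]; exact Ne.symm hgz) hc, hgg])
        rw [this, hgg]
    · have hw : g (h z) = h z := by
        by_contra hc
        exact h3 (by rw [← hgh (h z) hc (by rw [hhh]; exact Ne.symm hz), hhh])
      have hgz : g z = z := by
        by_contra hc
        exact h1 (hgh z hc hz)
      rw [hw, hhh, hgz]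
  rw [hval]
  exact Perm.isThreeCycle_swap_mul_swap_same hhp.symm hgp.symm hne.symm

end CfsgLib.KnownA.SylowTwoSets
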