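import Mathlib
import Cfsg.Agent.Lib.KnownA.SylowAlt
import Cfsg.Agent.Lib.KnownA.SylowTwoSets
import Cfsg.Agent.Lib.Maximal.AltPartition

/-!
When a Sylow `2`-subgroup of `Sₙ` or `Aₙ` lies in a unique maximal subgroup.
-/

set_option autoImplicit false

namespace CfsgLib.KnownA.SylowTwoUnique

open Equiv Equiv.Perm MulAction CfsgLib.KnownA.SylowAlt CfsgLib.KnownA.SylowTwoSets CfsgLib.Maximal
open scoped Pointwise commutatorElement

/-- Contained in exactly one maximal subgroup. -/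
def Uniq {G : Type*} [Group G] (R : Subgroup G) : Prop := ∃! M : Subgroup G, IsCoatom M ∧ R ≤ M

theorem uniq_map {G H : Type*} [Group G] [Group H] (e : G ≃* H) (R : Subgroup G) :
    Uniq (R.map e.toMonoidHom) ↔ Uniq R := by
  refine (Equiv.existsUnique_congr e.mapSubgroup.toEquiv fun {M} => ?_).symm
  show _ ↔ IsCoatom (e.mapSubgroup M) ∧ e.mapSubgroup R ≤ e.mapSubgroup M
  rw [OrderIso.isCoatom_iff, OrderIso.le_iff_le]

theorem uniq_sylow_iff {G H : Type*} [Group G] [Finite G] [Group H] [Finite H] {p : ℕ} [Fact p.Prime]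
    (e : G ≃* H) (P : Sylow p G) (Q : Sylow p H) :
    Uniq (P : Subgroup G) ↔ Uniq (Q : Subgroup H) := by
  obtain ⟨h, hh⟩ := exists_iso_map_sylow e P Q
  rw [← hh, uniq_map]

theorem not_uniq {Γ : Type*} [Group Γ] [Finite Γ] {R K1 K2 : Subgroup Γ} (h1 : R ≤ K1) (hK1 : K1 ≠ ⊤)
    (h2 : R ≤ K2) (hK2 : IsCoatom K2) (hn : ¬ K1 ≤ K2) : ¬ Uniq R := by
  rintro ⟨M, -, hu⟩
  obtain ⟨M1, hM1, hK1M⟩ := (eq_top_or_exists_le_coatom K1).resolve_left hK1
  have e1 := hu M1 ⟨hM1, h1.trans hK1M⟩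
  have e2 := hu K2 ⟨hK2, h2⟩
  exact hn (e2 ▸ e1 ▸ hK1M)

section Halves

variable {Ω : Type*} [Fintype Ω] [DecidableEq Ω]

open Classical in
/-- The labelling of a set and its complement. -/
noncomputable def ind (O : Set Ω) (x : Ω) : Fin 2 := if x ∈ O then 0 else 1

open Classical in
theorem ind_eq_iff (O : Set Ω) (x y : Ω) : ind O x = ind O y ↔ (x ∈ O ↔ y ∈ O) := by
  unfold ind
  by_cases hx : x ∈ O <;> by_cases hy : y ∈ O <;> simp [hx, hy]

theorem card_ind (O : Set Ω) {a : ℕ} (h1 : O.ncard = a) (h2 : Oᶜ.ncard = a) (i : Fin 2) :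
    Nat.card {x : Ω // ind O x = i} = a := by
  classical
  fin_cases i
  · rw [← h1, ← Nat.card_coe_set_eq]
    exact Nat.card_congr (Equiv.subtypeEquivRight fun x => by by_cases hx : x ∈ O <;> simp [ind, hx])
  · rw [← h2, ← Nat.card_coe_set_eq]
    exact Nat.card_congr (Equiv.subtypeEquivRight fun x => by by_cases hx : x ∈ O <;> simp [ind, hx])

theorem mem_halves_iff {O : Set Ω} {a : ℕ} (h1 : O.ncard = a) (h2 : Oᶜ.ncard = a) (g : Perm Ω) :
    g ∈ partStab (ind O) ↔ (g • O = O ∨ g • O = Oᶜ) := by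
  classical
  show (∀ x y, ind O x = ind O y ↔ ind O (g x) = ind O (g y)) ↔ _
  simp only [ind_eq_iff]
  constructor
  · intro h
    rcases O.eq_empty_or_nonempty with rfl | ⟨x, hx⟩
    · left; simp
    by_cases hgx : g x ∈ O
    · refine Or.inl (Set.eq_of_subset_of_ncard_le ?_ (by rw [Set.ncard_smul_set]))
      rintro _ ⟨y, hy, rfl⟩
      exact ((h x y).1 (iff_of_true hx hy)).1 hgx
    · refine Or.inr (Set.eq_of_subset_of_ncard_le ?_ (by rw [Set.ncard_smul_set, h1, h2]))
      rintro _ ⟨y, hy, rfl⟩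
      exact fun hgy => hgx (((h x y).1 (iff_of_true hx hy)).2 hgy)
  · rintro (h | h) x y
    · have hm : ∀ z, g z ∈ O ↔ z ∈ O := fun z => by
        conv_lhs => rw [← h]
        exact Set.smul_mem_smul_set_iff
      rw [hm, hm]
    · have hm : ∀ z, g z ∈ O ↔ z ∉ O := fun z => by
        have : g • z ∈ g • O ↔ z ∈ O := Set.smul_mem_smul_set_iff
        rw [h] at this
        simp only [Perm.smul_def, Set.mem_compl_iff] at this
        tauto
      rw [hm, hm]
      tauto

/-- Halves give maximal subgroups of the alternating group. -/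
theorem halves_alt_isCoatom {f : Ω → Fin 2} {a : ℕ} (ha : 3 ≤ a)
    (hf : ∀ i : Fin 2, Nat.card {x : Ω // f x = i} = a) :
    IsCoatom ((partStab f).subgroupOf (alternatingGroup Ω)) := by
  classical
  obtain ⟨E, hE⟩ := exists_coord a f hf
  have hthree : ∀ i : Fin 2, ∀ u v : Ω, f u = i → f v = i → ∃ w, f w = i ∧ w ≠ u ∧ w ≠ v := by
    intro i u v _ _
    obtain ⟨j, hj⟩ := exists_notMem (s := ({(E u).2, (E v).2} : Finset (Fin a)))
      (lt_of_le_of_lt Finset.card_le_two (by rw [Fintype.card_fin]; omega))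
    refine ⟨E.symm (i, j), by rw [← hE, Equiv.apply_symm_apply], ?_, ?_⟩ <;>
    · rintro rfl
      simp at hj
  constructor
  · intro htop
    have hd : ∀ i i' j j', (i, j) ≠ (i', j') → E.symm (i, j) ≠ E.symm (i', j') :=
      fun _ _ _ _ h => E.symm.injective.ne h
    let x := E.symm (⟨0, by omega⟩, ⟨0, by omega⟩)
    let x' := E.symm (⟨0, by omega⟩, ⟨1, by omega⟩)
    let y := E.symm (⟨1, by omega⟩, ⟨0, by omega⟩)
    have hτ : swap x y * swap x x' ∈ alternatingGroup Ω :=
      swap_swap_mem_alt (hd _ _ _ _ (by simp)) (hd _ _ _ _ (by simp [Fin.ext_iff]))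
    rw [Subgroup.subgroupOf_eq_top] at htop
    have h := ((htop hτ) x x').1 (by rw [← hE, ← hE x']; simp [x, x'])
    have hxy : x ≠ y := hd _ _ _ _ (by simp)
    have hxx : x ≠ x' := hd _ _ _ _ (by simp [Fin.ext_iff])
    have hyx : x' ≠ y := hd _ _ _ _ (by simp)
    rw [Perm.mul_apply, Perm.mul_apply, swap_apply_left, swap_apply_of_ne_of_ne hxx.symm hyx,
      swap_apply_right, swap_apply_left, ← hE, ← hE y] at h
    simp [x', y] at h
  intro L hL
  obtain ⟨g, hgL, hgK⟩ := SetLike.exists_of_lt hL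
  set H := L.map (alternatingGroup Ω).subtype with hH
  have hK : partStab f ⊓ alternatingGroup Ω ≤ H := fun k hk =>
    ⟨⟨k, hk.2⟩, hL.le (Subgroup.mem_subgroupOf.2 hk.1), rfl⟩
  rw [Subgroup.mem_subgroupOf] at hgK
  obtain ⟨u, v, hfu, hgu⟩ : ∃ u v : Ω, f u = f v ∧ f ((g : Perm Ω) u) ≠ f ((g : Perm Ω) v) := by
    by_contra! hc
    -- a map of the two parts into the parts is a permutation of them
    refine hgK fun x y => ⟨hc x y, fun hxy => ?_⟩
    by_contra hne
    obtain ⟨z, hz⟩ : ∃ z, f z ≠ f ((g : Perm Ω) x) :=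
      ⟨E.symm (Equiv.swap 0 1 (f ((g : Perm Ω) x)), ⟨0, by omega⟩), by
        rw [← hE, Equiv.apply_symm_apply]
        generalize f ((g : Perm Ω) x) = c
        fin_cases c <;> simp⟩
    obtain ⟨w, rfl⟩ := (g : Perm Ω).surjective z
    have h2 : ∀ c d e : Fin 2, c ≠ d → e = c ∨ e = d := by decide
    rcases h2 (f x) (f y) (f w) hne with h | h
    · exact hz (hc w x h)
    · exact hz ((hc w y h).trans hxy.symm)
  obtain ⟨w, hfw, hwu, hwv⟩ := hthree (f u) u v rfl hfu.symm
  have huv : u ≠ v := fun h => hgu (by rw [h])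
  have hτ : swap u v * swap u w ∈ H := hK
    ⟨mul_mem (swap_mem_partStab hfu) (swap_mem_partStab hfw.symm), swap_swap_mem_alt huv hwu.symm⟩
  have hgH : (g : Perm Ω) ∈ H := Subgroup.mem_map_of_mem _ hgL
  have hconj : swap ((g : Perm Ω) u) ((g : Perm Ω) v) * swap ((g : Perm Ω) u) ((g : Perm Ω) w) ∈ H := by
    rw [Equiv.swap_apply_apply (g : Perm Ω) u v, Equiv.swap_apply_apply (g : Perm Ω) u w,
      show (g : Perm Ω) * swap u v * (g : Perm Ω)⁻¹ * ((g : Perm Ω) * swap u w * (g : Perm Ω)⁻¹) =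
        (g : Perm Ω) * (swap u v * swap u w) * (g : Perm Ω)⁻¹ by group]
    exact mul_mem (mul_mem hgH hτ) (inv_mem hgH)
  have hinj := (g : Perm Ω).injective
  have hprim := isPreprimitive_of_crossing a (by omega) le_rfl f hf H hK (hinj.ne huv)
    (hinj.ne hwv.symm) (hinj.ne hwu.symm) hgu hconj
  have hA := alternatingGroup_le_of_isPreprimitive_of_isThreeCycle_mem hprim
    (isThreeCycle_swap_mul_swap_same (hinj.ne huv) (hinj.ne hwu.symm) (hinj.ne hwv.symm)) hconj
  refine eq_top_iff.2 fun z _ => ?_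
  obtain ⟨z', hz', hzz⟩ := hA z.2
  rwa [← Subtype.ext hzz]

end Halves

variable {m ε : ℕ}

/-- A permutation of the pairs as a permutation of the points. -/
def liftP (m ε : ℕ) (π : Perm (Fin m)) : Perm (Pt m ε) :=
  Equiv.sumCongr (Equiv.prodCongr π (Equiv.refl _)) (Equiv.refl _)

theorem liftP_mem (π : Perm (Fin m)) : liftP m ε π ∈ cent m ε := by
  rw [mem_cent_iff]
  rintro (⟨i, b⟩ | c) <;> simp [liftP, rho]

theorem liftP_mul (π π' : Perm (Fin m)) : liftP m ε (π * π') = liftP m ε π * liftP m ε π' := by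
  ext a; rcases a with ⟨i, b⟩ | c <;> simp [liftP]

theorem liftP_one : liftP m ε 1 = 1 := by
  ext a; rcases a with ⟨i, b⟩ | c <;> simp [liftP]

theorem flip1_mem_cent (i : Fin m) : flip1 m ε i ∈ cent m ε := SetLike.coe_mem _

theorem flip1_other (i : Fin m) : flip1 m ε i (Sum.inl (i, 1)) = Sum.inl (i, 0) := by
  simp [flip1, flipHom]

theorem flip1_mul_self (i : Fin m) : flip1 m ε i * flip1 m ε i = 1 := by
  ext a
  by_cases ha : proj a = some i
  · rcases a with ⟨j, c⟩ | c
    · obtain rfl : j = i := by simpa [proj] using ha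
      fin_cases c <;> simp [flip1, flipHom]
    · simp [proj] at ha
  · rw [Perm.mul_apply, flip1_of_ne ha, flip1_of_ne ha, Perm.one_apply]

theorem flip1_commute (i j : Fin m) : flip1 m ε i * flip1 m ε j = flip1 m ε j * flip1 m ε i := by
  simp only [flip1, ← Subgroup.coe_mul, ← map_mul]
  congr 2
  funext k
  rcases eq_or_ne k i with rfl | hi
  · rcases eq_or_ne k j with rfl | hj <;> simp [*]
  · simp [hi]

/-- Only the empty and the full set are fixed or complemented by every even permutation preserving the pairs. -/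
theorem eq_empty_or_univ (hm : 3 ≤ m) (O : Set (Pt m 0))
    (h : ∀ e ∈ cent m 0, e ∈ alternatingGroup (Pt m 0) → e • O = O ∨ e • O = Oᶜ) :
    O = ∅ ∨ O = Set.univ := by
  classical
  haveI : Nonempty (Pt m 0) := ⟨Sum.inl (⟨0, by omega⟩, 0)⟩
  have hbit : ∀ (i j : Fin m) (b : Fin 2), Sum.inl (i, b) ∈ O → Sum.inl (j, b) ∈ O := by
    intro i j b hi
    rcases eq_or_ne i j with rfl | hij
    · exact hi
    obtain ⟨l, hl⟩ := exists_notMem (s := ({i, j} : Finset (Fin m)))
      (lt_of_le_of_lt Finset.card_le_two (by rw [Fintype.card_fin]; omega))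
    simp only [Finset.mem_insert, Finset.mem_singleton, not_or] at hl
    set π := swap i j * swap i l with hπ
    have hπ3 : π * (π * π) = 1 := by
      have := pow_orderOf_eq_one π
      rw [(isThreeCycle_swap_mul_swap_same hij (Ne.symm hl.1) (Ne.symm hl.2)).orderOf] at this
      rwa [pow_succ', sq] at this
    have he3 : liftP m 0 π * (liftP m 0 π * liftP m 0 π) = 1 := by
      rw [← liftP_mul, ← liftP_mul, hπ3, liftP_one]
    have hsgn : liftP m 0 π ∈ alternatingGroup (Pt m 0) := by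
      rw [mem_alternatingGroup]
      have h' := congrArg sign he3
      rwa [map_mul, map_mul, map_one, Int.units_mul_self, mul_one] at h'
    have hfix : liftP m 0 π • O = O := by
      rcases h _ (liftP_mem π) hsgn with h' | h'
      · exact h'
      exfalso
      have h'' : (liftP m 0 π * (liftP m 0 π * liftP m 0 π)) • O = Oᶜ := by
        rw [mul_smul, mul_smul, h', Set.smul_set_compl, h', compl_compl, h']
      rw [he3, one_smul] at h''
      obtain ⟨x⟩ := (inferInstance : Nonempty (Pt m 0))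
      have := Set.ext_iff.1 h'' x
      simp at this
    -- `π` sends `l` to `j` by way of `i`
    have e1 : π i = l := by
      rw [hπ, Perm.mul_apply, swap_apply_left, swap_apply_of_ne_of_ne hl.1 hl.2]
    have e2 : π l = j := by
      rw [hπ, Perm.mul_apply, swap_apply_right, swap_apply_left]
    have step : ∀ p, Sum.inl p ∈ O → Sum.inl (π p.1, p.2) ∈ O := fun p hp => by
      rw [← hfix]
      exact ⟨Sum.inl p, hp, by simp [liftP, Prod.map]⟩
    have := step _ (step (i, b) hi)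
    simpa [e1, e2] using this
  let i0 : Fin m := ⟨0, by omega⟩
  let i1 : Fin m := ⟨1, by omega⟩
  let i2 : Fin m := ⟨2, by omega⟩
  by_cases h01 : (Sum.inl (i0, 0) ∈ O ↔ Sum.inl (i0, 1) ∈ O)
  · by_cases h0 : Sum.inl (i0, 0) ∈ O
    · refine Or.inr (Set.eq_univ_of_forall ?_)
      rintro (⟨i, b⟩ | c)
      · fin_cases b
        · exact hbit i0 i 0 h0
        · exact hbit i0 i 1 (h01.1 h0)
      · exact c.elim0
    · refine Or.inl (Set.eq_empty_of_forall_notMem ?_)
      rintro (⟨i, b⟩ | c) hx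
      · fin_cases b
        · exact h0 (hbit i i0 0 hx)
        · exact h0 (h01.2 (hbit i i0 1 hx))
      · exact c.elim0
  exfalso
  have hd : flip1 m 0 i0 * flip1 m 0 i1 ∈ alternatingGroup (Pt m 0) := by
    rw [mem_alternatingGroup, map_mul, sign_flip1, sign_flip1, Int.units_mul_self]
  set d := flip1 m 0 i0 * flip1 m 0 i1 with hdd
  have hd0 : ∀ b, d (Sum.inl (i0, b)) = Sum.inl (i0, Equiv.swap 0 1 b) := fun b => by
    rw [hdd, Perm.mul_apply, flip1_of_ne (i := i1) (by simp [proj, i0, i1])]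
    fin_cases b <;> simp [flip1_self, flip1_other]
  have hd2 : ∀ b, d (Sum.inl (i2, b)) = Sum.inl (i2, b) := fun b => by
    rw [hdd, Perm.mul_apply, flip1_of_ne (i := i1) (by simp [proj, i2, i1]),
      flip1_of_ne (by simp [proj, i2, i0])]
  obtain ⟨b, hb, hb'⟩ : ∃ b : Fin 2, Sum.inl (i0, b) ∈ O ∧ Sum.inl (i0, Equiv.swap 0 1 b) ∉ O := by
    by_cases h0 : Sum.inl (i0, 0) ∈ O
    · exact ⟨0, h0, fun h1 => h01 (iff_of_true h0 (by simpa using h1))⟩
    · refine ⟨1, by tauto, by simpa using h0⟩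
  rcases h d (mul_mem (flip1_mem_cent _) (flip1_mem_cent _)) hd with h' | h'
  · exact hb' (h' ▸ (⟨_, hb, hd0 b⟩ : Sum.inl (i0, Equiv.swap 0 1 b) ∈ d • O))
  · have h2 : Sum.inl (i2, b) ∈ O := hbit i0 i2 b hb
    exact (h' ▸ (⟨_, h2, hd2 b⟩ : Sum.inl (i2, b) ∈ d • O) : Sum.inl (i2, b) ∈ Oᶜ) h2

/-- The data for two maximal subgroups over a Sylow subgroup. -/
theorem exists_two (hε : ε ≤ 1) (Q : Sylow 2 (Perm (Pt m ε)))
    (hQ : (Q : Subgroup (Perm (Pt m ε))) ≤ cent m ε)
    (h5 : 5 ≤ 2 * m + ε) (hne : ¬ ∃ k : ℕ, 2 ≤ k ∧ 2 * m + ε = 2 ^ k + 1) :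
    ∃ K1 K2 : Subgroup (Perm (Pt m ε)),
      (Q : Subgroup (Perm (Pt m ε))) ≤ K1 ∧ (Q : Subgroup (Perm (Pt m ε))) ≤ K2 ∧
      IsCoatom K2 ∧ IsCoatom (K2.subgroupOf (alternatingGroup (Pt m ε))) ∧
      (∃ e ∈ alternatingGroup (Pt m ε), e ∈ K1 ∧ e ∉ K2) ∧
      (∃ e ∈ alternatingGroup (Pt m ε), e ∉ K1) := by
  classical
  set n := 2 * m + ε with hn
  have hcard : Fintype.card (Pt m ε) = n := by simp [hn]; omega
  have hNcard : Nat.card (Pt m ε) = n := by rw [Nat.card_eq_fintype_card, hcard]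
  set k := Nat.log 2 n with hk
  have hlo : 2 ^ k ≤ n := Nat.pow_log_le_self 2 (by omega)
  have hhi : n < 2 ^ (k + 1) := Nat.lt_pow_succ_log_self one_lt_two n
  rw [pow_succ] at hhi
  have hk2 : 2 ≤ k := (Nat.le_log_iff_pow_le one_lt_two (by omega)).2 (by omega)
  have h4 : 4 ≤ 2 ^ k := by
    calc 4 = 2 ^ 2 := rfl
      _ ≤ 2 ^ k := Nat.pow_le_pow_right two_pos hk2
  have stabCase : ∀ O : Set (Pt m ε), O.ncard = 2 ^ k → 2 ^ k < n →
      IsCoatom (stabilizer (Perm (Pt m ε)) O) ∧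
      IsCoatom ((stabilizer (Perm (Pt m ε)) O).subgroupOf (alternatingGroup (Pt m ε))) := by
    intro O hO hlt
    have h0 : O.Nonempty := Set.nonempty_of_ncard_ne_zero (by omega)
    have h1 : Oᶜ.Nonempty := Set.nonempty_of_ncard_ne_zero (by rw [Set.ncard_compl, hO, hNcard]; omega)
    have h2 : Nat.card (Pt m ε) ≠ 2 * O.ncard := by omega
    refine ⟨Equiv.Perm.isCoatom_stabilizer h0 h1 h2, ?_⟩
    have he : (stabilizer (Perm (Pt m ε)) O).subgroupOf (alternatingGroup (Pt m ε)) =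
        stabilizer (alternatingGroup (Pt m ε)) O := rfl
    rw [he]
    exact alternatingGroup.isCoatom_stabilizer h0 h1 h2
  rcases Nat.lt_or_ge ε 1 with hε0 | hε1
  · -- even degree
    obtain rfl : ε = 0 := by omega
    have hm : 3 ≤ m := by omega
    have hnotall : ∃ e ∈ alternatingGroup (Pt m 0), e ∉ cent m 0 := by
      refine ⟨swap (Sum.inl (⟨0, by omega⟩, 0)) (Sum.inl (⟨1, by omega⟩, 0)) *
        swap (Sum.inl (⟨0, by omega⟩, 0)) (Sum.inl (⟨2, by omega⟩, 0)),
        swap_swap_mem_alt (by simp [Fin.ext_iff]) (by simp [Fin.ext_iff]), fun hc => ?_⟩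
      have := (mem_cent_iff.1 hc) (Sum.inl (⟨0, by omega⟩, 0))
      simp [rho, swap_apply_def] at this
    rcases eq_or_lt_of_le hlo with hpow | hlt
    · -- halves
      clear_value k
      obtain ⟨j, rfl⟩ : ∃ j, k = j + 1 := ⟨k - 1, by omega⟩
      obtain ⟨O, hO, hQO⟩ := exists_halves Q (k := j) (by rw [hcard, ← hpow])
      rw [pow_succ] at hpow h4
      have hOc : Oᶜ.ncard = 2 ^ j := by rw [Set.ncard_compl, hO, hNcard]; omega
      have hj3 : 3 ≤ 2 ^ j := by
        have : Even (2 ^ j) := Even.pow_of_ne_zero even_two (by omega)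
        obtain ⟨c, hc⟩ := this
        omega
      refine ⟨cent m 0, partStab (ind O), hQ, fun g hg => (mem_halves_iff hO hOc g).2 (hQO g hg),
        partStab_isCoatom (2 ^ j) (by omega) le_rfl _ (card_ind O hO hOc),
        halves_alt_isCoatom hj3 (card_ind O hO hOc), ?_, hnotall⟩
      by_contra! hc
      rcases eq_empty_or_univ hm O fun e he heA => (mem_halves_iff hO hOc e).1 (hc e heA he) with h | h
      · rw [h, Set.ncard_empty] at hO; omega
      · rw [h, Set.ncard_univ, hNcard] at hO; omega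
    · obtain ⟨O, hO, hQO⟩ := exists_invariant Q (2 ^ k) (by
        rw [hcard, show n = 2 ^ k + (n - 2 ^ k) by omega]
        exact odd_choose_top (by omega))
      obtain ⟨hc1, hc2⟩ := stabCase O hO hlt
      refine ⟨cent m 0, stabilizer (Perm (Pt m 0)) O, hQ, fun g hg => hQO g hg, hc1, hc2, ?_, hnotall⟩
      by_contra! hc
      rcases eq_empty_or_univ hm O fun e he heA => Or.inl (mem_stabilizer_iff.1 (hc e heA he)) with h | h
      · rw [h, Set.ncard_empty] at hO; omega
      · rw [h, Set.ncard_univ, hNcard] at hO; omega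
  · -- odd degree: a point and a set
    obtain rfl : ε = 1 := by omega
    have hr : 2 ^ k + 3 ≤ n := by
      have h1 : n ≠ 2 ^ k := fun h => by
        have : Even (2 ^ k) := Even.pow_of_ne_zero even_two (by omega)
        rw [← h, hn, Nat.even_add_one] at this
        exact this (even_two_mul m)
      have h2 : n ≠ 2 ^ k + 1 := fun h => hne ⟨k, hk2, h⟩
      have h3 : n ≠ 2 ^ k + 2 := fun h => by
        have : Even (2 ^ k + 2) := (Even.pow_of_ne_zero even_two (by omega)).add even_two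
        rw [← h, hn, Nat.even_add_one] at this
        exact this (even_two_mul m)
      omega
    obtain ⟨O, hO, hQO⟩ := exists_invariant Q (2 ^ k) (by
      rw [hcard, show n = 2 ^ k + (n - 2 ^ k) by omega]
      exact odd_choose_top (by omega))
    obtain ⟨hc1, hc2⟩ := stabCase O hO (by omega)
    let x : Pt m 1 := Sum.inr 0
    have hQx : (Q : Subgroup (Perm (Pt m 1))) ≤ stabilizer (Perm (Pt m 1)) x := by
      intro g hg
      rw [mem_stabilizer_iff, Perm.smul_def]
      have h' : rho m 1 (g x) = g x := by rw [← mem_cent_iff.1 (hQ hg) x]; rfl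
      rw [rho_eq_self_iff] at h'
      rcases hgx : g x with ⟨i, b⟩ | c
      · rw [hgx] at h'; simp [proj] at h'
      · rw [Subsingleton.elim c 0]
    refine ⟨stabilizer (Perm (Pt m 1)) x, stabilizer (Perm (Pt m 1)) O, hQx, fun g hg => hQO g hg,
      hc1, hc2, ?_, ?_⟩
    · obtain ⟨y, hy, hyx⟩ := Set.exists_ne_of_one_lt_ncard (s := O) (by omega) x
      obtain ⟨z, hz, hzx⟩ := Set.exists_ne_of_one_lt_ncard (s := Oᶜ)
        (by rw [Set.ncard_compl, hO, hNcard]; omega) x
      have hyz : y ≠ z := fun h => hz (h ▸ hy)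
      obtain ⟨w, hw⟩ := exists_notMem (s := ({x, y, z} : Finset (Pt m 1)))
        (lt_of_le_of_lt Finset.card_le_three (by rw [hcard]; omega))
      simp only [Finset.mem_insert, Finset.mem_singleton, not_or] at hw
      refine ⟨swap y z * swap y w, swap_swap_mem_alt hyz (Ne.symm hw.2.1), ?_, fun hc => ?_⟩
      · rw [mem_stabilizer_iff, Perm.smul_def, Perm.mul_apply, swap_apply_of_ne_of_ne (Ne.symm hyx) (Ne.symm hw.1),
          swap_apply_of_ne_of_ne (Ne.symm hyx) (Ne.symm hzx)]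
      · have hm' : ∀ p, (swap y z * swap y w) p ∈ O ↔ p ∈ O := fun p => by
          conv_lhs => rw [← mem_stabilizer_iff.1 hc]
          exact Set.smul_mem_smul_set_iff
        have e1 := hm' y
        have e2 := hm' w
        simp only [Perm.mul_apply, swap_apply_left, swap_apply_right,
          swap_apply_of_ne_of_ne hw.2.1 hw.2.2] at e1 e2
        exact hz (e2.2 (e1.2 hy))
    · have hm2 : 2 ≤ m := by omega
      refine ⟨swap x (Sum.inl (⟨0, by omega⟩, 0)) * swap x (Sum.inl (⟨1, by omega⟩, 0)),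
        swap_swap_mem_alt (by simp [x]) (by simp [x]), fun hc => ?_⟩
      rw [mem_stabilizer_iff, Perm.smul_def] at hc
      simp [x, swap_apply_def] at hc

/-- The model: a group transitive off the fixed point is everything. -/
theorem unique_case {k : ℕ} (hk : 2 ≤ k) (hm : 2 * m = 2 ^ k) (Q : Sylow 2 (Perm (Pt m 1)))
    (hQ : (Q : Subgroup (Perm (Pt m 1))) ≤ cent m 1)
    (hflip : ∀ i, flip1 m 1 i ∈ (Q : Subgroup (Perm (Pt m 1))))
    (G : Subgroup (Perm (Pt m 1)))
    (hinv : ∀ S : Set (Pt m 1),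
      (∀ g ∈ (Q : Subgroup (Perm (Pt m 1))) ⊓ G, g • S = S) →
      ∀ g ∈ (Q : Subgroup (Perm (Pt m 1))), g • S = S)
    (M : Subgroup (Perm (Pt m 1)))
    (hQM : (Q : Subgroup (Perm (Pt m 1))) ⊓ G ≤ M)
    (hmove : ∃ g ∈ M, g (Sum.inr 0) ≠ Sum.inr 0) :
    IsPreprimitive M (Pt m 1) := by
  classical
  have hn : Fintype.card (Pt m 1) = 2 ^ k + 1 := by simp; omega
  have hQx : ∀ g ∈ (Q : Subgroup (Perm (Pt m 1))), g (Sum.inr 0) = Sum.inr 0 := by
    intro g hg
    have h' : rho m 1 (g (Sum.inr 0)) = g (Sum.inr 0) := by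
      rw [← mem_cent_iff.1 (hQ hg) (Sum.inr 0)]; rfl
    rw [rho_eq_self_iff] at h'
    rcases hgx : g (Sum.inr 0) with ⟨i, b⟩ | c
    · rw [hgx] at h'; simp [proj] at h'
    · rw [Subsingleton.elim c 0]
  -- an invariant set with at least two points is the whole or the complement of the fixed point
  have hsizes : ∀ S : Set (Pt m 1), (∀ g ∈ (Q : Subgroup (Perm (Pt m 1))), g • S = S) →
      ∀ y ∈ S, y ≠ Sum.inr 0 → ∀ z : Pt m 1, z ≠ Sum.inr 0 → z ∈ S := by
    intro S hS y hy hy0 z hz0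
    by_contra hz
    have hfl : ∀ i b, Sum.inl (i, b) ∈ S → Sum.inl (i, Equiv.swap 0 1 b) ∈ S := fun i b hb => by
      rw [← hS _ (hflip i)]
      refine ⟨_, hb, ?_⟩
      fin_cases b <;> simp [flip1_self, flip1_other]
    have hodd := odd_choose_of_invariant Q S hS
    have hle : S.ncard ≤ Fintype.card (Pt m 1) := by
      rw [← Nat.card_eq_fintype_card]; exact Set.ncard_le_card S
    rw [hn] at hle hodd
    rcases y with ⟨i, b⟩ | c
    swap
    · exact hy0 (by rw [Subsingleton.elim c 0])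
    rcases z with ⟨j, d⟩ | c
    swap
    · exact hz0 (by rw [Subsingleton.elim c 0])
    have h2 : 2 ≤ S.ncard := by
      refine (Set.one_lt_ncard (Set.toFinite S)).2 ⟨_, hy, _, hfl i b hy, fun h => ?_⟩
      fin_cases b <;> simp at h
    have h2' : 2 ≤ Sᶜ.ncard := by
      refine (Set.one_lt_ncard (Set.toFinite Sᶜ)).2 ⟨_, hz, Sum.inl (j, Equiv.swap 0 1 d), fun h' => ?_, fun h => ?_⟩
      · exact hz (by simpa using hfl j _ h')
      · fin_cases d <;> simp at h
    rw [Set.ncard_compl, Nat.card_eq_fintype_card, hn] at h2'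
    exact Nat.not_even_iff_odd.2 hodd (even_choose_succ h2 (by omega))
  have hoff : ∀ a b : Pt m 1, a ≠ Sum.inr 0 → b ≠ Sum.inr 0 →
      ∃ g ∈ M, g (Sum.inr 0) = Sum.inr 0 ∧ g a = b := by
    intro a b ha hb
    let R := (Q : Subgroup (Perm (Pt m 1))) ⊓ G
    have hS : ∀ g ∈ (Q : Subgroup (Perm (Pt m 1))), g • orbit R a = orbit R a :=
      hinv _ fun g hg => smul_orbit (⟨g, hg⟩ : R) a
    obtain ⟨g, hg⟩ := hsizes _ hS a (mem_orbit_self a) ha b hb
    exact ⟨g, hQM g.2, hQx g g.2.1, hg⟩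
  refine isPreprimitive_of_transitive_off M (Sum.inr 0) ?_ hoff
  intro a
  obtain ⟨g, hg, hgx⟩ := hmove
  by_cases ha : a = Sum.inr 0
  · exact ⟨1, one_mem _, by rw [ha]; rfl⟩
  have hb : g (Sum.inr 0) ≠ Sum.inr 0 := hgx
  obtain ⟨r, hr, -, hra⟩ := hoff a (g (Sum.inr 0)) ha hb
  exact ⟨g⁻¹ * r, mul_mem (inv_mem hg) hr, by
    rw [Perm.mul_apply, hra, Perm.inv_def, Equiv.symm_apply_apply]⟩

/-- The point outside the pairs is fixed by the centralizer of the pairs. -/
theorem cent_fix {g : Perm (Pt m 1)} (hg : g ∈ cent m 1) : g (Sum.inr 0) = Sum.inr 0 := by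
  have h' : rho m 1 (g (Sum.inr 0)) = g (Sum.inr 0) := by
    rw [← mem_cent_iff.1 hg (Sum.inr 0)]; rfl
  rw [rho_eq_self_iff] at h'
  rcases hgx : g (Sum.inr 0) with ⟨i, b⟩ | c
  · rw [hgx] at h'; simp [proj] at h'
  · rw [Subsingleton.elim c 0]

theorem flip1_eq_swap (i : Fin m) : flip1 m ε i = swap (Sum.inl (i, 0)) (Sum.inl (i, 1)) := by
  apply Equiv.ext
  intro a
  by_cases ha : proj a = some i
  · rcases a with ⟨j, c⟩ | c
    · obtain rfl : j = i := by simpa [proj] using ha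
      fin_cases c <;> simp [flip1_self, flip1_other]
    · simp [proj] at ha
  · rw [flip1_of_ne ha, Equiv.swap_apply_of_ne_of_ne]
    · rintro rfl; exact ha rfl
    · rintro rfl; exact ha rfl

theorem eq_inr (a : Pt m 1) (h : proj a = none) : a = Sum.inr 0 := by
  rcases a with ⟨i, b⟩ | c
  · simp [proj] at h
  · rw [Subsingleton.elim c 0]

/-- One of three different paired points has its partner outside of the three. -/
theorem exists_lone {p q r : Pt m ε} (hpq : p ≠ q) (hpr : p ≠ r) (hqr : q ≠ r) :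
    (rho m ε p ≠ q ∧ rho m ε p ≠ r) ∨ (rho m ε q ≠ p ∧ rho m ε q ≠ r) ∨
      (rho m ε r ≠ p ∧ rho m ε r ≠ q) := by
  have h : ∀ {u v : Pt m ε}, rho m ε u = v → rho m ε v = u := fun e => by rw [← e, rho_rho]
  by_cases h1 : rho m ε p = q
  · refine Or.inr (Or.inr ⟨fun e => ?_, fun e => ?_⟩)
    · exact hqr (h1.symm.trans (h e))
    · exact hpr ((h h1).symm.trans (h e))
  by_cases h2 : rho m ε p = r
  · refine Or.inr (Or.inl ⟨fun e => ?_, fun e => ?_⟩)
    · exact hqr.symm (h2.symm.trans (h e))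
    · exact hpq ((h h2).symm.trans (h e))
  exact Or.inl ⟨h1, h2⟩

/-- A three-cycle in a subgroup moving the odd point and containing the double exchanges. -/
theorem exists_threeCycle (hm : 4 ≤ m) (M : Subgroup (Perm (Pt m 1)))
    (hd : ∀ i j : Fin m, flip1 m 1 i * flip1 m 1 j ∈ M) {g : Perm (Pt m 1)} (hg : g ∈ M)
    (hgx : g (Sum.inr 0) ≠ Sum.inr 0) : ∃ c ∈ M, c.IsThreeCycle := by
  classical
  obtain ⟨⟨i0, b0⟩, hb0⟩ : ∃ p, g⁻¹ (Sum.inr 0) = Sum.inl p := by
    rcases h : g⁻¹ (Sum.inr 0) with p | c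
    · exact ⟨p, rfl⟩
    · exfalso
      rw [Subsingleton.elim c 0] at h
      exact hgx (Perm.inv_eq_iff_eq.1 h).symm
  obtain ⟨i1, hi1⟩ := exists_notMem (s := ({i0} : Finset (Fin m)))
    (by rw [Finset.card_singleton, Fintype.card_fin]; omega)
  rw [Finset.mem_singleton] at hi1
  set d := flip1 m 1 i0 * flip1 m 1 i1 with hdd
  set t := g * d * g⁻¹ with htd
  have hd2 : d * d = 1 := by
    rw [hdd]
    calc flip1 m 1 i0 * flip1 m 1 i1 * (flip1 m 1 i0 * flip1 m 1 i1)
        = flip1 m 1 i0 * (flip1 m 1 i1 * flip1 m 1 i0) * flip1 m 1 i1 := by group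
      _ = flip1 m 1 i0 * (flip1 m 1 i0 * flip1 m 1 i1) * flip1 m 1 i1 := by rw [flip1_commute i1 i0]
      _ = 1 := by rw [← mul_assoc, flip1_mul_self, one_mul, flip1_mul_self]
  have htM : t ∈ M := mul_mem (mul_mem hg (hd _ _)) (inv_mem hg)
  have ht2 : t * t = 1 := by
    calc t * t = g * (d * d) * g⁻¹ := by rw [htd]; group
      _ = 1 := by rw [hd2, mul_one, mul_inv_cancel]
  have hdm : ∀ s, d s ≠ s ↔ proj s = some i0 ∨ proj s = some i1 := by
    intro s
    rw [hdd, flip1_eq_swap, flip1_eq_swap, Perm.mul_apply]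
    rcases s with ⟨i, b⟩ | c
    · by_cases h0 : i = i0
      · subst h0
        fin_cases b <;> simp [proj, swap_apply_def, Ne.symm hi1]
      · by_cases h1 : i = i1
        · subst h1
          fin_cases b <;> simp [proj, swap_apply_def, hi1]
        · simp [proj, swap_apply_def, h0, h1]
    · simp [proj, swap_apply_def]
  set q0 := g (Sum.inl (i0, Equiv.swap 0 1 b0)) with hq0
  set q1 := g (Sum.inl (i1, 0)) with hq1
  set q2 := g (Sum.inl (i1, 1)) with hq2
  have hsupp : ∀ z, t z ≠ z → z = Sum.inr 0 ∨ z = q0 ∨ z = q1 ∨ z = q2 := by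
    intro z hz
    have h : d (g⁻¹ z) ≠ g⁻¹ z := fun e => hz (by
      show g (d (g⁻¹ z)) = z
      rw [e, Perm.inv_def, Equiv.apply_symm_apply])
    have hz' : z = g (g⁻¹ z) := by rw [Perm.inv_def, Equiv.apply_symm_apply]
    rcases hs : g⁻¹ z with ⟨i, b⟩ | c
    · rw [hdm, hs] at h
      rw [hs] at hz'
      simp only [proj, Option.some.injEq] at h
      rcases h with rfl | rfl
      · by_cases hb : b = b0
        · left
          rw [hz', hb, ← hb0, Perm.inv_def, Equiv.apply_symm_apply]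
        · right; left
          rw [hz', hq0]
          have : b = Equiv.swap 0 1 b0 := by revert hb; fin_cases b <;> fin_cases b0 <;> decide
          rw [this]
      · right; right
        fin_cases b
        · exact Or.inl hz'
        · exact Or.inr hz'
    · rw [hdm, hs] at h
      simp [proj] at h
  have hmove : ∀ s, d s ≠ s → t (g s) ≠ g s := fun s hs e => hs (g.injective (by
    calc g (d s) = (g * d * g⁻¹) (g s) := by
          simp only [Perm.mul_apply, Perm.inv_def, Equiv.symm_apply_apply]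
      _ = g s := e))
  have hq : ∀ s, s ≠ g⁻¹ (Sum.inr 0) → g s ≠ Sum.inr 0 := fun s hs e => hs (by
    rw [← e, Perm.inv_def, Equiv.symm_apply_apply])
  have hne0 : q0 ≠ Sum.inr 0 := hq _ (by rw [hb0]; fin_cases b0 <;> simp)
  have hne1 : q1 ≠ Sum.inr 0 := hq _ (by rw [hb0]; simp [hi1])
  have hne2 : q2 ≠ Sum.inr 0 := hq _ (by rw [hb0]; simp [hi1])
  have hm0 : t q0 ≠ q0 := hmove _ ((hdm _).2 (Or.inl rfl))
  have hm1 : t q1 ≠ q1 := hmove _ ((hdm _).2 (Or.inr rfl))
  have hm2 : t q2 ≠ q2 := hmove _ ((hdm _).2 (Or.inr rfl))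
  have h01 : q0 ≠ q1 := g.injective.ne (by simp [Ne.symm hi1])
  have h02 : q0 ≠ q2 := g.injective.ne (by simp [Ne.symm hi1])
  have h12 : q1 ≠ q2 := g.injective.ne (by simp)
  have key : ∀ p p' p'' : Pt m 1, p ≠ Sum.inr 0 → t p ≠ p →
      (∀ z, t z ≠ z → z = Sum.inr 0 ∨ z = p ∨ z = p' ∨ z = p'') →
      rho m 1 p ≠ p' → rho m 1 p ≠ p'' → p ≠ p' → p ≠ p'' → ∃ c ∈ M, c.IsThreeCycle := by
    intro p p' p'' hp0 hpt hs hr1 hr2 hn1 hn2
    obtain ⟨a, ha⟩ : ∃ a, proj p = some a := Option.ne_none_iff_exists'.1 fun h => hp0 (eq_inr p h)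
    obtain ⟨c, hc⟩ := exists_notMem
      (s := ({a} : Finset (Fin m)) ∪ (proj p').toFinset ∪ (proj p'').toFinset) (by
        have h1 := Finset.card_union_le (({a} : Finset (Fin m)) ∪ (proj p').toFinset) (proj p'').toFinset
        have h2 := Finset.card_union_le ({a} : Finset (Fin m)) (proj p').toFinset
        have h3 : ∀ o : Option (Fin m), o.toFinset.card ≤ 1 := fun o => by cases o <;> simp
        have := h3 (proj p'); have := h3 (proj p'')
        rw [Finset.card_singleton] at h2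
        rw [Fintype.card_fin]; omega)
    simp only [Finset.mem_union, Finset.mem_singleton, Option.mem_toFinset, Option.mem_def, not_or] at hc
    obtain ⟨⟨hca, hc1⟩, hc2⟩ := hc
    set T := flip1 m 1 a * flip1 m 1 c with hT
    have hT2 : T * T = 1 := by
      calc T * T = flip1 m 1 a * (flip1 m 1 c * flip1 m 1 a) * flip1 m 1 c := by rw [hT]; group
        _ = flip1 m 1 a * (flip1 m 1 a * flip1 m 1 c) * flip1 m 1 c := by rw [flip1_commute c a]
        _ = 1 := by rw [← mul_assoc, flip1_mul_self, one_mul, flip1_mul_self]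
    have hTp : T p ≠ p := by
      rcases p with ⟨i, b⟩ | e
      · obtain rfl : i = a := by simpa [proj] using ha
        rw [hT, flip1_eq_swap, flip1_eq_swap, Perm.mul_apply]
        fin_cases b <;> simp [swap_apply_def, Ne.symm hca]
      · simp [proj] at ha
    refine ⟨⁅t, T⁆, ?_, isThreeCycle_commutator ht2 hT2 (p := p) ?_ hpt hTp⟩
    · rw [commutatorElement_def]
      exact mul_mem (mul_mem (mul_mem htM (hd a c)) (inv_mem htM)) (inv_mem (hd a c))
    · intro z hzt hzT
      have hzp : proj z = some a ∨ proj z = some c := by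
        by_contra! h
        exact hzT (by rw [hT, Perm.mul_apply, flip1_of_ne h.2, flip1_of_ne h.1])
      rcases hs z hzt with rfl | rfl | rfl | rfl
      · simp [proj] at hzp
      · rfl
      · rcases hzp with h | h
        · rcases eq_or_eq_rho le_rfl (ha.trans h.symm) with e | e
          · exact e
          · exact absurd e.symm hr1
        · exact absurd h hc1
      · rcases hzp with h | h
        · rcases eq_or_eq_rho le_rfl (ha.trans h.symm) with e | e
          · exact e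
          · exact absurd e.symm hr2
        · exact absurd h hc2
  rcases exists_lone (m := m) (ε := 1) h01 h02 h12 with ⟨e1, e2⟩ | ⟨e1, e2⟩ | ⟨e1, e2⟩
  · exact key q0 q1 q2 hne0 hm0 hsupp e1 e2 h01 h02
  · exact key q1 q0 q2 hne1 hm1 (fun z hz => by have := hsupp z hz; tauto) e1 e2 h01.symm h12
  · exact key q2 q0 q1 hne2 hm2 (fun z hz => by have := hsupp z hz; tauto) e1 e2 h02.symm h12.symm

/-- A proper subgroup of index at most three is absent in the alternating group of five points. -/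
theorem eq_top_of_twenty (hcard : Nat.card (Pt m ε) = 5) (M : Subgroup (alternatingGroup (Pt m ε)))
    (h20 : 20 ∣ Nat.card M) : M = ⊤ := by
  haveI : Nontrivial (Pt m ε) := Finite.one_lt_card_iff_nontrivial.1 (by omega)
  haveI := alternatingGroup.isSimpleGroup (α := Pt m ε) (by omega)
  by_contra hne
  have hA : Nat.card (alternatingGroup (Pt m ε)) = 60 := by
    rw [nat_card_alternatingGroup, hcard]; rfl
  have hidx : M.index ≤ 3 := by
    obtain ⟨c, hc⟩ := h20
    have h := M.card_mul_index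
    rw [hc, hA, mul_assoc] at h
    exact Nat.le_of_dvd (by norm_num) ⟨c, by rw [mul_comm] at h ⊢; linarith⟩
  have hcore : M.normalCore = ⊥ := ((IsSimpleGroup.eq_bot_or_eq_top_of_normal M.normalCore
    inferInstance)).resolve_right fun h => hne (top_unique (h ▸ M.normalCore_le))
  rw [Subgroup.normalCore_eq_ker, MonoidHom.ker_eq_bot_iff] at hcore
  have hle := Nat.card_le_card_of_injective _ hcore
  rw [hA, Nat.card_perm, ← Subgroup.index] at hle
  have := Nat.factorial_le hidx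
  norm_num [Nat.factorial] at this
  omega

theorem model_perm (hε : ε ≤ 1) (Q : Sylow 2 (Perm (Pt m ε)))
    (hQ : (Q : Subgroup (Perm (Pt m ε))) ≤ cent m ε)
    (hflip : ∀ i, flip1 m ε i ∈ (Q : Subgroup (Perm (Pt m ε))))
    (h5 : 5 ≤ 2 * m + ε) :
    Uniq (Q : Subgroup (Perm (Pt m ε))) ↔ ∃ k : ℕ, 2 ≤ k ∧ 2 * m + ε = 2 ^ k + 1 := by
  classical
  constructor
  · intro hu
    by_contra hne
    obtain ⟨K1, K2, h1, h2, hc, -, ⟨e, -, he1, he2⟩, ⟨f, -, hf⟩⟩ := exists_two hε Q hQ h5 hne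
    exact not_uniq h1 (fun h => hf (h ▸ Subgroup.mem_top f)) h2 hc (fun h => he2 (h he1)) hu
  rintro ⟨k, hk, hnk⟩
  have heven : Even (2 ^ k) := Even.pow_of_ne_zero even_two (by omega)
  obtain ⟨c, hc⟩ := heven
  obtain rfl : ε = 1 := by omega
  have hm : 2 * m = 2 ^ k := by omega
  have hcoat : IsCoatom (stabilizer (Perm (Pt m 1)) (Sum.inr 0 : Pt m 1)) := by
    rw [← stabilizer_singleton]
    exact Equiv.Perm.isCoatom_stabilizer (Set.singleton_nonempty _)
      (Set.nonempty_of_ncard_ne_zero (by rw [Set.ncard_compl, Set.ncard_singleton]; simp <;> omega))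
      (by rw [Set.ncard_singleton]; simp <;> omega)
  refine ⟨stabilizer (Perm (Pt m 1)) (Sum.inr 0 : Pt m 1),
    ⟨hcoat, fun g hg => cent_fix (hQ hg)⟩, fun M hM => ?_⟩
  by_cases hmove : ∃ g ∈ M, g (Sum.inr 0) ≠ Sum.inr 0
  · exfalso
    have hp := unique_case hk hm Q hQ hflip ⊤ (fun S hS g hg => hS g ⟨hg, Subgroup.mem_top g⟩) M
      (inf_le_left.trans hM.2) hmove
    let i : Fin m := ⟨0, by omega⟩
    exact hM.1.1 (subgroup_eq_top_of_isPreprimitive_of_isSwap_mem hp _
      ⟨_, _, by simp, flip1_eq_swap i⟩ (hM.2 (hflip i)))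
  · push Not at hmove
    exact ((hM.1.le_iff.1 fun g hg => hmove g hg).resolve_left hcoat.1).symm

theorem model_alt (hε : ε ≤ 1) (Q : Sylow 2 (Perm (Pt m ε)))
    (hQ : (Q : Subgroup (Perm (Pt m ε))) ≤ cent m ε)
    (hflip : ∀ i, flip1 m ε i ∈ (Q : Subgroup (Perm (Pt m ε))))
    (h5 : 5 ≤ 2 * m + ε) (R : Sylow 2 (alternatingGroup (Pt m ε)))
    (hR : (R : Subgroup (alternatingGroup (Pt m ε))) =
      (Q : Subgroup (Perm (Pt m ε))).subgroupOf (alternatingGroup (Pt m ε))) :
    Uniq (R : Subgroup (alternatingGroup (Pt m ε))) ↔ ∃ k : ℕ, 2 ≤ k ∧ 2 * m + ε = 2 ^ k + 1 := by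
  classical
  constructor
  · intro hu
    by_contra hne
    obtain ⟨K1, K2, h1, h2, -, hc, ⟨e, heA, he1, he2⟩, ⟨f, hfA, hf⟩⟩ := exists_two hε Q hQ h5 hne
    refine not_uniq (K1 := K1.subgroupOf _) (K2 := K2.subgroupOf _) (hR ▸ fun g hg => h1 hg)
      (fun h => hf ?_) (hR ▸ fun g hg => h2 hg) hc (fun h => he2 (h (x := ⟨e, heA⟩) he1)) hu
    exact (Subgroup.subgroupOf_eq_top.1 h) hfA
  rintro ⟨k, hk, hnk⟩
  have heven : Even (2 ^ k) := Even.pow_of_ne_zero even_two (by omega)
  obtain ⟨c, hc⟩ := heven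
  obtain rfl : ε = 1 := by omega
  have hm : 2 * m = 2 ^ k := by omega
  have hm2 : 2 ≤ m := by omega
  let A := alternatingGroup (Pt m 1)
  have hdA : ∀ i j : Fin m, flip1 m 1 i * flip1 m 1 j ∈ A := fun i j => by
    show _ ∈ alternatingGroup (Pt m 1)
    rw [mem_alternatingGroup, map_mul, sign_flip1, sign_flip1, Int.units_mul_self]
  have hcoat : IsCoatom (stabilizer A (Sum.inr 0 : Pt m 1)) := by
    rw [← stabilizer_singleton]
    exact alternatingGroup.isCoatom_stabilizer (Set.singleton_nonempty _)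
      (Set.nonempty_of_ncard_ne_zero (by rw [Set.ncard_compl, Set.ncard_singleton]; simp <;> omega))
      (by rw [Set.ncard_singleton]; simp <;> omega)
  refine ⟨stabilizer A (Sum.inr 0 : Pt m 1),
    ⟨hcoat, fun g hg => cent_fix (g := (g : Perm (Pt m 1))) (hQ (hR.le hg))⟩, fun M hM => ?_⟩
  by_cases hmove : ∃ g ∈ M, (g : Perm (Pt m 1)) (Sum.inr 0) ≠ Sum.inr 0
  · exfalso
    obtain ⟨g, hg, hgx⟩ := hmove
    have hQM : (Q : Subgroup (Perm (Pt m 1))) ⊓ A ≤ M.map A.subtype := fun y hy =>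
      ⟨⟨y, hy.2⟩, hM.2 (hR.ge hy.1), rfl⟩
    have hinv : ∀ S : Set (Pt m 1), (∀ g ∈ (Q : Subgroup (Perm (Pt m 1))) ⊓ A, g • S = S) →
        ∀ g ∈ (Q : Subgroup (Perm (Pt m 1))), g • S = S := by
      intro S hS g hg
      let i0 : Fin m := ⟨0, by omega⟩
      let i1 : Fin m := ⟨1, by omega⟩
      have hfl : flip1 m 1 i0 • S = S := by
        refine Set.eq_of_subset_of_ncard_le ?_ (by rw [Set.ncard_smul_set])
        rintro _ ⟨z, hz, rfl⟩
        show flip1 m 1 i0 z ∈ S
        by_cases hz0 : proj z = some i0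
        · rw [← hS _ ⟨mul_mem (hflip i0) (hflip i1), hdA i0 i1⟩]
          refine ⟨z, hz, ?_⟩
          show (flip1 m 1 i0 * flip1 m 1 i1) z = _
          rw [Perm.mul_apply, flip1_of_ne (i := i1) (by rw [hz0]; simp [i0, i1])]
        · rwa [flip1_of_ne hz0]
      rcases Int.units_eq_one_or (sign g) with hs | hs
      · exact hS g ⟨hg, mem_alternatingGroup.2 hs⟩
      · have h1 : g * flip1 m 1 i0 ∈ A := by
          show _ ∈ alternatingGroup (Pt m 1)
          rw [mem_alternatingGroup, map_mul, sign_flip1, hs, Int.units_mul_self]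
        have h2 := hS _ ⟨mul_mem hg (hflip i0), h1⟩
        rwa [mul_smul, hfl] at h2
    have hp := unique_case hk hm Q hQ hflip A hinv (M.map A.subtype) hQM
      ⟨g, Subgroup.mem_map_of_mem _ hg, hgx⟩
    rcases Nat.lt_or_ge m 4 with hm4 | hm4
    · -- five points
      have hk2 : k = 2 := by
        by_contra h
        have : 2 ^ 3 ≤ 2 ^ k := Nat.pow_le_pow_right two_pos (by omega)
        omega
      subst hk2
      have hm' : m = 2 := by omega
      subst hm'
      have hcard : Nat.card (Pt 2 1) = 5 := by simp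
      haveI : Fact (Nat.Prime 2) := ⟨Nat.prime_two⟩
      haveI : Nontrivial (Pt 2 1) := Finite.one_lt_card_iff_nontrivial.1 (by omega)
      have h4 : 4 ∣ Nat.card M := by
        refine dvd_trans ?_ (Subgroup.card_dvd_of_le hM.2)
        rw [R.card_eq_multiplicity]
        rw [show (4 : ℕ) = 2 ^ 2 by rfl]
        refine pow_dvd_pow 2 ((Nat.Prime.pow_dvd_iff_le_factorization Nat.prime_two
          (Nat.card_pos (α := alternatingGroup (Pt 2 1))).ne').1 ?_)
        rw [nat_card_alternatingGroup, hcard]; norm_num [Nat.factorial]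
      have h5' : 5 ∣ Nat.card M := by
        haveI := hp.toIsPretransitive
        have h := (stabilizer (M.map A.subtype) (Sum.inr 0 : Pt 2 1)).index_dvd_card
        rw [index_stabilizer_of_transitive, hcard, Subgroup.card_map_of_injective (Subgroup.subtype_injective _)] at h
        exact h
      exact hM.1.1 (eq_top_of_twenty hcard M (Nat.Coprime.mul_dvd_of_dvd_of_dvd (by norm_num) h4 h5'))
    · obtain ⟨t, ht, ht3⟩ := exists_threeCycle hm4 (M.map A.subtype)
        (fun i j => hQM ⟨mul_mem (hflip i) (hflip j), hdA i j⟩) (Subgroup.mem_map_of_mem _ hg) hgx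
      have hle := alternatingGroup_le_of_isPreprimitive_of_isThreeCycle_mem hp ht3 ht
      refine hM.1.1 (eq_top_iff.2 fun z _ => ?_)
      obtain ⟨z', hz', hzz⟩ := hle z.2
      rwa [← Subtype.ext hzz]
  · push Not at hmove
    exact ((hM.1.le_iff.1 fun g hg => hmove g hg).resolve_left hcoat.1).symm

/-- Sylow subgroups of `Sₙ` and `Aₙ` in a single maximal subgroup. -/
theorem uniq_iff (n : ℕ) (hn : 5 ≤ n) :
    (∀ R : Sylow 2 (alternatingGroup (Fin n)),
      Uniq (R : Subgroup (alternatingGroup (Fin n))) ↔ ∃ k : ℕ, 2 ≤ k ∧ n = 2 ^ k + 1) ∧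
    (∀ R : Sylow 2 (Perm (Fin n)),
      Uniq (R : Subgroup (Perm (Fin n))) ↔ ∃ k : ℕ, 2 ≤ k ∧ n = 2 ^ k + 1) := by
  haveI : Fact (Nat.Prime 2) := ⟨Nat.prime_two⟩
  obtain ⟨m, ε, hε, rfl⟩ : ∃ m ε, ε ≤ 1 ∧ n = 2 * m + ε := ⟨n / 2, n % 2, by omega, by omega⟩
  let e : Fin (2 * m + ε) ≃ Pt m ε := Fintype.equivOfCardEq (by simp; omega)
  obtain ⟨P₀, Q, hQ, hflip⟩ := exists_sylow (m := m) hε
  have hQc : (Q : Subgroup (Perm (Pt m ε))) ≤ cent m ε := hQ ▸ Subgroup.map_subtype_le _
  have hfl : ∀ i, flip1 m ε i ∈ (Q : Subgroup (Perm (Pt m ε))) := fun i =>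
    hQ ▸ Subgroup.mem_map_of_mem _ (hflip _)
  obtain ⟨R, hR⟩ : ∃ R : Sylow 2 (alternatingGroup (Pt m ε)),
      (R : Subgroup (alternatingGroup (Pt m ε))) =
        (Q : Subgroup (Perm (Pt m ε))).subgroupOf (alternatingGroup (Pt m ε)) := by
    obtain ⟨S⟩ : Nonempty (Sylow 2 (alternatingGroup (Pt m ε))) := inferInstance
    obtain ⟨P, hP⟩ := (S.isPGroup'.map (alternatingGroup (Pt m ε)).subtype).exists_le_sylow
    obtain ⟨h, hh⟩ := MulAction.exists_smul_eq (Perm (Pt m ε)) P Q
    let φ : MulAut (alternatingGroup (Pt m ε)) := MulAut.conjNormal h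
    refine ⟨φ • S, ?_⟩
    refine ((φ • S).is_maximal'
      (Q.isPGroup'.comap_of_injective _ (Subgroup.subtype_injective _)) ?_).symm
    intro z hz
    rw [Sylow.pointwise_smul_def, Subgroup.mem_pointwise_smul_iff_inv_smul_mem] at hz
    show (z : Perm (Pt m ε)) ∈ (Q : Subgroup (Perm (Pt m ε)))
    rw [← hh, Sylow.coe_subgroup_smul, Subgroup.mem_pointwise_smul_iff_inv_smul_mem]
    convert hP (Subgroup.mem_map_of_mem _ hz) using 1
    simp [φ, MulAut.smul_def, MulAut.conjNormal_symm_apply]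
  exact ⟨fun S => (uniq_sylow_iff e.altCongrHom S R).trans (model_alt hε Q hQc hfl hn R hR),
    fun S => (uniq_sylow_iff e.permCongrHom S Q).trans (model_perm hε Q hQc hfl hn)⟩

end CfsgLib.KnownA.SylowTwoUnique
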