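import Mathlib

/-!
A commutative permutation group is inverted by a permutation, on any invariant set of points.
-/

set_option autoImplicit false

namespace CfsgLib.KnownA

variable {α : Type*}

/-- An involutory permutation inverting a commutative subgroup on an invariant set and fixing the rest. -/
theorem exists_inverter (P : Subgroup (Equiv.Perm α)) (hP : ∀ g ∈ P, ∀ h ∈ P, g * h = h * g)
    (S : Set α) (hS : ∀ g ∈ P, ∀ x ∈ S, g x ∈ S) :
    ∃ σ : Equiv.Perm α, σ * σ = 1 ∧ (∀ x, x ∈ S → σ x ∈ S) ∧ (∀ x, x ∉ S → σ x = x) ∧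
      ∀ g ∈ P, ∀ x ∈ S, σ (g x) = g⁻¹ (σ x) := by
  classical
  let r : Setoid α := MulAction.orbitRel P α
  let rep : α → α := fun x => (Quotient.mk r x).out
  have hrep : ∀ x, ∃ g ∈ P, g (rep x) = x := fun x => by
    have h : r (rep x) x := Quotient.mk_out x
    obtain ⟨g, hg⟩ := MulAction.mem_orbit_iff.1 (MulAction.orbitRel_apply.1 h)
    exact ⟨(g⁻¹ : P), (g⁻¹).2, by
      rw [← hg]; exact inv_smul_smul g x⟩
  choose c hc hcx using hrep
  have hrepg : ∀ g ∈ P, ∀ x, rep (g x) = rep x := fun g hg x => by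
    show (Quotient.mk r (g x)).out = (Quotient.mk r x).out
    congr 1
    exact Quotient.sound (MulAction.orbitRel_apply.2 ⟨⟨g, hg⟩, rfl⟩)
  let τ : α → α := fun x => (c x)⁻¹ (rep x)
  have hτ : ∀ g ∈ P, ∀ x, τ (g x) = g⁻¹ (τ x) := by
    intro g hg x
    have h1 : c (g x) (rep x) = g (c x (rep x)) := by
      conv_lhs => rw [← hrepg g hg x]
      rw [hcx, hcx]
    show (c (g x))⁻¹ (rep (g x)) = g⁻¹ ((c x)⁻¹ (rep x))
    rw [hrepg g hg x]
    have e : (c x)⁻¹ * g⁻¹ = g⁻¹ * (c x)⁻¹ := hP _ (P.inv_mem (hc x)) _ (P.inv_mem hg)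
    have e2 : (c x)⁻¹ * g⁻¹ * (c (g x))⁻¹ * g * c x = (c (g x))⁻¹ := by
      have := hP _ (P.inv_mem (hc (g x))) _ (P.mul_mem hg (hc x))
      rw [mul_assoc _ g, mul_assoc _ _ (g * c x), this]
      group
    calc (c (g x))⁻¹ (rep x) = ((c x)⁻¹ * g⁻¹ * (c (g x))⁻¹ * g * c x) (rep x) := by rw [e2]
      _ = (c x)⁻¹ (g⁻¹ (rep x)) := by simp only [Equiv.Perm.mul_apply]; rw [← h1]; simp
      _ = g⁻¹ ((c x)⁻¹ (rep x)) := by
          have := Equiv.congr_fun e (rep x)
          simpa using this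
  have hτrep : ∀ x, τ (rep x) = rep x := fun x => by
    show (c (rep x))⁻¹ (rep (rep x)) = rep x
    have : rep (rep x) = rep x := by
      show (Quotient.mk r (Quotient.mk r x).out).out = _
      rw [Quotient.out_eq]
    rw [this, Equiv.Perm.inv_eq_iff_eq]
    have h := hcx (rep x)
    rw [this] at h
    exact h.symm
  have hττ : ∀ x, τ (τ x) = x := fun x => by
    show τ ((c x)⁻¹ (rep x)) = x
    rw [hτ _ (P.inv_mem (hc x)), hτrep, inv_inv, hcx]
  have hτS : ∀ x, x ∈ S → τ x ∈ S := fun x hx => by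
    apply hS _ (P.inv_mem (hc x))
    have h := hS _ (P.inv_mem (hc x)) x hx
    rwa [Equiv.Perm.inv_eq_iff_eq.2 (hcx x).symm] at h
  let σ : α → α := fun x => if x ∈ S then τ x else x
  have hσσ : Function.Involutive σ := fun x => by
    by_cases hx : x ∈ S <;> simp [σ, hx, hτS, hττ]
  refine ⟨hσσ.toPerm σ, Equiv.ext hσσ, fun x hx => ?_, fun x hx => ?_, fun g hg x hx => ?_⟩
  · show σ x ∈ S; simp [σ, hx, hτS]
  · show σ x = x; simp [σ, hx]
  · show σ (g x) = g⁻¹ (σ x); simp [σ, hx, hS g hg x hx, hτ g hg x]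

/-- An element outside a normal subgroup with square inside makes the index even. -/
theorem two_dvd_index {G : Type*} [Group G] (H : Subgroup G) [H.Normal] (x : G) (hx : x ∉ H)
    (hx2 : x * x ∈ H) : 2 ∣ H.index := by
  have h : orderOf (QuotientGroup.mk x : G ⧸ H) = 2 := by
    apply orderOf_eq_prime
    · rw [sq, ← QuotientGroup.mk_mul, QuotientGroup.eq_one_iff]; exact hx2
    · rwa [Ne, QuotientGroup.eq_one_iff]
  rw [Subgroup.index_eq_card, ← h]
  exact orderOf_dvd_natCard _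

end CfsgLib.KnownA
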