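import Mathlib
import Cfsg.Agent.Lib.KnownA.OrbitInv

/-!
Abelian Sylow subgroups of alternating groups: a point-inverting element in the normalizer.
-/

set_option autoImplicit false

namespace CfsgLib.KnownA

variable {α : Type*} [Fintype α] [DecidableEq α]

/-- Restriction to an invariant set, as a homomorphism. -/
noncomputable def restrictHom (A : Subgroup (Equiv.Perm α)) (S : Set α) [DecidablePred (· ∈ S)]
    (hS : ∀ g ∈ A, ∀ x, g x ∈ S ↔ x ∈ S) : A →* Equiv.Perm α where
  toFun g := Equiv.Perm.ofSubtype ((g : Equiv.Perm α).subtypePerm (fun x => hS g g.2 x) : Equiv.Perm {x // x ∈ S})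
  map_one' := by
    rw [show ((1 : A) : Equiv.Perm α).subtypePerm (fun x => hS _ (1 : A).2 x) = (1 : Equiv.Perm {x // x ∈ S}) from rfl,
      map_one]
  map_mul' g h := by
    rw [← map_mul]; rfl

theorem restrictHom_apply (A : Subgroup (Equiv.Perm α)) (S : Set α) [DecidablePred (· ∈ S)]
    (hS : ∀ g ∈ A, ∀ x, g x ∈ S ↔ x ∈ S) (g : A) (x : α) :
    restrictHom A S hS g x = if x ∈ S then (g : Equiv.Perm α) x else x := by
  split_ifs with h
  · exact Equiv.Perm.ofSubtype_apply_of_mem _ h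
  · exact Equiv.Perm.ofSubtype_apply_of_not_mem _ h

/-- The restrictions of an abelian Sylow subgroup of the alternating group stay inside it, for odd `p`. -/
theorem restrict_mem {p : ℕ} [Fact p.Prime] (hp : p ≠ 2) (P : Sylow p (alternatingGroup α))
    (A : Subgroup (Equiv.Perm α)) (hA : A = (P : Subgroup (alternatingGroup α)).map (alternatingGroup α).subtype)
    (hcomm : ∀ g ∈ A, ∀ h ∈ A, g * h = h * g)
    (S : Set α) [DecidablePred (· ∈ S)] (hS : ∀ g ∈ A, ∀ x, g x ∈ S ↔ x ∈ S) (g : A) :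
    restrictHom A S hS g ∈ A := by
  set R := (restrictHom A S hS).range
  have hpA : IsPGroup p A := hA ▸ P.2.map _
  have hpR : IsPGroup p R := hpA.of_surjective _ (MonoidHom.rangeRestrict_surjective _)
  have hcen : A ≤ Subgroup.centralizer (R : Set (Equiv.Perm α)) := by
    intro h hh
    rw [Subgroup.mem_centralizer_iff]
    rintro _ ⟨k, rfl⟩
    ext x
    simp only [Equiv.Perm.mul_apply, restrictHom_apply]
    have hk := Equiv.congr_fun (hcomm _ k.2 _ hh) x
    simp only [Equiv.Perm.mul_apply] at hk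
    by_cases hx : x ∈ S
    · rw [if_pos ((hS h hh x).2 hx), if_pos hx, hk]
    · rw [if_neg fun e => hx ((hS h hh x).1 e), if_neg hx]
  have hsup : IsPGroup p (A ⊔ R : Subgroup (Equiv.Perm α)) :=
    hpA.to_sup_of_normal_right' hpR (hcen.trans (Subgroup.centralizer_le_normalizer _))
  have hle : A ⊔ R ≤ alternatingGroup α := by
    intro x hx
    obtain ⟨k, hk⟩ := IsPGroup.iff_orderOf.1 hsup ⟨x, hx⟩
    rw [Subgroup.orderOf_mk] at hk
    rw [Equiv.Perm.mem_alternatingGroup]
    have h1 : Equiv.Perm.sign x ^ (p ^ k) = 1 := by rw [← map_pow, ← hk, pow_orderOf_eq_one, map_one]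
    have hodd : Odd (p ^ k) := ((Fact.out : p.Prime).odd_of_ne_two hp).pow
    obtain ⟨j, hj⟩ := hodd
    rw [hj, pow_succ, pow_mul, Int.units_sq, one_pow, one_mul] at h1
    exact h1
  have hpre : IsPGroup p ((A ⊔ R).subgroupOf (alternatingGroup α)) :=
    hsup.of_equiv (Subgroup.subgroupOfEquivOfLe hle).symm
  have hmax := P.is_maximal' hpre (fun x hx => by
    rw [Subgroup.mem_subgroupOf]
    exact Subgroup.mem_sup_left (hA ▸ ⟨x, hx, rfl⟩))
  have hmem : restrictHom A S hS g ∈ A ⊔ R := Subgroup.mem_sup_right ⟨g, rfl⟩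
  refine (SetLike.ext_iff.1 hA _).2 ⟨⟨_, hle hmem⟩, ?_, rfl⟩
  show (⟨_, hle hmem⟩ : alternatingGroup α) ∈ (P : Subgroup (alternatingGroup α))
  rw [← hmax, Subgroup.mem_subgroupOf]
  exact hmem

/-- An even involution supported on an invariant set where the group acts nontrivially, inverting it there,
gives an even automizer. -/
theorem automizer_even_of_inverter {p : ℕ} [Fact p.Prime] (hp : p ≠ 2) (P : Sylow p (alternatingGroup α))
    (A : Subgroup (Equiv.Perm α)) (hA : A = (P : Subgroup (alternatingGroup α)).map (alternatingGroup α).subtype)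
    (hcomm : ∀ g ∈ A, ∀ h ∈ A, g * h = h * g)
    (S : Set α) [DecidablePred (· ∈ S)] (hS : ∀ g ∈ A, ∀ x, g x ∈ S ↔ x ∈ S)
    (hne : ∃ g ∈ A, ∃ x ∈ S, g x ≠ x)
    (t : Equiv.Perm α) (ht : t * t = 1) (htS : ∀ x, x ∈ S → t x ∈ S) (htout : ∀ x, x ∉ S → t x = x)
    (hinv : ∀ g ∈ A, ∀ x ∈ S, t (g x) = g⁻¹ (t x)) (heven : Equiv.Perm.sign t = 1) :
    2 ∣ ((Subgroup.centralizer ((P : Subgroup (alternatingGroup α)) : Set (alternatingGroup α))).subgroupOf
      (Subgroup.normalizer ((P : Subgroup (alternatingGroup α)) : Set (alternatingGroup α)))).index := by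
  have hts : t⁻¹ = t := inv_eq_of_mul_eq_one_right ht
  have htt : ∀ x, t (t x) = x := fun x => Equiv.congr_fun ht x
  have key : ∀ g : A, t * (g : Equiv.Perm α) * t⁻¹ =
      (g : Equiv.Perm α) * (restrictHom A S hS g)⁻¹ * (restrictHom A S hS g)⁻¹ := by
    intro g
    rw [mul_inv_eq_iff_eq_mul]
    ext x
    simp only [Equiv.Perm.mul_apply]
    by_cases hx : x ∈ S
    · have hi := hinv g g.2 x hx
      rw [hi]
      have hy := htS x hx
      rw [show (restrictHom A S hS g)⁻¹ = restrictHom A S hS g⁻¹ from (map_inv _ g).symm]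
      have hy2 : restrictHom A S hS g⁻¹ (t x) = (g : Equiv.Perm α)⁻¹ (t x) := by
        rw [restrictHom_apply, if_pos hy]; rfl
      rw [hy2, restrictHom_apply, if_pos ((hS _ (A.inv_mem g.2) _).2 hy)]
      simp
    · rw [htout _ hx, htout _ (fun e => hx ((hS g g.2 x).1 e)),
        show (restrictHom A S hS g)⁻¹ = restrictHom A S hS g⁻¹ from (map_inv _ g).symm]
      have hx2 : restrictHom A S hS g⁻¹ x = x := by rw [restrictHom_apply, if_neg hx]
      rw [hx2, hx2]
  have hconj : ∀ g ∈ A, t * g * t⁻¹ ∈ A := fun g hg => by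
    rw [key ⟨g, hg⟩]
    have hr := A.inv_mem (restrict_mem hp P A hA hcomm S hS ⟨g, hg⟩)
    exact A.mul_mem (A.mul_mem hg hr) hr
  let τ : alternatingGroup α := ⟨t, Equiv.Perm.mem_alternatingGroup.2 heven⟩
  have hconj' : ∀ g ∈ (P : Subgroup (alternatingGroup α)), τ * g * τ⁻¹ ∈ (P : Subgroup (alternatingGroup α)) := by
    intro g hg
    have h := hconj g (hA ▸ ⟨g, hg, rfl⟩)
    rw [hA] at h
    obtain ⟨k, hk, hk'⟩ := h
    have : τ * g * τ⁻¹ = k := Subtype.ext hk'.symm
    rw [this]; exact hk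
  have hττ : τ⁻¹ = τ := Subtype.ext hts
  have hN : τ ∈ Subgroup.normalizer ((P : Subgroup (alternatingGroup α)) : Set (alternatingGroup α)) := by
    rw [Subgroup.mem_normalizer_iff]
    refine fun g => ⟨hconj' g, fun hg => ?_⟩
    have h := hconj' _ hg
    rw [hττ] at h
    have e : τ * (τ * g * τ) * τ = g := by
      apply Subtype.ext
      show t * (t * (g : Equiv.Perm α) * t) * t = g
      rw [← mul_assoc, ← mul_assoc, ht, one_mul, mul_assoc, ht, mul_one]
    rwa [e] at h
  refine two_dvd_index _ ⟨τ, hN⟩ ?_ ?_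
  · intro hC
    rw [Subgroup.mem_subgroupOf, Subgroup.mem_centralizer_iff] at hC
    obtain ⟨g, hg, x, hx, hgx⟩ := hne
    obtain ⟨g', hg', rfl⟩ : ∃ g' ∈ (P : Subgroup (alternatingGroup α)), (g' : Equiv.Perm α) = g := by
      rw [hA] at hg; exact hg
    have hct := congrArg Subtype.val (hC g' hg')
    -- `t` commutes with `g'` and inverts it at `t x`
    have h1 := Equiv.congr_fun hct x
    simp only [Subgroup.coe_mul, Equiv.Perm.mul_apply] at h1
    have h1' : (g' : Equiv.Perm α) (t x) = (g' : Equiv.Perm α)⁻¹ (t x) := by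
      rw [h1]; exact hinv _ hg x hx
    have h2 : (((g' : Equiv.Perm α)) ^ 2) (t x) = t x := by
      rw [sq, Equiv.Perm.mul_apply]; conv_lhs => arg 2; rw [h1']
      exact Equiv.apply_symm_apply _ _
    obtain ⟨k, hk⟩ := IsPGroup.iff_orderOf.1 P.2 ⟨g', hg'⟩
    rw [Subgroup.orderOf_mk] at hk
    obtain ⟨j, hj⟩ := (((Fact.out : p.Prime).odd_of_ne_two hp).pow : Odd (p ^ k))
    have h3 : ((g' : Equiv.Perm α) ^ (p ^ k)) = 1 := by
      rw [← SubmonoidClass.coe_pow, ← hk, pow_orderOf_eq_one]; rfl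
    have h4 : (g' : Equiv.Perm α) (t x) = t x := by
      have := Equiv.congr_fun h3 (t x)
      rw [hj, pow_succ', Equiv.Perm.mul_apply, pow_mul] at this
      have hfix : (((g' : Equiv.Perm α) ^ 2) ^ j) (t x) = t x :=
        Function.IsFixedPt.perm_pow h2 j
      rwa [hfix] at this
    have h5 := congrArg t h4
    rw [hinv _ hg (t x) (htS x hx), htt, Equiv.Perm.inv_eq_iff_eq] at h5
    exact hgx h5.symm
  · rw [Subgroup.mem_subgroupOf, Subgroup.coe_mul, show τ * τ = 1 from Subtype.ext ht]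
    exact one_mem _

/-- The sign of a permutation transported along an embedding. -/
theorem sign_viaEmbedding_eq {β : Type*} [Fintype β] [DecidableEq β] (e : Equiv.Perm α) (ι : α ↪ β) :
    Equiv.Perm.sign (Equiv.Perm.viaEmbedding e ι) = Equiv.Perm.sign e := by
  unfold Equiv.Perm.viaEmbedding
  convert Equiv.Perm.sign_extendDomain _ _

end CfsgLib.KnownA
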