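import Mathlib

/-!
The number of fixed points is not constant on a product of two classes of an alternating group.
-/

set_option autoImplicit false

namespace CfsgLib.KnownA.AltClassProduct

open Equiv Finset

variable {α : Type*} [Fintype α] [DecidableEq α]

/-- The number of fixed points. -/
def fixN (m : Perm α) : ℕ := (univ.filter fun i => m i = i).card

theorem fixN_eq (m : Perm α) : Nat.card (Function.fixedPoints ⇑m) = fixN m := by
  rw [fixN, ← Fintype.card_subtype, ← Nat.card_eq_fintype_card]
  exact Nat.card_congr (Equiv.subtypeEquivRight fun i => Iff.rfl)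

theorem fixN_conj (k m : Perm α) : fixN (k * m * k⁻¹) = fixN m := by
  refine card_equiv k.symm fun i => ?_
  rw [mem_filter, mem_filter]
  simp [Equiv.eq_symm_apply]

/-- The fixed point count is constantly `C` on the product of the two classes. -/
def Const (a b : Perm α) (C : ℕ) : Prop :=
  ∀ h ∈ alternatingGroup α, fixN (a * (h * b * h⁻¹)) = C

theorem Const.swap {a b : Perm α} {C : ℕ} (H : Const a b C) : Const b a C := fun h hh => by
  rw [← H h⁻¹ (inv_mem hh), ← fixN_conj (h⁻¹ * b⁻¹) (b * (h * a * h⁻¹))]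
  congr 1
  group

theorem inj3 {β : Type*} {w x y : β} (h1 : w ≠ x) (h2 : w ≠ y) (h3 : x ≠ y) :
    Function.Injective ![w, x, y] := by
  intro u v e
  fin_cases u <;> fin_cases v <;>
    first
      | rfl
      | exact absurd e h1
      | exact absurd e.symm h1
      | exact absurd e h2
      | exact absurd e.symm h2
      | exact absurd e h3
      | exact absurd e.symm h3

theorem inj4 {β : Type*} {w x y z : β} (h1 : w ≠ x) (h2 : w ≠ y) (h3 : w ≠ z) (h4 : x ≠ y)
    (h5 : x ≠ z) (h6 : y ≠ z) : Function.Injective ![w, x, y, z] := by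
  intro u v e
  fin_cases u <;> fin_cases v <;>
    first
      | rfl
      | exact absurd e h1
      | exact absurd e.symm h1
      | exact absurd e h2
      | exact absurd e.symm h2
      | exact absurd e h3
      | exact absurd e.symm h3
      | exact absurd e h4
      | exact absurd e.symm h4
      | exact absurd e h5
      | exact absurd e.symm h5
      | exact absurd e h6
      | exact absurd e.symm h6

/-- Mapping three points by an even permutation. -/
theorem exists_even_three (h5 : 5 ≤ Fintype.card α) {k₀ k₁ k₂ i₀ i₁ i₂ : α} (hk : k₀ ≠ k₁)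
    (hk' : k₀ ≠ k₂) (hk'' : k₁ ≠ k₂) (hi : i₀ ≠ i₁) (hi' : i₀ ≠ i₂) (hi'' : i₁ ≠ i₂) :
    ∃ h ∈ alternatingGroup α, h k₀ = i₀ ∧ h k₁ = i₁ ∧ h k₂ = i₂ := by
  obtain ⟨g, hg⟩ := Perm.exists_extending_pair ![k₀, k₁, k₂] ![i₀, i₁, i₂]
    (inj3 hk hk' hk'') (inj3 hi hi' hi'')
  have g0 : g k₀ = i₀ := hg 0
  have g1 : g k₁ = i₁ := hg 1
  have g2 : g k₂ = i₂ := hg 2
  rcases Int.units_eq_one_or (Perm.sign g) with e | e
  · exact ⟨g, Perm.mem_alternatingGroup.2 e, g0, g1, g2⟩
  · have hc : 1 < ({i₀, i₁, i₂} : Finset α)ᶜ.card := by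
      rw [card_compl]
      have := card_le_three (a := i₀) (b := i₁) (c := i₂)
      omega
    obtain ⟨u, hu, v, hv, huv⟩ := one_lt_card.1 hc
    simp only [mem_compl, mem_insert, mem_singleton, not_or] at hu hv
    refine ⟨swap u v * g, Perm.mem_alternatingGroup.2 ?_, ?_, ?_, ?_⟩
    · rw [map_mul, Perm.sign_swap huv, e]; rfl
    all_goals rw [Perm.mul_apply]
    · rw [g0, swap_apply_of_ne_of_ne (Ne.symm hu.1) (Ne.symm hv.1)]
    · rw [g1, swap_apply_of_ne_of_ne (Ne.symm hu.2.1) (Ne.symm hv.2.1)]
    · rw [g2, swap_apply_of_ne_of_ne (Ne.symm hu.2.2) (Ne.symm hv.2.2)]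

/-- The averaging identity. -/
theorem const_identity (h5 : 5 ≤ Fintype.card α) {a b : Perm α} {C : ℕ} (H : Const a b C) :
    C * Fintype.card α * (Fintype.card α - 1) =
      fixN a * fixN b * (Fintype.card α - 1) +
        (Fintype.card α - fixN a) * (Fintype.card α - fixN b) := by
  set n := Fintype.card α
  let A := alternatingGroup α
  let N : α → α → ℕ := fun i k => (univ.filter fun h : A => h.1 (b (h.1⁻¹ i)) = k).card
  have hc : 0 < Fintype.card A := Fintype.card_pos
  have hN : ∀ (σ : A) (i k : α), N (σ.1 i) (σ.1 k) = N i k := fun σ i k =>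
    (card_equiv (Equiv.mulLeft σ) fun h => by
      simp only [mem_filter, mem_univ, true_and, Equiv.coe_mulLeft, Subgroup.coe_mul, mul_inv_rev,
        Perm.mul_apply]
      simp).symm
  have htr : ∀ i i' : α, ∃ σ : A, σ.1 i = i' := by
    intro i i'
    obtain ⟨k₁, k₂, h1, h2, h3⟩ : ∃ k₁ k₂ : α, i ≠ k₁ ∧ i ≠ k₂ ∧ k₁ ≠ k₂ := by
      obtain ⟨u, hu, v, hv, huv⟩ := one_lt_card.1 (show 1 < ({i} : Finset α)ᶜ.card by
        rw [card_compl, card_singleton]; omega)
      exact ⟨u, v, by simpa [eq_comm] using hu, by simpa [eq_comm] using hv, huv⟩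
    obtain ⟨l₁, l₂, h1', h2', h3'⟩ : ∃ k₁ k₂ : α, i' ≠ k₁ ∧ i' ≠ k₂ ∧ k₁ ≠ k₂ := by
      obtain ⟨u, hu, v, hv, huv⟩ := one_lt_card.1 (show 1 < ({i'} : Finset α)ᶜ.card by
        rw [card_compl, card_singleton]; omega)
      exact ⟨u, v, by simpa [eq_comm] using hu, by simpa [eq_comm] using hv, huv⟩
    obtain ⟨h, hh, e, -, -⟩ := exists_even_three h5 h1 h2 h3 h1' h2' h3'
    exact ⟨⟨h, hh⟩, e⟩
  have hdiag : ∀ i : α, n * N i i = Fintype.card A * fixN b := by
    intro i
    calc n * N i i = ∑ j : α, N j j := by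
          rw [← smul_eq_mul, show n = (univ : Finset α).card from rfl, ← sum_const]
          refine sum_congr rfl fun j _ => ?_
          obtain ⟨σ, rfl⟩ := htr i j
          rw [hN]
      _ = ∑ h : A, fixN b := by
          simp only [N, card_filter]
          rw [sum_comm]
          refine sum_congr rfl fun h _ => ?_
          rw [fixN, card_filter]
          refine Fintype.sum_equiv h.1⁻¹ _ _ fun j => ?_
          congr 1
          rw [eq_iff_iff]
          constructor <;> intro e
          · exact h.1.injective (by rw [e]; simp)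
          · rw [e]; simp
      _ = _ := by simp
  have htot : ∀ i : α, ∑ k : α, N i k = Fintype.card A := fun i => by
    rw [← card_univ]
    exact (card_eq_sum_card_fiberwise fun h _ => mem_univ _).symm
  have hoff : ∀ i k : α, i ≠ k →
      n * (n - 1) * N i k = Fintype.card A * (n - fixN b) := by
    intro i k hik
    have hall : ∀ l ∈ univ.erase i, N i l = N i k := by
      intro l hl
      have hli : i ≠ l := fun e => (mem_erase.1 hl).1 e.symm
      obtain ⟨u, hu⟩ : ∃ u, u ∉ ({i, k} : Finset α) := by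
        by_contra hno
        push Not at hno
        have := card_le_card (show (univ : Finset α) ⊆ {i, k} from fun x _ => hno x)
        have := card_le_two (a := i) (b := k)
        rw [card_univ] at *
        omega
      obtain ⟨v, hv⟩ : ∃ v, v ∉ ({i, l} : Finset α) := by
        by_contra hno
        push Not at hno
        have := card_le_card (show (univ : Finset α) ⊆ {i, l} from fun x _ => hno x)
        have := card_le_two (a := i) (b := l)
        rw [card_univ] at *
        omega
      simp only [mem_insert, mem_singleton, not_or] at hu hv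
      obtain ⟨h, hh, e0, e1, -⟩ := exists_even_three h5 hik (Ne.symm hu.1) (Ne.symm hu.2) hli
        (Ne.symm hv.1) (Ne.symm hv.2)
      rw [← e1]
      conv_lhs => rw [← e0]
      exact hN ⟨h, hh⟩ i k
    have hs := htot i
    rw [← add_sum_erase _ _ (mem_univ i), sum_congr rfl hall, sum_const, smul_eq_mul,
      card_erase_of_mem (mem_univ i), card_univ] at hs
    have hd := hdiag i
    have hs2 : n * (n - 1) * N i k = n * Fintype.card A - n * N i i := by
      rw [← hs, mul_add, Nat.add_sub_cancel_left, mul_assoc]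
    rw [hs2, hd, Nat.mul_sub, mul_comm]
  have hsum : Fintype.card A * C = ∑ i : α, N i (a⁻¹ i) := by
    calc Fintype.card A * C = ∑ h : A, fixN (a * (h.1 * b * h.1⁻¹)) := by
          simp [sum_congr rfl fun (h : A) _ => H h.1 h.2]
      _ = _ := by
          simp only [fixN, card_filter, N]
          rw [sum_comm]
          refine sum_congr rfl fun i _ => sum_congr rfl fun h _ => ?_
          congr 1
          simp only [eq_iff_iff, Perm.mul_apply]
          exact (Perm.eq_inv_iff_eq.trans Iff.rfl).symm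
  rw [← sum_filter_add_sum_filter_not univ (fun i => a i = i)] at hsum
  have h1 : n * (n - 1) * ∑ i ∈ univ.filter (fun i => a i = i), N i (a⁻¹ i) =
      Fintype.card A * (fixN a * fixN b * (n - 1)) := by
    rw [mul_sum, sum_congr rfl (g := fun _ => Fintype.card A * fixN b * (n - 1)) fun i hi => ?_,
      sum_const, smul_eq_mul]
    · simp only [fixN]; ring
    · rw [mem_filter] at hi
      rw [show a⁻¹ i = i from Perm.inv_eq_iff_eq.2 hi.2.symm, mul_right_comm, hdiag]
  have h2 : n * (n - 1) * ∑ i ∈ univ.filter (fun i => ¬ a i = i), N i (a⁻¹ i) =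
      Fintype.card A * ((n - fixN a) * (n - fixN b)) := by
    rw [mul_sum, sum_congr rfl (g := fun _ => Fintype.card A * (n - fixN b)) fun i hi => ?_,
      sum_const, smul_eq_mul, filter_not, card_sdiff]
    · rw [inter_univ, card_univ]; simp only [fixN, n]; ring
    · rw [mem_filter] at hi
      exact hoff i _ fun e => hi.2 (Perm.inv_eq_iff_eq.1 e.symm).symm
  refine Nat.eq_of_mul_eq_mul_left hc ?_
  rw [mul_add, ← h1, ← h2, ← mul_add, ← hsum]
  ring

theorem two_le_support {a : Perm α} (ha : a ≠ 1) : fixN a + 2 ≤ Fintype.card α := by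
  have h2 := Perm.one_lt_card_support_of_ne_one ha
  have h3 := card_filter_add_card_filter_not (s := (univ : Finset α)) (fun i => a i = i)
  have : a.support = univ.filter fun i => ¬ a i = i := by ext i; simp
  rw [this] at h2
  rw [card_univ] at h3
  rw [fixN]
  omega

/-- Two fixed points in common position. -/
theorem two_le_fixN {m : Perm α} {i j : α} (hij : i ≠ j) (hi : m i = i) (hj : m j = j) :
    2 ≤ fixN m := by
  rw [← card_pair hij]
  exact card_le_card fun x hx => by
    rcases mem_insert.1 hx with rfl | hx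
    · simp [hi]
    · rw [mem_singleton] at hx; subst hx; simp [hj]

set_option maxHeartbeats 2000000 in
/-- The case of one fixed point. -/
theorem no_const_one (h5 : 5 ≤ Fintype.card α) {a b : Perm α} (hb : b ≠ 1) (ha : fixN a = 1)
    (H : Const a b 1) : False := by
  obtain ⟨p, hp⟩ := card_eq_one.1 ha
  have hap : a p = p := by
    have := mem_singleton_self p; rw [← hp] at this; simpa using this
  have hmov : ∀ i, a i = i → i = p := fun i hi => by
    have : i ∈ univ.filter fun i => a i = i := by simp [hi]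
    rw [hp] at this; simpa using this
  obtain ⟨k, hk⟩ : ∃ k, b k ≠ k := by
    by_contra hno
    push Not at hno
    exact hb (Perm.ext hno)
  have key : ∀ h : Perm α, h ∈ alternatingGroup α → ∀ i j, i ≠ j →
      h (b (h⁻¹ (a i))) = i → h (b (h⁻¹ (a j))) = j → False := by
    intro h hh i j hij e1 e2
    have := two_le_fixN (m := (h * b * h⁻¹) * a) hij (by simpa using e1) (by simpa using e2)
    rw [← fixN_conj a (h * b * h⁻¹ * a)] at this
    simp only [mul_inv_cancel_right, ← mul_assoc] at this
    have := H h hh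
    simp only [← mul_assoc] at this
    omega
  by_cases hB : ∃ k l, b k ≠ k ∧ b l ≠ l ∧ l ≠ k ∧ l ≠ b k ∧ b l ≠ k
  swap
  · -- a transposition or a three cycle
    push Not at hB
    have hfix : ∀ l, l ≠ k → l ≠ b k → b l ≠ k → b l = l := fun l h1 h2 h3 => by
      by_contra h4
      exact h3 (hB k l hk h4 h1 h2)
    obtain ⟨i, hi⟩ : ∃ i, i ≠ p := Fintype.exists_ne_of_one_lt_card (by omega) p
    obtain ⟨j, hjp, hji, hja⟩ : ∃ j, j ≠ p ∧ j ≠ i ∧ j ≠ a⁻¹ i := by
      by_contra hno
      push Not at hno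
      have := card_le_card (show (univ : Finset α) ⊆ {p, i, a⁻¹ i} from fun x _ => by
        by_cases x = p
        · simp [*]
        by_cases x = i
        · simp [*]
        simp [hno x ‹_› ‹_›])
      have := card_le_three (a := p) (b := i) (c := a⁻¹ i)
      rw [card_univ] at *
      omega
    have hai : a i ≠ i := fun e => hi (hmov i e)
    by_cases hbb : b (b k) = k
    · -- transposition
      have hb' : ∀ l, l ≠ k → l ≠ b k → b l = l := fun l h1 h2 => hfix l h1 h2 fun e => by
        rw [← hbb] at e; exact h2 (b.injective e)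
      obtain ⟨u, hu1, hu2⟩ : ∃ u, u ≠ k ∧ u ≠ b k := by
        by_contra hno
        push Not at hno
        have := card_le_card (show (univ : Finset α) ⊆ {k, b k} from fun x _ => by
          by_cases x = k
          · simp [*]
          simp [hno x ‹_›])
        have := card_le_two (a := k) (b := b k)
        rw [card_univ] at *
        omega
      obtain ⟨h, hh, e0, e1, -⟩ := exists_even_three h5 (Ne.symm hk) (Ne.symm hu1) (Ne.symm hu2)
        (Ne.symm hi) (Ne.symm hjp) (Ne.symm hji)
      have h0 := H h hh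
      rw [fixN, card_eq_one] at h0
      obtain ⟨m, hm⟩ := h0
      have hm' : (a * (h * b * h⁻¹)) m = m := by
        have := mem_singleton_self m; rw [← hm, mem_filter] at this; exact this.2
      simp only [Perm.mul_apply] at hm'
      obtain ⟨l, rfl⟩ : ∃ l, m = h l := ⟨h⁻¹ m, by simp⟩
      simp only [Perm.inv_eq_iff_eq.2 (rfl : h l = h l)] at hm'
      by_cases h1 : l = k
      · subst h1; rw [e1, e0] at hm'; exact hi (a.injective (hm'.trans hap.symm))
      by_cases h2 : l = b k
      · subst h2; rw [hbb, e0, hap, e1] at hm'; exact hi hm'.symm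
      rw [hb' l h1 h2] at hm'
      exact h1 (h.injective ((hmov _ hm').trans e0.symm))
    · -- three cycle
      have hk3 : b (b (b k)) = k := by
        by_contra h3
        refine h3 (hB k (b (b k)) hk (fun e => ?_) hbb (fun e => hk (b.injective e)))
        exact hk (b.injective (b.injective e))
      have hb' : ∀ l, l ≠ k → l ≠ b k → l ≠ b (b k) → b l = l := fun l h1 h2 h3 =>
        hfix l h1 h2 fun e => h3 (b.injective (e.trans hk3.symm))
      obtain ⟨h, hh, e0, e1, e2⟩ := exists_even_three h5 (Ne.symm hk) (Ne.symm hbb)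
        (fun e => hk (b.injective e.symm)) (Ne.symm hi) (Ne.symm hjp) (Ne.symm hji)
      have h0 := H h hh
      rw [fixN, card_eq_one] at h0
      obtain ⟨m, hm⟩ := h0
      have hm' : (a * (h * b * h⁻¹)) m = m := by
        have := mem_singleton_self m; rw [← hm, mem_filter] at this; exact this.2
      simp only [Perm.mul_apply] at hm'
      obtain ⟨l, rfl⟩ : ∃ l, m = h l := ⟨h⁻¹ m, by simp⟩
      simp only [Perm.inv_eq_iff_eq.2 (rfl : h l = h l)] at hm'
      by_cases h1 : l = k
      · subst h1; rw [e1, e0] at hm'; exact hi (a.injective (hm'.trans hap.symm))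
      by_cases h2 : l = b k
      · subst h2; rw [e2, e1] at hm'; exact hja (Perm.eq_inv_iff_eq.2 hm')
      by_cases h3 : l = b (b k)
      · subst h3; rw [hk3, e0, e2, hap] at hm'; exact hjp hm'.symm
      rw [hb' l h1 h2 h3] at hm'
      exact h1 (h.injective ((hmov _ hm').trans e0.symm))
  obtain ⟨k₁, k₂, hk1, hk2, hd1, hd2, hd3⟩ := hB
  by_cases hchain : (∃ i, a i ≠ i ∧ a (a i) ≠ i) ∧ ∃ l, b l ≠ l ∧ b (b l) ≠ l
  · obtain ⟨⟨i, hi, hii⟩, l, hl, hll⟩ := hchain
    obtain ⟨h, hh, e0, e1, e2⟩ := exists_even_three h5 (Ne.symm hl) (Ne.symm hll)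
      (fun e => hl (b.injective e.symm)) (i₀ := a (a i)) (i₁ := a i) (i₂ := i)
      (fun e => hi (a.injective e)) hii hi
    refine key h hh i (a i) (Ne.symm hi) ?_ ?_
    · rw [← e1, Perm.inv_eq_iff_eq.2 rfl, e2]
    · rw [← e0, Perm.inv_eq_iff_eq.2 rfl, e1]
  -- two disjoint arcs
  obtain ⟨i, hi⟩ : ∃ i, a i ≠ i := by
    obtain ⟨i, hi⟩ : ∃ i, i ≠ p := Fintype.exists_ne_of_one_lt_card (by omega) p
    exact ⟨i, fun e => hi (hmov i e)⟩
  obtain ⟨j, hjp, hj1, hj2, hj3⟩ : ∃ j, j ≠ p ∧ j ≠ i ∧ j ≠ a i ∧ j ≠ a⁻¹ i := by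
    by_contra hno
    push Not at hno
    have := card_le_card (show (univ : Finset α) ⊆ {p, i, a i, a⁻¹ i} from fun x _ => by
      by_cases x = p
      · simp [*]
      by_cases x = i
      · simp [*]
      by_cases x = a i
      · simp [*]
      simp [hno x ‹_› ‹_› ‹_›])
    have := card_le_four (a := p) (b := i) (c := a i) (d := a⁻¹ i)
    rw [card_univ] at *
    omega
  have hj4 : a j ≠ i := fun e => hj3 (Perm.eq_inv_iff_eq.2 e)
  have haj : a j ≠ j := fun e => hjp (hmov j e)
  obtain ⟨g, hg⟩ := Perm.exists_extending_pair ![k₁, b k₁, k₂, b k₂] ![a i, i, a j, j]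
    (inj4 (Ne.symm hk1) (Ne.symm hd1) (Ne.symm hd3) (Ne.symm hd2) (b.injective.ne (Ne.symm hd1))
      (Ne.symm hk2))
    (inj4 hi (a.injective.ne (Ne.symm hj1)) (Ne.symm hj2) (Ne.symm hj4) (Ne.symm hj1) haj)
  have g0 : g k₁ = a i := hg 0
  have g1 : g (b k₁) = i := hg 1
  have g2 : g k₂ = a j := hg 2
  have g3 : g (b k₂) = j := hg 3
  have key' : ∀ h : Perm α, h ∈ alternatingGroup α → h (b (h⁻¹ (a i))) = i → h k₂ = a j →
      h (b k₂) = j → False := fun h hh e1 e2 e3 => key h hh i j (Ne.symm hj1) e1 (by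
        rw [← e2, Perm.inv_eq_iff_eq.2 rfl, e3])
  rcases Int.units_eq_one_or (Perm.sign g) with e | e
  · exact key' g (Perm.mem_alternatingGroup.2 e) (by rw [← g0, Perm.inv_eq_iff_eq.2 rfl, g1]) g2 g3
  rw [not_and_or] at hchain
  push Not at hchain
  rcases hchain with hA | hA
  · have hii : a (a i) = i := hA i hi
    set h' := swap i (a i) * g with hh'
    have h0 : h' k₁ = i := by rw [hh', Perm.mul_apply, g0, swap_apply_right]
    have h1 : h' (b k₁) = a i := by rw [hh', Perm.mul_apply, g1, swap_apply_left]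
    have h2 : h' k₂ = a j := by
      rw [hh', Perm.mul_apply, g2, swap_apply_of_ne_of_ne hj4 (a.injective.ne hj1)]
    have h3 : h' (b k₂) = j := by rw [hh', Perm.mul_apply, g3, swap_apply_of_ne_of_ne hj1 hj2]
    refine key h' (Perm.mem_alternatingGroup.2 ?_) (a i) j (Ne.symm hj2) ?_ ?_
    · rw [hh', map_mul, Perm.sign_swap (Ne.symm hi), e]; rfl
    · rw [hii, ← h0, Perm.inv_eq_iff_eq.2 rfl, h1, h0]
    · rw [← h2, Perm.inv_eq_iff_eq.2 rfl, h3]
  · have hkk : b (b k₁) = k₁ := hA k₁ hk1
    set h' := g * swap k₁ (b k₁) with hh'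
    have h0 : h' k₁ = i := by rw [hh', Perm.mul_apply, swap_apply_left, g1]
    have h1 : h' (b k₁) = a i := by rw [hh', Perm.mul_apply, swap_apply_right, g0]
    have h2 : h' k₂ = a j := by
      rw [hh', Perm.mul_apply, swap_apply_of_ne_of_ne hd1 hd2, g2]
    have h3 : h' (b k₂) = j := by
      rw [hh', Perm.mul_apply, swap_apply_of_ne_of_ne hd3 (b.injective.ne hd1), g3]
    refine key' h' (Perm.mem_alternatingGroup.2 ?_) ?_ h2 h3
    · rw [hh', map_mul, Perm.sign_swap (Ne.symm hk1), e]; rfl
    · rw [← h1, Perm.inv_eq_iff_eq.2 rfl, hkk, h0]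

theorem aux (h5 : 5 ≤ Fintype.card α) {a b : Perm α} (ha : a ≠ 1) (hb : b ≠ 1)
    (hfa : fixN a ≤ 1) {C : ℕ} (H : Const a b C) : False := by
  have hid := const_identity h5 H
  have hb2 := two_le_support hb
  obtain ⟨m, hm⟩ : ∃ m, Fintype.card α = m + 1 := ⟨Fintype.card α - 1, by omega⟩
  obtain ⟨y, hy⟩ : ∃ y, fixN b + y = m + 1 := ⟨_, Nat.add_sub_cancel' (by omega)⟩
  rw [hm, show m + 1 - 1 = m by omega, show m + 1 - fixN b = y by omega] at hid
  obtain hf | hf : fixN a = 1 ∨ fixN a = 0 := by omega
  · rw [hf, show m + 1 - 1 = m by omega] at hid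
    obtain rfl : C = 1 := by
      have : C * ((m + 1) * m) = 1 * ((m + 1) * m) := by
        rw [← hy] at hid ⊢
        linear_combination hid
      exact Nat.eq_of_mul_eq_mul_right (Nat.mul_pos (by omega) (by omega)) this
    exact no_const_one h5 hb hf H
  · rw [hf] at hid
    have : C * m = y := by
      refine Nat.eq_of_mul_eq_mul_left (show 0 < m + 1 by omega) ?_
      simp at hid
      linear_combination hid
    obtain rfl : C = 1 := by
      rcases C with _ | _ | C
      · omega
      · rfl
      · nlinarith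
    exact no_const_one h5 ha (by omega) H.swap

/-- Fixed points in common position. -/
theorem low {a b : Perm α} {C : ℕ} (h2 : 2 ≤ fixN a) (hle : fixN a ≤ fixN b)
    (H : Const a b C) : fixN a ≤ C := by
  obtain ⟨S, hS, hcard⟩ := exists_subset_card_eq hle
  let e := equivOfCardEq hcard
  obtain ⟨g, hg⟩ := Perm.exists_extending_pair (fun x : S => (x : α)) (fun x : S => (e x : α))
    Subtype.val_injective (Subtype.val_injective.comp e.injective)
  obtain ⟨h, hh, hmap⟩ : ∃ h ∈ alternatingGroup α, ∀ x, a x = x → ∃ s, b s = s ∧ h s = x := by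
    have hgo : ∀ x, a x = x → ∃ s, b s = s ∧ g s = x := fun x hx => by
      let s := e.symm ⟨x, by simp [hx]⟩
      refine ⟨s, ?_, ?_⟩
      · simpa using hS s.2
      · rw [hg s]; simp [s]
    rcases Int.units_eq_one_or (Perm.sign g) with e' | e'
    · exact ⟨g, Perm.mem_alternatingGroup.2 e', hgo⟩
    obtain ⟨u, hu, v, hv, huv⟩ := one_lt_card.1 (show 1 < (univ.filter fun i => a i = i).card
      from h2)
    simp only [mem_filter, mem_univ, true_and] at hu hv
    refine ⟨swap u v * g, Perm.mem_alternatingGroup.2 (by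
      rw [map_mul, Perm.sign_swap huv, e']; rfl), fun x hx => ?_⟩
    have : a (swap u v x) = swap u v x := by
      rw [swap_apply_def]; split_ifs <;> assumption
    obtain ⟨s, hs, hs'⟩ := hgo _ this
    exact ⟨s, hs, by rw [Perm.mul_apply, hs', swap_apply_self]⟩
  rw [← H h hh]
  refine card_le_card fun x hx => ?_
  simp only [mem_filter, mem_univ, true_and] at hx ⊢
  obtain ⟨s, hs, rfl⟩ := hmap x hx
  simp only [Perm.mul_apply, Perm.inv_eq_iff_eq.2 (rfl : h s = h s), hs, hx]

theorem arith {C fa fb x y m : ℕ} (hid : C * (m + 1) * m = fa * fb * m + x * y)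
    (hx : fa + x = m + 1) (hy : fb + y = m + 1) (hle : fa ≤ fb) (h2 : 2 ≤ fa) (hC : fa ≤ C)
    (hy0 : 0 < y) : False := by
  have h1 : fa * (m + 1) * m ≤ C * (m + 1) * m :=
    Nat.mul_le_mul_right _ (Nat.mul_le_mul_right _ hC)
  have h3 : fa * m * y ≤ x * y := by rw [← hy] at h1 hid; nlinarith
  have h4 := Nat.le_of_mul_le_mul_right h3 hy0
  have h5 : 2 * m ≤ fa * m := Nat.mul_le_mul_right _ h2
  omega

/-- The fixed point count is not constant. -/
theorem not_const (h5 : 5 ≤ Fintype.card α) {a b : Perm α} (ha : a ≠ 1) (hb : b ≠ 1) {C : ℕ}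
    (H : Const a b C) : False := by
  have ha2 := two_le_support ha
  have hb2 := two_le_support hb
  have hid := const_identity h5 H
  obtain ⟨x, hx⟩ : ∃ x, fixN a + x = Fintype.card α := ⟨_, Nat.add_sub_cancel' (by omega)⟩
  obtain ⟨y, hy⟩ : ∃ y, fixN b + y = Fintype.card α := ⟨_, Nat.add_sub_cancel' (by omega)⟩
  obtain ⟨m, hm⟩ : ∃ m, Fintype.card α = m + 1 := ⟨Fintype.card α - 1, by omega⟩
  rw [← hx] at hid
  rw [show fixN a + x - fixN a = x by omega, show fixN a + x - fixN b = y by omega, hx, hm,
    show m + 1 - 1 = m by omega] at hid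
  by_cases hmid : 2 ≤ fixN a ∧ 2 ≤ fixN b
  · have hmin : min (fixN a) (fixN b) ≤ C := by
      rcases le_total (fixN a) (fixN b) with hle | hle
      · rw [min_eq_left hle]
        exact low hmid.1 hle H
      · rw [min_eq_right hle]
        exact low hmid.2 hle H.swap
    rcases le_total (fixN a) (fixN b) with hle | hle
    · rw [min_eq_left hle] at hmin
      exact arith hid (by omega) (by omega) hle hmid.1 hmin (by omega)
    · rw [min_eq_right hle] at hmin
      exact arith (C := C) (fa := fixN b) (fb := fixN a) (x := y) (y := x) (m := m)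
        (by linear_combination hid) (by omega) (by omega) hle hmid.2 hmin (by omega)
  obtain hfa | hfb : fixN a ≤ 1 ∨ fixN b ≤ 1 := by omega
  · exact aux h5 ha hb hfa H
  · exact aux h5 hb ha hfb H.swap

end CfsgLib.KnownA.AltClassProduct
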