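import Mathlib

/-!
Automorphisms of alternating groups: for degree at least 4 other than 6 they are conjugations by
permutations, and a subgroup of index `n` in the symmetric group of degree `n ≠ 6` fixes a point.

An automorphism preserves 3-cycles by the orders of their centralisers; a subgroup of index `n`
generated by 3-cycles is a point stabiliser; so the automorphism permutes the point stabilisers.
-/

set_option autoImplicit false

namespace CfsgLib.KnownA

open Equiv Equiv.Perm MulAction
open scoped Nat Pointwise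

variable {Ω : Type*} [Fintype Ω] [DecidableEq Ω]

theorem two_pow_three_mul_factorial_lt {k : ℕ} (hk : 3 ≤ k) :
    2 * (3 ^ k * k !) < 3 * (3 * k - 3)! := by
  induction k, hk using Nat.le_induction with
  | base => decide
  | succ k hk ih =>
    have h1 : (3 * (k + 1) - 3)! = 3 * k * ((3 * k - 1) * ((3 * k - 2) * (3 * k - 3)!)) := by
      obtain ⟨j, rfl⟩ : ∃ j, k = j + 1 := ⟨k - 1, by omega⟩
      rw [show 3 * (j + 1 + 1) - 3 = 3 * j + 2 + 1 by omega, show 3 * (j + 1) - 3 = 3 * j by omega,
        show 3 * (j + 1) - 1 = 3 * j + 2 by omega, show 3 * (j + 1) - 2 = 3 * j + 1 by omega,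
        show 3 * (j + 1) = 3 * j + 2 + 1 by omega, Nat.factorial_succ, Nat.factorial_succ,
        Nat.factorial_succ]
    rw [h1, pow_succ, Nat.factorial_succ]
    calc 2 * (3 ^ k * 3 * ((k + 1) * k !)) = (3 * (k + 1)) * (2 * (3 ^ k * k !)) := by ring
      _ ≤ (3 * (k + 1)) * (3 * (3 * k - 3)!) := Nat.mul_le_mul_left _ ih.le
      _ < (3 * k * (3 * k - 1)) * (3 * (3 * k - 3)!) := by
          refine Nat.mul_lt_mul_of_pos_right ?_ (by positivity)
          have : 2 ≤ 3 * k - 1 := by omega
          nlinarith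
      _ ≤ 3 * k * ((3 * k - 1) * ((3 * k - 2) * (3 * (3 * k - 3)!))) := by
          rw [mul_assoc (3 * k)]
          refine Nat.mul_le_mul_left _ (Nat.mul_le_mul_left _ ?_)
          exact Nat.le_mul_of_pos_left _ (by omega)
      _ = _ := by ring

theorem choose_two_le {n : ℕ} : ∀ {j : ℕ}, 2 ≤ j → j ≤ n / 2 → n.choose 2 ≤ n.choose j := by
  intro j hj
  induction j, hj using Nat.le_induction with
  | base => exact fun _ => le_rfl
  | succ j _ ih => exact fun h => (ih (by omega)).trans (Nat.choose_le_succ_of_lt_half_left (by omega))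

theorem centralizer_arith {n k : ℕ} (hk : 2 ≤ k) (hkn : 3 * k ≤ n) (hn : n ≠ 6) :
    2 * ((n - 3 * k)! * (3 ^ k * k !)) < 3 * (n - 3)! := by
  have h1 : (n - 3)! = (n - 3 * k)! * (n - 3).descFactorial (3 * k - 3) := by
    rw [show n - 3 * k = n - 3 - (3 * k - 3) by omega, Nat.factorial_mul_descFactorial (by omega)]
  rw [h1, mul_left_comm 2, mul_left_comm 3]
  refine Nat.mul_lt_mul_of_pos_left ?_ (Nat.factorial_pos _)
  rcases Nat.lt_or_ge k 3 with h | h
  · obtain rfl : k = 2 := by omega
    have h7 : 7 ≤ n := by omega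
    calc 2 * (3 ^ 2 * (2 : ℕ)!) < 3 * (4 : ℕ).descFactorial 3 := by decide
      _ ≤ _ := Nat.mul_le_mul_left _ (Nat.descFactorial_le _ (by omega))
  · calc 2 * (3 ^ k * k !) < 3 * (3 * k - 3)! := two_pow_three_mul_factorial_lt h
      _ = 3 * (3 * k - 3).descFactorial (3 * k - 3) := by rw [Nat.descFactorial_self]
      _ ≤ _ := Nat.mul_le_mul_left _ (Nat.descFactorial_le _ (by omega))

/-- The centraliser in the alternating group, seen among all permutations. -/
theorem card_centralizer_alt (g : alternatingGroup Ω) :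
    Nat.card (Subgroup.centralizer ({g} : Set (alternatingGroup Ω))) =
      Nat.card ↥(Subgroup.centralizer ({(g : Perm Ω)} : Set (Perm Ω)) ⊓ alternatingGroup Ω) := by
  refine Nat.card_congr
    { toFun := fun x => ⟨(x.1 : Perm Ω), Subgroup.mem_centralizer_singleton_iff.2
        (congrArg Subtype.val (Subgroup.mem_centralizer_singleton_iff.1 x.2)), x.1.2⟩
      invFun := fun x => ⟨⟨x.1, x.2.2⟩, Subgroup.mem_centralizer_singleton_iff.2
        (Subtype.ext (Subgroup.mem_centralizer_singleton_iff.1 x.2.1))⟩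
      left_inv := fun x => rfl
      right_inv := fun x => rfl }

/-- Automorphisms preserve 3-cycles. -/
theorem isThreeCycle_aut (h5 : 5 ≤ Fintype.card Ω) (h6 : Fintype.card Ω ≠ 6)
    (ψ : MulAut (alternatingGroup Ω)) {g : alternatingGroup Ω}
    (hg : (g : Perm Ω).IsThreeCycle) : ((ψ g : alternatingGroup Ω) : Perm Ω).IsThreeCycle := by
  classical
  set n := Fintype.card Ω
  set h : Perm Ω := ((ψ g : alternatingGroup Ω) : Perm Ω)
  have hord : orderOf h = 3 := by
    rw [Subgroup.orderOf_coe, MulEquiv.orderOf_eq, ← Subgroup.orderOf_coe, hg.orderOf]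
  obtain ⟨k, hk⟩ : ∃ k, h.cycleType = Multiset.replicate k 3 := by
    refine ⟨_, Multiset.eq_replicate.2 ⟨rfl, fun m hm => ?_⟩⟩
    have h1 := dvd_of_mem_cycleType hm
    rw [hord] at h1
    rcases (Nat.dvd_prime Nat.prime_three).1 h1 with h2 | h2
    · exact absurd h2 (by have := two_le_of_mem_cycleType hm; omega)
    · exact h2
  have hk0 : k ≠ 0 := fun e => by
    rw [e, Multiset.replicate_zero, cycleType_eq_zero] at hk
    rw [hk, orderOf_one] at hord
    omega
  rcases Nat.lt_or_ge k 2 with hk2 | hk2
  · obtain rfl : k = 1 := by omega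
    exact hk
  exfalso
  have hkn : 3 * k ≤ n := by
    have := h.support.card_le_univ
    rw [← sum_cycleType, hk, Multiset.sum_replicate, smul_eq_mul, mul_comm] at this
    exact this
  have hCg : Nat.card (Subgroup.centralizer ({(g : Perm Ω)} : Set (Perm Ω))) = 3 * (n - 3)! := by
    rw [nat_card_centralizer, show (g : Perm Ω).cycleType = {3} from hg]
    simp [n, mul_comm]
  have hCh : Nat.card (Subgroup.centralizer ({h} : Set (Perm Ω))) = (n - 3 * k)! * (3 ^ k * k !) := by
    rw [nat_card_centralizer, hk, Multiset.sum_replicate, Multiset.prod_replicate,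
      Multiset.toFinset_replicate, if_neg hk0, Finset.prod_singleton, Multiset.count_replicate_self,
      smul_eq_mul, mul_comm k 3, mul_assoc]
  have hle : ∀ x : Perm Ω,
      Nat.card ↥(Subgroup.centralizer ({x} : Set (Perm Ω)) ⊓ alternatingGroup Ω) ≤
        Nat.card (Subgroup.centralizer ({x} : Set (Perm Ω))) := fun x =>
    Subgroup.card_le_of_le inf_le_left
  have hlow : Nat.card (Subgroup.centralizer ({(g : Perm Ω)} : Set (Perm Ω))) ≤
      2 * Nat.card ↥(Subgroup.centralizer ({(g : Perm Ω)} : Set (Perm Ω)) ⊓ alternatingGroup Ω) := by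
    set C := Subgroup.centralizer ({(g : Perm Ω)} : Set (Perm Ω))
    have e : (alternatingGroup Ω).relIndex C * Nat.card ↥(C ⊓ alternatingGroup Ω) = Nat.card C := by
      have := Subgroup.relIndex_mul_relIndex ⊥ (C ⊓ alternatingGroup Ω) C bot_le inf_le_left
      rw [Subgroup.relIndex_bot_left, Subgroup.relIndex_bot_left, Subgroup.inf_relIndex_left] at this
      rw [mul_comm]
      exact this
    rw [← e]
    refine Nat.mul_le_mul_right _ (Nat.le_of_dvd two_pos ?_)
    haveI : Nontrivial Ω := Fintype.one_lt_card_iff_nontrivial.1 (by omega)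
    have := (alternatingGroup Ω).relIndex_dvd_index_of_normal C
    rwa [alternatingGroup.index_eq_two] at this
  rw [← card_centralizer_alt g] at hlow
  have heq : Nat.card (Subgroup.centralizer ({g} : Set (alternatingGroup Ω))) =
      Nat.card (Subgroup.centralizer ({ψ g} : Set (alternatingGroup Ω))) := by
    refine Nat.card_congr (ψ.toEquiv.subtypeEquiv fun x => ?_)
    rw [Subgroup.mem_centralizer_singleton_iff, Subgroup.mem_centralizer_singleton_iff]
    show x * g = g * x ↔ ψ x * ψ g = ψ g * ψ x
    rw [← map_mul, ← map_mul, ψ.injective.eq_iff]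
  rw [heq, card_centralizer_alt (ψ g), hCg] at hlow
  have := hlow.trans (Nat.mul_le_mul_left 2 (hle h))
  rw [hCh] at this
  exact absurd this (not_le.2 (centralizer_arith hk2 hkn h6))

/-- A proper subgroup of index `n` generated by 3-cycles fixes a point. -/
theorem exists_fixed_of_threeCycles (h5 : 5 ≤ Fintype.card Ω) (K : Subgroup (Perm Ω))
    (s : Set (Perm Ω)) (hs : ∀ t ∈ s, IsThreeCycle t) (hK : K = Subgroup.closure s)
    (hcard : Nat.card K * Fintype.card Ω = Nat.card (alternatingGroup Ω)) :
    ∃ x : Ω, ∀ t ∈ K, t x = x := by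
  classical
  set n := Fintype.card Ω
  have hKA : K ≤ alternatingGroup Ω := hK ▸ (Subgroup.closure_le _).2
    fun t ht => (hs t ht).mem_alternatingGroup
  haveI : Nontrivial Ω := Fintype.one_lt_card_iff_nontrivial.1 (by omega)
  have hA : 2 * Nat.card (alternatingGroup Ω) = n ! := by
    rw [two_mul_nat_card_alternatingGroup, Nat.card_perm, Nat.card_eq_fintype_card]
  -- intransitive
  have hntrans : ¬ IsPretransitive K Ω := by
    intro htr
    have hne : K ≠ ⊥ := by
      intro e
      rw [e, Subgroup.card_bot, one_mul] at hcard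
      have : 2 * n < n ! := by
        obtain ⟨j, hj⟩ : ∃ j, n = j + 1 := ⟨n - 1, by omega⟩
        rw [hj, Nat.factorial_succ, mul_comm 2]
        exact Nat.mul_lt_mul_of_pos_left (lt_of_lt_of_le (by decide : 2 < (4 : ℕ)!)
          (Nat.factorial_le (by omega))) (by omega)
      omega
    obtain ⟨t, ht⟩ : s.Nonempty := Set.nonempty_iff_ne_empty.2 fun e => hne (by
      rw [hK, e, Subgroup.closure_empty])
    have hprim : IsPreprimitive K Ω := by
      refine ⟨fun {B} hB => ?_⟩
      by_contra hB'
      simp only [IsTrivialBlock, not_or, Set.not_subsingleton_iff] at hB'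
      obtain ⟨⟨x, hx, y, hy, hxy⟩, huniv⟩ := hB'
      have hgen : ∀ t ∈ s, ∀ b ∈ B, t b ∈ B := by
        intro t ht b hb
        have h3 := hs t ht
        have htK : t ∈ K := hK ▸ Subgroup.subset_closure ht
        by_contra hcon
        have hdis : ∀ z ∈ B, t z ∉ B := fun z hz htz => hcon (by
          have hne' : ¬ ((⟨t, htK⟩ : K) • B ≠ (1 : K) • B) := fun hne =>
            Set.disjoint_left.1 (hB hne) ⟨z, hz, rfl⟩ (by rw [one_smul]; exact htz)
          push Not at hne'
          have : t b ∈ (⟨t, htK⟩ : K) • B := ⟨b, hb, rfl⟩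
          rwa [hne', one_smul] at this)
        have hmove : ∀ z ∈ B, t z ≠ z := fun z hz e => hdis z hz (by rwa [e])
        have hsupp := h3.support_eq_iff_mem_support.mpr (mem_support.2 (hmove x hx))
        have hy' : y ∈ ({x, t x, t (t x)} : Finset Ω) := hsupp ▸ mem_support.2 (hmove y hy)
        simp only [Finset.mem_insert, Finset.mem_singleton] at hy'
        rcases hy' with rfl | rfl | rfl
        · exact hxy rfl
        · exact hdis x hx hy
        · refine hdis _ hy ?_
          have h33 : t (t (t x)) = x := by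
            have := congrArg (fun σ : Perm Ω => σ x) (h3.orderOf ▸ pow_orderOf_eq_one t)
            simpa [pow_succ, Perm.mul_apply] using this
          rwa [h33]
      refine huniv (Set.eq_univ_of_forall fun z => ?_)
      obtain ⟨⟨g, hg⟩, hgz⟩ := htr.exists_smul_eq x z
      have : ∀ g ∈ K, ∀ b : Ω, b ∈ B ↔ g b ∈ B := by
        intro g hg
        rw [hK] at hg
        induction hg using Subgroup.closure_induction with
        | mem t ht => exact fun b => ⟨hgen t ht b, fun hb => by
            have := hgen t ht _ (hgen t ht _ hb)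
            have h33 : t (t (t b)) = b := by
              have := congrArg (fun σ : Perm Ω => σ b) ((hs t ht).orderOf ▸ pow_orderOf_eq_one t)
              simpa [pow_succ, Perm.mul_apply] using this
            rwa [h33] at this⟩
        | one => exact fun b => Iff.rfl
        | mul u v _ _ hu hv => exact fun b => (hv b).trans (hu _)
        | inv u _ hu =>
          intro b
          rw [hu (u⁻¹ b), Perm.inv_def, Equiv.apply_symm_apply]
      rw [← hgz]
      exact (this g hg x).1 hx
    have hle := alternatingGroup_le_of_isPreprimitive_of_isThreeCycle_mem hprim (hs t ht)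
      (hK ▸ Subgroup.subset_closure ht)
    rw [le_antisymm hKA hle] at hcard
    have := Nat.card_pos (α := alternatingGroup Ω)
    nlinarith
  -- an orbit of size other than `1` and `n`
  by_contra hcon
  push Not at hcon
  obtain ⟨x⟩ : Nonempty Ω := inferInstance
  set O : Set Ω := orbit K x
  have hO2 : 2 ≤ O.ncard := by
    obtain ⟨t, ht, hne⟩ := hcon x
    refine (Set.one_lt_ncard (Set.toFinite _)).2 ⟨x, mem_orbit_self x, t x, ⟨⟨t, ht⟩, rfl⟩, hne.symm⟩
  obtain ⟨z, hz⟩ : ∃ z, z ∉ O := by
    by_contra hall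
    push Not at hall
    exact hntrans ⟨fun a b => by
      obtain ⟨g, hg⟩ := hall a
      obtain ⟨h, hh⟩ := hall b
      exact ⟨h * g⁻¹, by rw [← hg, mul_smul, inv_smul_smul]; exact hh⟩⟩
  have hO3 : 2 ≤ Oᶜ.ncard := by
    obtain ⟨t, ht, hne⟩ := hcon z
    refine (Set.one_lt_ncard (Set.toFinite _)).2 ⟨z, hz, t z, fun hmem => hz ?_, hne.symm⟩
    obtain ⟨g, hg⟩ := hmem
    exact ⟨(⟨t, ht⟩ : K)⁻¹ * g, by
      show (⟨t, ht⟩ : K)⁻¹ • (g • x) = z
      rw [inv_smul_eq_iff]
      exact hg⟩
  let f : Ω → Bool := fun w => decide (w ∈ O)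
  -- the setwise stabiliser of the orbit
  let X : Subgroup (Perm Ω) :=
    { carrier := {g | f ∘ g = f}
      one_mem' := rfl
      mul_mem' := fun {u v} hu hv => by
        show f ∘ (u * v : Perm Ω) = f
        rw [Perm.coe_mul, ← Function.comp_assoc, hu, hv]
      inv_mem' := fun {u} hu => by
        funext w
        have := congrFun hu (u⁻¹ w)
        simp only [Function.comp_apply, Perm.inv_def, Equiv.apply_symm_apply] at this
        exact this.symm }
  have hKX : K ≤ X := fun g hg => funext fun w => by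
    show decide (g w ∈ O) = decide (w ∈ O)
    refine decide_eq_decide.2 ?_
    constructor
    · rintro ⟨k, hk⟩
      exact ⟨(⟨g, hg⟩ : K)⁻¹ * k, by
        show (⟨g, hg⟩ : K)⁻¹ • (k • x) = w
        rw [inv_smul_eq_iff]
        exact hk⟩
    · rintro ⟨k, rfl⟩
      exact ⟨(⟨g, hg⟩ : K) * k, rfl⟩
  have hcardX : Nat.card X = O.ncard ! * Oᶜ.ncard ! := by
    rw [show Nat.card X = Nat.card {g : Perm Ω // f ∘ g = f} from rfl, Nat.card_eq_fintype_card,
      DomMulAct.stabilizer_card, Fintype.prod_bool]
    congr 2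
    · rw [← Nat.card_eq_fintype_card, ← Nat.card_coe_set_eq]
      exact Nat.card_congr (Equiv.subtypeEquivRight fun w => by simp [f])
    · rw [← Nat.card_eq_fintype_card, ← Nat.card_coe_set_eq]
      exact Nat.card_congr (Equiv.subtypeEquivRight fun w => by simp [f])
  -- an odd element of the stabiliser
  obtain ⟨u, hu, v, hv, huv⟩ := (Set.one_lt_ncard (Set.toFinite _)).1 hO2
  have hodd : swap u v ∈ X := funext fun w => decide_eq_decide.2 (by
    rcases eq_or_ne w u with rfl | h1
    · simp [hu, hv]
    rcases eq_or_ne w v with rfl | h2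
    · simp [hu, hv]
    · rw [swap_apply_of_ne_of_ne h1 h2])
  have hlt : K < X := lt_of_le_of_ne hKX fun e => by
    have := mem_alternatingGroup.1 (hKA (e ▸ hodd))
    rw [sign_swap huv] at this
    exact absurd this (by decide)
  have h2K : 2 * Nat.card K ≤ Nat.card X := by
    obtain ⟨c, hc⟩ := Subgroup.card_dvd_of_le hKX
    have hc1 : c ≠ 1 := fun e => hlt.ne (Subgroup.eq_of_le_of_card_ge hKX (by rw [hc, e, mul_one]))
    have hc0 : c ≠ 0 := fun e => Nat.card_pos.ne' (by rw [hc, e, mul_zero] : Nat.card X = 0)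
    rw [hc, mul_comm]
    exact Nat.mul_le_mul_left _ (by omega)
  -- `C(n, j) > n`
  have hsum : O.ncard + Oᶜ.ncard = n := by
    rw [Set.ncard_add_ncard_compl, Nat.card_eq_fintype_card]
  have hch : n < n.choose O.ncard := by
    have h1 : n.choose 2 ≤ n.choose O.ncard := by
      rcases le_or_gt O.ncard (n / 2) with h | h
      · exact choose_two_le hO2 h
      · rw [← Nat.choose_symm (show O.ncard ≤ n by omega)]
        exact choose_two_le (by omega) (by omega)
    refine lt_of_lt_of_le ?_ h1
    rw [Nat.choose_two_right, Nat.lt_div_iff_mul_lt' (Nat.even_mul_pred_self n).two_dvd]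
    nlinarith [Nat.sub_add_cancel (show 1 ≤ n by omega)]
  have hch' := Nat.choose_mul_factorial_mul_factorial (show O.ncard ≤ n by omega)
  rw [show n - O.ncard = Oᶜ.ncard by omega, mul_assoc, ← hcardX] at hch'
  have h3 : n * Nat.card X < n ! := hch' ▸ Nat.mul_lt_mul_of_pos_right hch Nat.card_pos
  have h4 : n ! ≤ n * Nat.card X := by
    rw [← hA, ← hcard]
    calc 2 * (Nat.card K * n) = n * (2 * Nat.card K) := by ring
      _ ≤ _ := Nat.mul_le_mul_left _ h2K
  omega

/-- The point stabiliser is generated by its 3-cycles. -/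
theorem stabilizer_eq_closure (x : Ω) :
    stabilizer (alternatingGroup Ω) x =
      Subgroup.closure {g : alternatingGroup Ω | (g : Perm Ω).IsThreeCycle ∧ (g : Perm Ω) x = x} := by
  classical
  refine le_antisymm (fun g hg => ?_) ((Subgroup.closure_le _).2 fun g hg => hg.2)
  have hg' : (g : Perm Ω) x = x := hg
  obtain ⟨k, rfl⟩ := (alternatingGroup.mem_range_ofSubtype_iff (Finset.univ.erase x) g).2
    fun w hw => Finset.mem_erase.2 ⟨fun e => mem_support.1 hw (e ▸ hg'), Finset.mem_univ _⟩
  have hk : k ∈ Subgroup.closure {g : alternatingGroup (Finset.univ.erase x) | (g : Perm ↥(Finset.univ.erase x)).IsThreeCycle} := by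
    rw [alternatingGroup.closure_isThreeCycles_eq_top]; exact Subgroup.mem_top _
  have h := Subgroup.mem_map_of_mem (alternatingGroup.ofSubtype (Finset.univ.erase x)) hk
  rw [MonoidHom.map_closure] at h
  refine Subgroup.closure_mono ?_ h
  rintro _ ⟨c, hc, rfl⟩
  refine ⟨?_, ?_⟩
  · rw [alternatingGroup.coe_ofSubtype, IsThreeCycle, cycleType_ofSubtype]
    exact hc
  · rw [alternatingGroup.coe_ofSubtype]
    exact ofSubtype_apply_of_not_mem _ (by simp)

theorem card_stabilizer_alt (h3 : 3 ≤ Fintype.card Ω) (x : Ω) :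
    Nat.card (stabilizer (alternatingGroup Ω) x) * Fintype.card Ω =
      Nat.card (alternatingGroup Ω) := by
  haveI := alternatingGroup.isPretransitive_of_three_le_card Ω
    (by rwa [Nat.card_eq_fintype_card])
  rw [← Nat.card_eq_fintype_card, ← index_stabilizer_of_transitive (alternatingGroup Ω) x]
  exact Subgroup.card_mul_index _

/-- Distinct points have distinct stabilisers. -/
theorem eq_of_stabilizer_le (h4 : 4 ≤ Fintype.card Ω) {x y : Ω}
    (h : ∀ g : alternatingGroup Ω, (g : Perm Ω) x = x → (g : Perm Ω) y = y) : x = y := by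
  classical
  by_contra hxy
  obtain ⟨a, ha, b, hb, hab⟩ : ∃ a ∈ ({x, y} : Finset Ω)ᶜ, ∃ b ∈ ({x, y} : Finset Ω)ᶜ, a ≠ b := by
    refine Finset.one_lt_card.1 ?_
    rw [Finset.card_compl, Finset.card_pair hxy]
    omega
  simp only [Finset.mem_compl, Finset.mem_insert, Finset.mem_singleton, not_or] at ha hb
  have h3 : (swap y a * swap y b).IsThreeCycle :=
    isThreeCycle_swap_mul_swap_same (Ne.symm ha.2) (Ne.symm hb.2) hab
  have hfix := h ⟨_, h3.mem_alternatingGroup⟩ (by
    show (swap y a * swap y b) x = x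
    rw [Perm.mul_apply, swap_apply_of_ne_of_ne hxy (Ne.symm hb.1),
      swap_apply_of_ne_of_ne hxy (Ne.symm ha.1)])
  rw [Perm.mul_apply, swap_apply_left, swap_apply_of_ne_of_ne hb.2 hab.symm] at hfix
  exact hb.2 hfix

/-- The automorphisms of `A_n`, `n ≥ 5`, `n ≠ 6`, are conjugations. -/
theorem exists_conj_aut (h5 : 5 ≤ Fintype.card Ω) (h6 : Fintype.card Ω ≠ 6)
    (ψ : MulAut (alternatingGroup Ω)) : ∃ σ : Perm Ω, MulAut.conjNormal σ = ψ := by
  classical
  have hstep : ∀ x : Ω, ∃ y : Ω,
      (stabilizer (alternatingGroup Ω) x).map ψ.toMonoidHom = stabilizer (alternatingGroup Ω) y := by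
    intro x
    set L := (stabilizer (alternatingGroup Ω) x).map ψ.toMonoidHom with hL
    set s : Set (Perm Ω) := (fun g : alternatingGroup Ω => ((ψ g : alternatingGroup Ω) : Perm Ω)) ''
      {g | (g : Perm Ω).IsThreeCycle ∧ (g : Perm Ω) x = x}
    have hK : L.map (alternatingGroup Ω).subtype = Subgroup.closure s := by
      rw [hL, stabilizer_eq_closure, MonoidHom.map_closure, MonoidHom.map_closure, Set.image_image]
      rfl
    have hcard : Nat.card (L.map (alternatingGroup Ω).subtype) * Fintype.card Ω =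
        Nat.card (alternatingGroup Ω) := by
      rw [Subgroup.card_map_of_injective (Subgroup.subtype_injective _), hL,
        Subgroup.card_map_of_injective ψ.injective]
      exact card_stabilizer_alt (by omega) x
    obtain ⟨y, hy⟩ := exists_fixed_of_threeCycles h5 _ s
      (by rintro _ ⟨g, hg, rfl⟩; exact isThreeCycle_aut h5 h6 ψ hg.1) hK hcard
    refine ⟨y, Subgroup.eq_of_le_of_card_ge (fun g hg => hy _ ⟨g, hg, rfl⟩) (le_of_eq ?_)⟩
    refine Nat.eq_of_mul_eq_mul_right (by omega : 0 < Fintype.card Ω) ?_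
    rw [card_stabilizer_alt (by omega) y, hL, Subgroup.card_map_of_injective ψ.injective,
      card_stabilizer_alt (by omega) x]
  choose σ hσ using hstep
  have hψ : ∀ x (g : alternatingGroup Ω),
      (g : Perm Ω) x = x → ((ψ g : alternatingGroup Ω) : Perm Ω) (σ x) = σ x := fun x g hg =>
    show ψ g ∈ stabilizer (alternatingGroup Ω) (σ x) from hσ x ▸ Subgroup.mem_map_of_mem _ hg
  have hψ' : ∀ x (g : alternatingGroup Ω),
      ((ψ g : alternatingGroup Ω) : Perm Ω) (σ x) = σ x → (g : Perm Ω) x = x := by
    intro x g hg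
    have hm : ψ g ∈ stabilizer (alternatingGroup Ω) (σ x) := hg
    rw [← hσ x] at hm
    obtain ⟨g', hg', e⟩ := hm
    rw [← ψ.injective e]
    exact hg'
  have hinj : Function.Injective σ := fun x y e =>
    eq_of_stabilizer_le (by omega) fun g hg => hψ' y g (e ▸ hψ x g hg)
  let e : Perm Ω := Equiv.ofBijective σ (Finite.injective_iff_bijective.1 hinj)
  have heq : ∀ (g : alternatingGroup Ω) x,
      σ ((g : Perm Ω) x) = ((ψ g : alternatingGroup Ω) : Perm Ω) (σ x) := by
    intro g x
    refine eq_of_stabilizer_le (by omega) fun h hh => ?_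
    obtain ⟨h, rfl⟩ := ψ.surjective h
    have h1 := hψ' _ h hh
    have h2 : ((g⁻¹ * h * g : alternatingGroup Ω) : Perm Ω) x = x := by
      simp [Perm.mul_apply, h1]
    have h3 := hψ x _ h2
    simp only [map_mul, map_inv, Subgroup.coe_mul, InvMemClass.coe_inv, Perm.mul_apply] at h3
    exact (Perm.inv_eq_iff_eq.1 h3)
  refine ⟨e, MulEquiv.ext fun g => Subtype.ext ?_⟩
  rw [MulAut.conjNormal_apply, mul_inv_eq_iff_eq_mul]
  exact Perm.ext fun x => heq g x

/-- Only the identity centralises the alternating group. -/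
theorem conjNormal_injective (h4 : 4 ≤ Fintype.card Ω) :
    Function.Injective (MulAut.conjNormal : Perm Ω →* MulAut (alternatingGroup Ω)) := by
  classical
  rw [injective_iff_map_eq_one]
  intro σ hσ
  refine Perm.ext fun x => (eq_of_stabilizer_le h4 fun g hg => ?_).symm
  have h := congrArg Subtype.val (DFunLike.congr_fun hσ g)
  rw [MulAut.conjNormal_apply, MulAut.one_apply] at h
  have h' := congrArg (fun π : Perm Ω => π (σ x)) h
  simp only [Perm.mul_apply, Perm.inv_def, Equiv.symm_apply_apply] at h'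
  rw [show (g : Perm Ω) x = x from hg] at h'
  exact h'.symm

/-- A subgroup of index `n` of the symmetric group of degree `n ≥ 5`, `n ≠ 6`, fixes a point. -/
theorem eq_stabilizer_of_index_five (h5 : 5 ≤ Fintype.card Ω) (h6 : Fintype.card Ω ≠ 6)
    (H : Subgroup (Perm Ω)) (hH : H.index = Fintype.card Ω) :
    ∃ x : Ω, H = stabilizer (Perm Ω) x := by
  classical
  haveI : Nontrivial Ω := Fintype.one_lt_card_iff_nontrivial.1 (by omega)
  haveI : IsSimpleGroup (alternatingGroup Ω) :=
    alternatingGroup.isSimpleGroup (by rwa [Nat.card_eq_fintype_card])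
  set A := alternatingGroup Ω
  set n := Fintype.card Ω
  haveI : Fintype (Perm Ω ⧸ H) := Fintype.ofFinite _
  have hq : Fintype.card (Perm Ω ⧸ H) = Fintype.card Ω := by
    rw [← Nat.card_eq_fintype_card, ← Subgroup.index, hH]
  let e := Fintype.equivOfCardEq hq
  let act : A →* Perm Ω :=
    (e.permCongrHom.toMonoidHom.comp (toPermHom (Perm Ω) (Perm Ω ⧸ H))).comp A.subtype
  have hφ : ∀ (g : A) q, act g (e q) = e ((g : Perm Ω) • q) := fun g q => by
    simp [act, Equiv.permCongr_apply]
  have hnle : ¬ A ≤ H := by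
    intro hle
    have := Subgroup.index_dvd_of_le hle
    rw [hH, alternatingGroup.index_eq_two] at this
    exact absurd (Nat.le_of_dvd two_pos this) (by omega)
  have hinj : Function.Injective act := by
    rcases (act.normal_ker).eq_bot_or_eq_top with h | h
    · exact (MonoidHom.ker_eq_bot_iff _).1 h
    · refine absurd (fun g hg => ?_) hnle
      have h1 : (⟨g, hg⟩ : A) ∈ act.ker := h ▸ Subgroup.mem_top _
      have h2 := hφ ⟨g, hg⟩ (QuotientGroup.mk 1)
      rw [MonoidHom.mem_ker.1 h1, Perm.one_apply] at h2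
      have h3 := (e.injective h2).symm
      rw [Quotient.smul_mk, smul_eq_mul, mul_one, QuotientGroup.eq, mul_one] at h3
      simpa using h3
  have hrange : act.range = A := by
    refine Equiv.Perm.eq_alternatingGroup_of_index_eq_two ?_
    have h1 : Nat.card act.range = Nat.card A :=
      (Nat.card_congr (MonoidHom.ofInjective hinj).toEquiv).symm
    have h2 := act.range.card_mul_index
    rw [← A.card_mul_index, h1, alternatingGroup.index_eq_two] at h2
    exact Nat.eq_of_mul_eq_mul_left Nat.card_pos h2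
  let ψ : MulAut A := (MonoidHom.ofInjective hinj).trans (MulEquiv.subgroupCongr hrange)
  have hψ : ∀ g : A, ((ψ g : A) : Perm Ω) = act g := fun g => rfl
  obtain ⟨σ, hσ⟩ := exists_conj_aut h5 h6 ψ
  set q₀ : Perm Ω ⧸ H := QuotientGroup.mk 1
  set x := σ⁻¹ (e q₀)
  -- `H ∩ A` fixes `x`, and only `x`
  have hK : ∀ g : A, (g : Perm Ω) ∈ H ↔ (g : Perm Ω) x = x := by
    intro g
    have h1 : act g = σ * (g : Perm Ω) * σ⁻¹ := by
      rw [← hψ, ← hσ, MulAut.conjNormal_apply]
    constructor
    · intro hg
      have h2 := hφ g q₀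
      rw [show (g : Perm Ω) • q₀ = q₀ by
        rw [Quotient.smul_mk, smul_eq_mul, mul_one, QuotientGroup.eq, mul_one]
        exact H.inv_mem hg, h1, Perm.mul_apply, Perm.mul_apply] at h2
      exact σ.injective (h2.trans (Equiv.apply_symm_apply _ _).symm)
    · intro hg
      have h2 := hφ g q₀
      rw [h1, Perm.mul_apply, Perm.mul_apply, hg] at h2
      have h3 := e.injective ((Equiv.apply_symm_apply σ _).symm.trans h2)
      rw [Quotient.smul_mk, smul_eq_mul, mul_one, QuotientGroup.eq, inv_one, one_mul] at h3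
      exact h3
  refine ⟨x, Subgroup.eq_of_le_of_card_ge (fun h hh => ?_) (le_of_eq ?_)⟩
  · refine (eq_of_stabilizer_le (by omega) fun g hg => ?_).symm
    let g' : A := ⟨h⁻¹ * (g : Perm Ω) * h, by
      have := (alternatingGroup.normal (α := Ω)).conj_mem (g : Perm Ω) g.2 h⁻¹
      rwa [inv_inv] at this⟩
    have h1 : (g : Perm Ω) ∈ H := (hK g).2 hg
    have h2 := (hK g').1 (H.mul_mem (H.mul_mem (H.inv_mem hh) h1) hh)
    exact Perm.inv_eq_iff_eq.1 h2
  · have h1 := H.card_mul_index
    rw [← (stabilizer (Perm Ω) x).card_mul_index, index_stabilizer_of_transitive, hH,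
      Nat.card_eq_fintype_card (α := Ω)] at h1
    exact (Nat.eq_of_mul_eq_mul_right (by omega : 0 < n) h1).symm

end CfsgLib.KnownA
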