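import Mathlib

/-!
# Characters of an abelian family of operators inside a representation

Tools for Landazuri–Seitz style lower bounds: simultaneous eigenspaces of a family `z : A → G`,
their independence, and the bound `#I ≤ (dim W)^2` for operators twisted by separated scalars.
-/

set_option autoImplicit false

namespace CfsgLib.KnownA.CentralChar

variable {G : Type*} [Group G] {V : Type*} [AddCommGroup V] [Module ℂ V]
  (ρ : Representation ℂ G V) {A : Type*} [AddCommGroup A]

/-- The subspace on which the family `z` acts through `ψ`. -/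
def space (z : A → G) (ψ : AddChar A ℂ) : Submodule ℂ V where
  carrier := {v | ∀ a, ρ (z a) v = ψ a • v}
  add_mem' {v w} hv hw a := by rw [map_add, hv a, hw a, smul_add]
  zero_mem' a := by simp
  smul_mem' c v hv a := by rw [map_smul, hv a, smul_comm]

theorem mem_space {z : A → G} {ψ : AddChar A ℂ} {v : V} :
    v ∈ space ρ z ψ ↔ ∀ a, ρ (z a) v = ψ a • v := Iff.rfl

theorem mem_space_one {z : A → G} {v : V} :
    v ∈ space ρ z (1 : AddChar A ℂ) ↔ ∀ a, ρ (z a) v = v := by
  simp [mem_space]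

/-- `W` is stable under `g`. -/
def Stable (W : Submodule ℂ V) (g : G) : Prop := ∀ v ∈ W, ρ g v ∈ W

theorem stable_inf_space {W : Submodule ℂ V} {z : A → G} {ψ : AddChar A ℂ} {g : G}
    (hW : Stable ρ W g) (hc : ∀ a, z a * g = g * z a) : Stable ρ (W ⊓ space ρ z ψ) g := by
  rintro v ⟨hv, hz⟩
  refine ⟨hW v hv, fun a => ?_⟩
  rw [← Module.End.mul_apply, ← map_mul, hc, map_mul, Module.End.mul_apply, hz a, map_smul]

theorem rho_injective (g : G) : Function.Injective (ρ g) := by
  intro v w h
  have := congrArg (ρ g⁻¹) h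
  simpa [← Module.End.mul_apply, ← map_mul] using this

theorem addChar_sum_eq_zero [Fintype A] {a : A} (ha : a ≠ 0) :
    ∑ ψ : AddChar A ℂ, ψ a = 0 := by
  classical
  rw [AddChar.sum_apply_eq_ite, if_neg ha]

/-- Some character occurs, non-trivial if the family does not fix `v`. -/
theorem exists_char [Finite A] (z : A → G) (hz : ∀ a b, z (a + b) = z a * z b) (W : Submodule ℂ V)
    (hW : ∀ a, Stable ρ W (z a)) {v : V} (hv : v ∈ W) {a₀ : A} (h0 : ρ (z a₀) v ≠ v) :
    ∃ ψ : AddChar A ℂ, ψ ≠ 1 ∧ W ⊓ space ρ z ψ ≠ ⊥ := by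
  classical
  have := Fintype.ofFinite A
  have hz' : ∀ a b w, ρ (z a) (ρ (z b) w) = ρ (z (a + b)) w := by
    intro a b w; rw [hz, map_mul]; rfl
  let w : AddChar A ℂ → V := fun ψ => ∑ a, ψ (-a) • ρ (z a) v
  have hw : ∀ ψ, w ψ ∈ W ⊓ space ρ z ψ := by
    intro ψ
    refine ⟨Submodule.sum_mem _ fun a _ => Submodule.smul_mem _ _ (hW a v hv), fun b => ?_⟩
    simp only [w, map_sum, map_smul, hz', Finset.smul_sum, smul_smul]
    refine Fintype.sum_equiv (Equiv.addLeft b) _ _ fun a => ?_
    rw [Equiv.coe_addLeft, ← AddChar.map_add_eq_mul]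
    congr 2
    rw [neg_add, add_neg_cancel_left]
  by_contra hcon
  push Not at hcon
  have hzero : ∀ ψ, ψ ≠ 1 → w ψ = 0 := fun ψ hψ => by
    have := hw ψ
    rw [hcon ψ hψ] at this
    exact (Submodule.mem_bot ℂ).mp this
  have hsum : ∑ ψ : AddChar A ℂ, w ψ = (Fintype.card (AddChar A ℂ) : ℂ) • ρ (z 0) v := by
    simp only [w]
    rw [Finset.sum_comm]
    simp only [← Finset.sum_smul]
    rw [Finset.sum_eq_single (0 : A)]
    · simp
    · intro a _ ha
      rw [addChar_sum_eq_zero (neg_ne_zero.mpr ha), zero_smul]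
    · simp
  rw [Finset.sum_eq_single (1 : AddChar A ℂ) (fun ψ _ hψ => hzero ψ hψ) (by simp)] at hsum
  have h1 : z 0 = 1 := by
    have := hz 0 0
    rw [add_zero] at this
    exact left_eq_mul.mp this
  rw [h1, map_one, Module.End.one_apply] at hsum
  have h2 := (hw 1).2 a₀
  rw [hsum, map_smul, AddChar.one_apply, one_smul] at h2
  exact h0 (smul_right_injective V (Nat.cast_ne_zero.mpr Fintype.card_ne_zero) h2)

/-- Some character occurs in a non-zero stable subspace. -/
theorem exists_char_any [Finite A] (z : A → G) (hz : ∀ a b, z (a + b) = z a * z b) (W : Submodule ℂ V)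
    (hW : ∀ a, Stable ρ W (z a)) (hne : W ≠ ⊥) :
    ∃ ψ : AddChar A ℂ, W ⊓ space ρ z ψ ≠ ⊥ := by
  by_cases h : ∀ v ∈ W, ∀ a, ρ (z a) v = v
  · refine ⟨1, ?_⟩
    rwa [inf_eq_left.mpr fun v hv => (mem_space_one ρ).mpr (h v hv)]
  · push Not at h
    obtain ⟨v, hv, a, ha⟩ := h
    obtain ⟨ψ, -, hψ⟩ := exists_char ρ z hz W hW hv ha
    exact ⟨ψ, hψ⟩

/-- Distinct characters give independent subspaces. -/
theorem sum_finrank_le [Finite A] [FiniteDimensional ℂ V] (z : A → G) (W : Submodule ℂ V)
    (S : Finset (AddChar A ℂ)) :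
    ∑ ψ ∈ S, Module.finrank ℂ ↥(W ⊓ space ρ z ψ) ≤ Module.finrank ℂ W := by
  classical
  have := Fintype.ofFinite A
  let T : ((ψ : S) → ↥(W ⊓ space ρ z (ψ : AddChar A ℂ))) →ₗ[ℂ] W :=
    ∑ ψ : S, (Submodule.inclusion (inf_le_left (a := W) (b := space ρ z (ψ : AddChar A ℂ)))).comp
      (LinearMap.proj ψ)
  have hT : Function.Injective T := by
    rw [← LinearMap.ker_eq_bot, LinearMap.ker_eq_bot']
    intro f hf
    have hf' : ∑ ψ : S, ((f ψ : V)) = 0 := by
      have := congrArg (fun x : W => (x : V)) hf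
      simpa [T, LinearMap.sum_apply] using this
    funext φ
    have h1 : ∑ a, (φ : AddChar A ℂ) (-a) • ρ (z a) (∑ ψ : S, ((f ψ : V))) = 0 := by
      rw [hf']; simp
    simp only [map_sum, Finset.smul_sum] at h1
    rw [Finset.sum_comm] at h1
    have h2 : ∀ ψ : S, ∑ a, (φ : AddChar A ℂ) (-a) • ρ (z a) (f ψ : V) =
        (if ψ = φ then (Fintype.card A : ℂ) else 0) • (f ψ : V) := by
      intro ψ
      simp only [(f ψ).2.2 _, smul_smul, ← Finset.sum_smul]
      congr 1
      have h3 : ∀ a : A, (φ : AddChar A ℂ) (-a) * (ψ : AddChar A ℂ) a =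
          ((φ : AddChar A ℂ)⁻¹ * (ψ : AddChar A ℂ)) a := by
        intro a; rw [AddChar.mul_apply, AddChar.inv_apply]
      simp only [h3]
      rw [AddChar.sum_eq_ite]
      refine if_congr ?_ rfl rfl
      rw [← AddChar.one_eq_zero, inv_mul_eq_one]
      exact ⟨fun h => (Subtype.ext h).symm, fun h => h ▸ rfl⟩
    rw [Finset.sum_congr rfl fun ψ _ => h2 ψ, Finset.sum_eq_single φ (by intro b _ hb; simp [hb]) (by simp),
      if_pos rfl] at h1
    exact Subtype.ext ((smul_eq_zero.mp h1).resolve_left (Nat.cast_ne_zero.mpr Fintype.card_ne_zero))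
  have := LinearMap.finrank_le_finrank_of_injective hT
  rwa [Module.finrank_pi_fintype, Finset.sum_coe_sort S fun ψ => Module.finrank ℂ ↥(W ⊓ space ρ z ψ)] at this

/-- An element normalising the family moves a character space into another. -/
theorem ne_bot_of_conj [Finite A] (z : A → G) (W : Submodule ℂ V) (ψ ψ' : AddChar A ℂ) (h : G)
    (φ : A → A) (hh : ∀ a, z a * h = h * z (φ a)) (hW : Stable ρ W h) (hψ : ∀ a, ψ (φ a) = ψ' a)
    (hne : W ⊓ space ρ z ψ ≠ ⊥) : W ⊓ space ρ z ψ' ≠ ⊥ := by
  obtain ⟨v, ⟨hv, hz⟩, hv0⟩ := Submodule.exists_mem_ne_zero_of_ne_bot hne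
  refine Submodule.ne_bot_iff _ |>.mpr ⟨ρ h v, ⟨hW v hv, fun a => ?_⟩, ?_⟩
  · rw [← Module.End.mul_apply, ← map_mul, hh, map_mul, Module.End.mul_apply, hz, map_smul, hψ]
  · exact fun h0 => hv0 (rho_injective ρ h (by rw [h0, map_zero]))

/-- Operators on `W` twisted by separated scalars are linearly independent. -/
theorem card_le_sq [FiniteDimensional ℂ V] {I J : Type*} [Finite I] (W : Submodule ℂ V) (hne : W ≠ ⊥)
    (u : I → G) (s : J → G) (hu : ∀ i, Stable ρ W (u i)) (hs : ∀ j, Stable ρ W (s j))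
    (c : J → I → ℂ)
    (hc : ∀ j i, ∀ v ∈ W, ρ (s j) (ρ (u i) v) = c j i • ρ (u i) (ρ (s j) v))
    (hsep : ∀ i i', i ≠ i' → ∃ j, c j i ≠ c j i') :
    Nat.card I ≤ Module.finrank ℂ W ^ 2 := by
  classical
  have := Fintype.ofFinite I
  let T : I → Module.End ℂ W := fun i => (ρ (u i)).restrict (hu i)
  let S : J → Module.End ℂ W := fun j => (ρ (s j)).restrict (hs j)
  have hST : ∀ j i, S j * T i = c j i • (T i * S j) := by
    intro j i
    refine LinearMap.ext fun v => Subtype.ext ?_
    exact hc j i v v.2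
  have hSsurj : ∀ j, Function.Surjective (S j) := fun j =>
    LinearMap.injective_iff_surjective.mp fun v w h =>
      Subtype.ext (rho_injective ρ (s j) (congrArg Subtype.val h))
  have hT0 : ∀ i, T i ≠ 0 := by
    intro i h
    obtain ⟨v, hv, hv0⟩ := Submodule.exists_mem_ne_zero_of_ne_bot hne
    apply hv0
    refine rho_injective ρ (u i) ?_
    rw [map_zero]
    exact congrArg Subtype.val (LinearMap.congr_fun h ⟨v, hv⟩)
  have key : ∀ t : Finset I, ∀ a : I → ℂ, ∑ i ∈ t, a i • T i = 0 → ∀ i ∈ t, a i = 0 := by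
    intro t
    induction t using Finset.induction_on with
    | empty => simp
    | @insert i₀ t hi₀ ih =>
      intro a ha
      have h1 : ∀ j, ∑ i ∈ insert i₀ t, (a i * c j i) • T i = 0 := by
        intro j
        have : (∑ i ∈ insert i₀ t, (a i * c j i) • T i) * S j = S j * ∑ i ∈ insert i₀ t, a i • T i := by
          rw [Finset.sum_mul, Finset.mul_sum]
          exact Finset.sum_congr rfl fun i _ => by rw [smul_mul_assoc, mul_smul_comm, hST, smul_smul]
        rw [ha, mul_zero] at this
        refine LinearMap.ext fun v => ?_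
        obtain ⟨w, rfl⟩ := hSsurj j v
        exact LinearMap.congr_fun this w
      have h2 : ∀ i ∈ t, a i = 0 := by
        intro i hi
        obtain ⟨j, hj⟩ := hsep i i₀ (by rintro rfl; exact hi₀ hi)
        have h3 : ∑ k ∈ t, (a k * (c j k - c j i₀)) • T k = 0 := by
          have e : ∑ k ∈ insert i₀ t, (a k * (c j k - c j i₀)) • T k = 0 := by
            calc ∑ k ∈ insert i₀ t, (a k * (c j k - c j i₀)) • T k
                = ∑ k ∈ insert i₀ t, ((a k * c j k) • T k - c j i₀ • (a k • T k)) :=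
                  Finset.sum_congr rfl fun k _ => by module
              _ = 0 := by rw [Finset.sum_sub_distrib, h1 j, ← Finset.smul_sum, ha, smul_zero, sub_zero]
          rw [Finset.sum_insert hi₀, sub_self, mul_zero, zero_smul, zero_add] at e
          exact e
        exact (mul_eq_zero.mp (ih _ h3 i hi)).resolve_right (sub_ne_zero.mpr hj)
      intro i hi
      rcases Finset.mem_insert.mp hi with rfl | hi
      · rw [Finset.sum_insert hi₀, Finset.sum_eq_zero (fun k hk => by rw [h2 k hk, zero_smul]),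
          add_zero] at ha
        exact (smul_eq_zero.mp ha).resolve_right (hT0 _)
      · exact h2 i hi
  have hli : LinearIndependent ℂ T :=
    Fintype.linearIndependent_iff.mpr fun a ha i => key Finset.univ a ha i (Finset.mem_univ i)
  have := hli.fintype_card_le_finrank
  rw [← Nat.card_eq_fintype_card, Module.finrank_linearMap] at this
  rw [pow_two]; exact this

end CfsgLib.KnownA.CentralChar
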