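import Cfsg.Agent.Lib.Coprime.Action2
import Cfsg.Agent.Lib.PLocal.CyclicMaxApps

/-!
An odd p-group acting coprimely on a group that is a product of the fixed points of any two
generators from two generating sets acts trivially.
-/

set_option autoImplicit false

open scoped Pointwise commutatorElement

namespace CfsgLib.KnownA.CoprimeFactor

open Subgroup

variable {V : Type*} [CommGroup V] {p : ℕ}

/-- The product over the powers of an automorphism. -/
def nm (p : ℕ) (x : MulAut V) : V →* V where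
  toFun v := ∏ k ∈ Finset.range p, (x ^ k) v
  map_one' := by simp
  map_mul' u v := by simp [Finset.prod_mul_distrib]

theorem nm_apply (x : MulAut V) (v : V) : nm p x v = ∏ k ∈ Finset.range p, (x ^ k) v := rfl

/-- The fixed points. -/
def fixS (x : MulAut V) : Subgroup V where
  carrier := {v | x v = v}
  one_mem' := map_one x
  mul_mem' := fun {u v} hu hv => by show x (u * v) = u * v; rw [map_mul]; exact congr_arg₂ _ hu hv
  inv_mem' := fun {v} hv => by show x v⁻¹ = v⁻¹; rw [map_inv]; exact congrArg _ hv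

theorem mem_fixS {x : MulAut V} {v : V} : v ∈ fixS x ↔ x v = v := Iff.rfl

theorem nm_mem {x : MulAut V} (hx : x ^ p = 1) (v : V) : nm p x v ∈ fixS x := by
  rw [mem_fixS, nm_apply, map_prod]
  have h1 := Finset.prod_range_succ (fun n => (x ^ n) v) p
  have h2 := Finset.prod_range_succ' (fun n => (x ^ n) v) p
  rw [h1, hx, pow_zero] at h2
  rw [mul_right_cancel h2]
  exact Finset.prod_congr rfl fun n _ => by rw [pow_succ', MulAut.mul_apply]

theorem nm_eq_one {x : MulAut V} (hx : x ^ p = 1) (hfix : ∀ v, x v = v → v = 1) (v : V) :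
    nm p x v = 1 := hfix _ (nm_mem hx v)

theorem nm_of_fix {x : MulAut V} {v : V} (hv : x v = v) : nm p x v = v ^ p := by
  have : ∀ k : ℕ, (x ^ k) v = v := fun k => by
    induction k with
    | zero => simp
    | succ k ih => rw [pow_succ, MulAut.mul_apply, hv, ih]
  simp [nm_apply, this]

theorem nm_conj (c x : MulAut V) (v : V) : nm p (c * x * c⁻¹) v = c (nm p x (c⁻¹ v)) := by
  simp only [nm_apply, map_prod, conj_pow, MulAut.mul_apply]

theorem fix_pow_of_fpf [Fact p.Prime] {t : MulAut V} (ht : t ^ p = 1)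
    (hfix : ∀ v, t v = v → v = 1) {n : ℕ} (hn0 : n ≠ 0) (hn : n < p) (v : V)
    (hv : (t ^ n) v = v) : v = 1 := by
  apply hfix
  have hp : p.Prime := Fact.out
  have hcop : n.Coprime p := ((Nat.Prime.coprime_iff_not_dvd hp).mpr fun hd => by
    have := Nat.le_of_dvd (Nat.pos_of_ne_zero hn0) hd; omega).symm
  obtain ⟨m, hm⟩ := Nat.exists_mul_mod_eq_one_of_coprime hcop hp.one_lt
  have hfixpow : ((t ^ n) ^ m) v = v := by
    clear hm
    induction m with
    | zero => simp
    | succ m ih => rw [pow_succ', MulAut.mul_apply, ih, hv]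
  rwa [← pow_mul, pow_eq_pow_mod _ ht, hm.2, pow_one] at hfixpow

theorem prod_nm [Fact p.Prime] {y t : MulAut V} (hyt : Commute y t) (ht : t ^ p = 1)
    (hfix : ∀ v, t v = v → v = 1) (v : V) :
    ∏ i ∈ Finset.range p, nm p (y * t ^ i) v = v ^ p := by
  simp only [nm_apply]
  rw [Finset.prod_comm, Finset.prod_eq_single 0 (fun n hn hn0 => ?_)
    (fun h => absurd (Finset.mem_range.mpr (Fact.out : p.Prime).pos) h)]
  · simp
  · have e : ∀ i : ℕ, ((y * t ^ i) ^ n) v = ((t ^ n) ^ i) ((y ^ n) v) := fun i => by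
      rw [← MulAut.mul_apply, (hyt.pow_right i).mul_pow, ← pow_mul, ← pow_mul, mul_comm i n,
        (hyt.pow_pow n (n * i)).eq]
    simp only [e]
    rw [← nm_apply]
    exact nm_eq_one (by rw [← pow_mul, mul_comm, pow_mul, ht, one_pow])
      (fix_pow_of_fpf ht hfix hn0 (Finset.mem_range.1 hn)) _

variable [Finite V]

/-- The counting bounds for one element moving the blocks. -/
theorem block_bounds [Fact p.Prime] (hinj : ∀ v : V, v ^ p = 1 → v = 1) {y t g : MulAut V}
    (hy : y ^ p = 1) (hyt : Commute y t) (ht : t ^ p = 1) (hfix : ∀ v, t v = v → v = 1)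
    (hg : g * y * g⁻¹ = y * t) (hgt : Commute g t) :
    Nat.card (fixS g) ≤ Nat.card (fixS y) ∧ Nat.card (fixS y) ^ p ≤ Nat.card V := by
  have hgj : ∀ j : ℕ, g ^ j * y * (g ^ j)⁻¹ = y * t ^ j := by
    intro j
    induction j with
    | zero => simp
    | succ j ih =>
      calc g ^ (j + 1) * y * (g ^ (j + 1))⁻¹ = g * (g ^ j * y * (g ^ j)⁻¹) * g⁻¹ := by group
        _ = (g * y * g⁻¹) * (g * t ^ j * g⁻¹) := by rw [ih]; group
        _ = _ := by rw [hg, (hgt.pow_right j).eq, mul_inv_cancel_right, mul_assoc, ← pow_succ']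
  have hpow : ∀ j : ℕ, (y * t ^ j) ^ p = 1 := fun j => by
    rw [(hyt.pow_right j).mul_pow, hy, ← pow_mul, mul_comm, pow_mul, ht, one_pow, one_mul]
  refine ⟨?_, ?_⟩
  · let f : fixS g → fixS y := fun v => ⟨nm p y v, nm_mem hy _⟩
    refine Nat.card_le_card_of_injective f fun u v e => ?_
    obtain ⟨x, hx⟩ : ∃ x : V, x = (u : V) * (v : V)⁻¹ := ⟨_, rfl⟩
    have e1 : nm p y x = 1 := by
      rw [hx, map_mul, map_inv, mul_inv_eq_one]
      exact congrArg Subtype.val e
    have hb : g x = x := by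
      rw [hx, map_mul, map_inv, mem_fixS.1 u.2, mem_fixS.1 v.2]
    have hfx : ∀ j : ℕ, ((g ^ j)⁻¹) x = x := by
      intro j
      have h : (g ^ j) x = x := by
        induction j with
        | zero => simp
        | succ j ih => rw [pow_succ, MulAut.mul_apply, hb, ih]
      conv_lhs => rw [← h]
      exact (g ^ j).symm_apply_apply x
    have := prod_nm hyt ht hfix x
    rw [Finset.prod_eq_one fun i _ => by rw [← hgj, nm_conj, hfx, e1, map_one]] at this
    exact Subtype.ext (mul_inv_eq_one.1 (hx ▸ hinj _ this.symm))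
  · let f : (Fin p → fixS y) →* V :=
      { toFun := fun w => ∏ j : Fin p, (g ^ (j : ℕ)) (w j : V)
        map_one' := by simp
        map_mul' := fun a b => by simp [Finset.prod_mul_distrib] }
    have := Nat.card_le_card_of_injective f ((injective_iff_map_eq_one f).2 fun w hw => ?_)
    · rwa [Nat.card_fun, Nat.card_fin] at this
    funext i
    have hmem : ∀ j : Fin p, (y * t ^ (j : ℕ)) ((g ^ (j : ℕ)) (w j : V)) =
        (g ^ (j : ℕ)) (w j : V) := fun j => by
      rw [← hgj, MulAut.mul_apply, MulAut.mul_apply,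
        show ((g ^ (j : ℕ))⁻¹ : MulAut V) ((g ^ (j : ℕ)) (w j : V)) = (w j : V) from
          (g ^ (j : ℕ)).symm_apply_apply _]
      exact congrArg _ (w j).2
    have h1 := congrArg (nm p (y * t ^ (i : ℕ))) hw
    simp only [f, MonoidHom.coe_mk, OneHom.coe_mk, map_prod, map_one] at h1
    rw [Finset.prod_eq_single i (fun j _ hji => ?_) (fun h => absurd (Finset.mem_univ _) h),
      nm_of_fix (hmem i)] at h1
    · have := hinj _ h1
      exact Subtype.ext ((map_eq_one_iff _ (g ^ (i : ℕ)).injective).1 this)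
    · obtain ⟨n, hn0, hn, e⟩ : ∃ n, n ≠ 0 ∧ n < p ∧ t ^ (i : ℕ) = t ^ (j : ℕ) * t ^ n := by
        have hji' : (j : ℕ) ≠ i := fun e => hji (Fin.ext e)
        have hp0 : 0 < p := (Fact.out : p.Prime).pos
        refine ⟨((i : ℕ) + p - j) % p, fun e => ?_, Nat.mod_lt _ hp0, ?_⟩
        · rcases Nat.lt_or_gt_of_ne hji' with hlt | hgt
          · rw [show (i : ℕ) + p - j = (i - j) + p by omega, Nat.add_mod_right,
              Nat.mod_eq_of_lt (by omega)] at e
            omega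
          · rw [Nat.mod_eq_of_lt (by omega)] at e
            omega
        · rw [← pow_add, pow_eq_pow_mod _ ht, pow_eq_pow_mod ((j : ℕ) + _) ht, Nat.add_mod_mod,
            show (j : ℕ) + ((i : ℕ) + p - j) = i + p by omega, Nat.add_mod_right]
      have hc : ∀ k : ℕ, ((y * t ^ (i : ℕ)) ^ k) ((g ^ (j : ℕ)) (w j : V)) =
          ((t ^ n) ^ k) ((g ^ (j : ℕ)) (w j : V)) := by
        intro k
        induction k with
        | zero => simp
        | succ k ih =>
          have h1 : Commute (y * t ^ (j : ℕ)) (t ^ n) :=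
            (hyt.pow_right n).mul_left ((Commute.refl t).pow_pow _ _)
          rw [pow_succ', MulAut.mul_apply, ih, e, ← mul_assoc, h1.eq, MulAut.mul_apply,
            show (y * t ^ (j : ℕ)) (((t ^ n) ^ k) ((g ^ (j : ℕ)) (w j : V))) =
              ((y * t ^ (j : ℕ)) * (t ^ n) ^ k) ((g ^ (j : ℕ)) (w j : V)) from rfl,
            (h1.pow_right k).eq, MulAut.mul_apply, hmem,
            pow_succ' (t ^ n), MulAut.mul_apply]
      rw [nm_apply, Finset.prod_congr rfl fun k _ => hc k, ← nm_apply]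
      exact nm_eq_one (by rw [← pow_mul, mul_comm, pow_mul, ht, one_pow])
        (fix_pow_of_fpf ht hfix hn0 hn) _

/-- The factorisation hypothesis. -/
def Fac (C D : Set (MulAut V)) : Prop :=
  ∀ c ∈ C, ∀ d ∈ D, ∀ v : V, ∃ a b : V, d a = a ∧ c b = b ∧ v = a * b

theorem exists_not_mem {G : Type*} [Group G] {S : Set G} {M P : Subgroup G}
    (hS : closure S = P) (hM : ¬ P ≤ M) : ∃ c ∈ S, c ∉ M := by
  by_contra hno
  push Not at hno
  exact hM (hS ▸ (closure_le M).2 hno)

/-- The irreducible case. -/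
theorem irreducible_case [Fact p.Prime] (hp2 : p ≠ 2) (hinj : ∀ v : V, v ^ p = 1 → v = 1)
    (hV : Nontrivial V) {P : Subgroup (MulAut V)} [Finite P] (hP : IsPGroup p P) (hPne : P ≠ ⊥)
    {C D : Set (MulAut V)} (hC : closure C = P) (hD : closure D = P) (hF : Fac C D)
    (hirr : ∀ U : Subgroup V, (∀ g ∈ P, ∀ v ∈ U, g v ∈ U) → U = ⊥ ∨ U = ⊤) : False := by
  have hCP : ∀ c ∈ C, c ∈ P := fun c hc => hC ▸ subset_closure hc
  have hDP : ∀ c ∈ D, c ∈ P := fun c hc => hD ▸ subset_closure hc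
  -- elements commuting with the whole group have no fixed points
  have hfpf : ∀ z : MulAut V, (∀ g ∈ P, Commute g z) → z ≠ 1 → ∀ v, z v = v → v = 1 := by
    intro z hz hz1 v hv
    rcases hirr (fixS z) (fun g hg w hw => by
        rw [mem_fixS, ← MulAut.mul_apply, ← (hz g hg).eq, MulAut.mul_apply, hw]) with e | e
    · exact mem_bot.1 (e ▸ hv : v ∈ (⊥ : Subgroup V))
    · exact absurd (MulEquiv.ext fun w => (mem_fixS.1 (e ▸ mem_top w) : z w = w)) hz1
  obtain ⟨d, hd, hd1⟩ := exists_not_mem (M := ⊥) hD (by rwa [le_bot_iff])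
  rw [mem_bot] at hd1
  by_cases hcyc : IsCyclic P
  · letI := hcyc.commGroup
    obtain ⟨c, hc, hc1⟩ := exists_not_mem (M := ⊥) hC (by rwa [le_bot_iff])
    rw [mem_bot] at hc1
    refine hd1 (MulEquiv.ext fun v => ?_)
    obtain ⟨a, b, ha, hb, rfl⟩ := hF c hc d hd v
    have hcc : ∀ g ∈ P, Commute g c := fun g hg =>
      congrArg Subtype.val (mul_comm (⟨g, hg⟩ : P) ⟨c, hCP c hc⟩)
    rw [hfpf c hcc hc1 b hb, mul_one, ha, MulAut.one_apply]
  obtain ⟨A, -, hAn, hAe, hAc⟩ := CfsgLib.PLocal.exists_normal_elementary_sq hp2 hP (⊤ : Subgroup P)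
    (fun h => hcyc (isCyclic_of_surjective (Subgroup.topEquiv : (⊤ : Subgroup P) ≃* P).toMonoidHom
      (Subgroup.topEquiv).surjective))
  haveI := hAn
  haveI := hAe.1
  have hApow : ∀ a ∈ A, (a : MulAut V) ^ p = 1 := fun a ha =>
    congrArg Subtype.val (hAe.2 a ha)
  have hAcomm : ∀ a ∈ A, ∀ b ∈ A, Commute (a : MulAut V) b := fun a ha b hb =>
    congrArg Subtype.val (setLike_mul_comm ha hb)
  have hAV : ∀ g ∈ A, g ∈ center P → g ≠ 1 → ∀ v, (g : MulAut V) v = v → v = 1 := fun g _ hg hg1 =>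
    hfpf _ (fun k hk => congrArg Subtype.val (mem_center_iff.1 hg ⟨k, hk⟩))
      (fun e => hg1 (Subtype.ext e))
  obtain ⟨v₀, hv₀⟩ := exists_ne (1 : V)
  -- A is not central
  have hAZ : ¬ A ≤ center P := by
    intro hAZ
    obtain ⟨t, ht, ht1⟩ : ∃ t ∈ A, t ≠ 1 := by
      by_contra hno
      push Not at hno
      rw [(eq_bot_iff_forall A).2 hno, card_bot] at hAc
      exact absurd hAc.symm (Nat.one_lt_pow two_ne_zero (Fact.out : p.Prime).one_lt).ne'
    obtain ⟨x, hx, hxt⟩ : ∃ x ∈ A, x ∉ zpowers t := by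
      refine SetLike.not_le_iff_exists.1 fun hle => ?_
      have := card_le_of_le hle
      rw [hAc, Nat.card_zpowers, orderOf_eq_prime (hAe.2 t ht) ht1] at this
      nlinarith [(Fact.out : p.Prime).two_le]
    have := prod_nm (hAcomm x hx t ht) (hApow t ht) (hAV t ht (hAZ ht) ht1) v₀
    rw [Finset.prod_eq_one fun i _ => ?_] at this
    · exact hv₀ (hinj _ this.symm)
    have hm : x * t ^ i ∈ A := mul_mem hx (pow_mem ht i)
    refine nm_eq_one (x := ((x * t ^ i : P) : MulAut V)) (hApow _ hm) (hAV _ hm (hAZ hm) fun e => ?_) _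
    exact hxt (by rw [eq_inv_of_mul_eq_one_left e]; exact inv_mem (pow_mem (mem_zpowers t) i))
  obtain ⟨y, hy, hyZ⟩ := SetLike.not_le_iff_exists.1 hAZ
  have hcomm : ∀ g : P, g * y * g⁻¹ * y⁻¹ ∈ A ⊓ center P := by
    intro g
    have hlt := CfsgLib.PGroups.commutator_top_lt hP (N := A) (fun e => by
      rw [e, card_bot] at hAc
      exact absurd hAc.symm (Nat.one_lt_pow two_ne_zero (Fact.out : p.Prime).one_lt).ne')
    set K : Subgroup P := ⁅A, ⊤⁆
    have hgK : g * y * g⁻¹ * y⁻¹ ∈ K := by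
      have := inv_mem (commutator_mem_commutator hy (mem_top g) : ⁅y, g⁆ ∈ K)
      rwa [commutatorElement_inv, commutatorElement_def] at this
    refine ⟨hlt.le hgK, ?_⟩
    by_cases hK : K = ⊥
    · rw [hK, mem_bot] at hgK; rw [hgK]; exact one_mem _
    haveI : K.Normal := inferInstance
    have hne := CfsgLib.PGroups.inf_center_ne_bot hP hK
    obtain ⟨j, hj, hjK⟩ := (Nat.dvd_prime_pow Fact.out).1 (hAc ▸ card_dvd_of_le hlt.le)
    obtain ⟨l, hl, hlK⟩ := (Nat.dvd_prime_pow Fact.out).1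
      (hjK ▸ card_dvd_of_le (inf_le_left : K ⊓ center P ≤ K))
    have hl1 : l ≠ 0 := fun e => hne (eq_bot_of_card_eq _ (by rw [hlK, e, pow_zero]))
    have hj2 : j ≠ 2 := fun e => hlt.ne (eq_of_le_of_card_ge hlt.le (by rw [hAc, hjK, e]))
    have : K ⊓ center P = K := eq_of_le_of_card_ge inf_le_left
      (by rw [hlK, hjK, show l = j by omega])
    exact (this.ge hgK).2
  have hyC : ¬ P ≤ centralizer {(y : MulAut V)} := fun hle => hyZ (mem_center_iff.2 fun g =>
    Subtype.ext (mem_centralizer_singleton_iff.1 (hle g.2)))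
  obtain ⟨c, hc, hcy⟩ := exists_not_mem hC hyC
  obtain ⟨d', hd', hdy⟩ := exists_not_mem hD hyC
  set c' : P := ⟨c, hCP c hc⟩
  set t₀ := c' * y * c'⁻¹ * y⁻¹ with ht₀
  obtain ⟨ht₀A, ht₀Z⟩ := hcomm c'
  have hfix₀ : ∀ v, (t₀ : MulAut V) v = v → v = 1 := hAV _ ht₀A ht₀Z fun e => hcy (by
    rw [mem_centralizer_singleton_iff]
    rw [ht₀, mul_inv_eq_one, mul_inv_eq_iff_eq_mul] at e
    exact congrArg Subtype.val e)
  obtain ⟨i, hi⟩ : ∃ i : ℕ, fixS ((y * t₀ ^ i : P) : MulAut V) ≠ ⊥ := by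
    by_contra hno
    push Not at hno
    have := prod_nm (hAcomm y hy t₀ ht₀A) (hApow _ ht₀A) hfix₀ v₀
    rw [Finset.prod_eq_one fun i _ => ?_] at this
    · exact hv₀ (hinj _ this.symm)
    exact nm_eq_one (x := ((y * t₀ ^ i : P) : MulAut V))
      (hApow _ (mul_mem hy (pow_mem ht₀A i))) (fun v hv => mem_bot.1
        (hno i ▸ hv : v ∈ (⊥ : Subgroup V))) _
  set y₁ := y * t₀ ^ i with hy₁
  have hy₁A : y₁ ∈ A := mul_mem hy (pow_mem ht₀A i)
  have bound : ∀ g ∈ P, g ∉ centralizer {(y : MulAut V)} →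
      Nat.card (fixS g) ≤ Nat.card (fixS (y₁ : MulAut V)) ∧
        Nat.card (fixS (y₁ : MulAut V)) ^ p ≤ Nat.card V := by
    intro g hg hgy
    obtain ⟨hA', hZ'⟩ := hcomm ⟨g, hg⟩
    set t := (⟨g, hg⟩ : P) * y * (⟨g, hg⟩ : P)⁻¹ * y⁻¹ with ht
    refine block_bounds hinj (hApow _ hy₁A) (hAcomm _ hy₁A _ hA') (hApow _ hA')
      (hAV _ hA' hZ' fun e => hgy (by
        rw [mem_centralizer_singleton_iff]
        rw [ht, mul_inv_eq_one, mul_inv_eq_iff_eq_mul] at e
        exact congrArg Subtype.val e)) ?_ (congrArg Subtype.val (mem_center_iff.1 hZ' ⟨g, hg⟩))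
    have e : (⟨g, hg⟩ : P) * y₁ * (⟨g, hg⟩ : P)⁻¹ = y₁ * t := by
      have h1 : (⟨g, hg⟩ : P) * t₀ ^ i * (⟨g, hg⟩ : P)⁻¹ = t₀ ^ i := by
        rw [(mem_center_iff.1 (pow_mem ht₀Z i) _), mul_inv_cancel_right]
      have h2 : (⟨g, hg⟩ : P) * y * (⟨g, hg⟩ : P)⁻¹ = y * t := by
        rw [mem_center_iff.1 hZ' y, ht, inv_mul_cancel_right]
      calc _ = ((⟨g, hg⟩ : P) * y * (⟨g, hg⟩ : P)⁻¹) * ((⟨g, hg⟩ : P) * t₀ ^ i * (⟨g, hg⟩ : P)⁻¹) := by
            rw [hy₁]; group
        _ = _ := by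
          rw [h1, h2, hy₁, mul_assoc, mem_center_iff.1 (pow_mem ht₀Z i) t, ← mul_assoc]
    exact congrArg Subtype.val e
  obtain ⟨hcb, hVb⟩ := bound c (hCP c hc) hcy
  obtain ⟨hdb, -⟩ := bound d' (hDP d' hd') hdy
  have hle : Nat.card V ≤ Nat.card (fixS d') * Nat.card (fixS c) := by
    rw [← Nat.card_prod]
    refine Nat.card_le_card_of_surjective (fun x => (x.1 : V) * x.2) fun v => ?_
    obtain ⟨a, b, ha, hb, rfl⟩ := hF c hc d' hd' v
    exact ⟨(⟨a, ha⟩, ⟨b, hb⟩), rfl⟩
  have hW : 1 < Nat.card (fixS (y₁ : MulAut V)) := one_lt_card_iff_ne_bot _ |>.2 hi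
  have h3 : Nat.card (fixS (y₁ : MulAut V)) ^ p ≤ Nat.card (fixS (y₁ : MulAut V)) ^ 2 := by
    refine hVb.trans (hle.trans ?_)
    rw [sq]
    exact Nat.mul_le_mul hdb hcb
  have := (Nat.pow_le_pow_iff_right hW).1 h3
  have := (Fact.out : p.Prime).two_le
  omega

omit [Finite V] in
theorem mem_of_pow_coprime {N : ℕ} {v : V} {U : Subgroup V} [Finite V]
    (hcop : (Nat.card V).Coprime N) (h : v ^ N ∈ U) : v ∈ U := by
  obtain ⟨m, hm⟩ := exists_pow_eq_self_of_coprime (hcop.symm.coprime_dvd_right (orderOf_dvd_natCard v))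
  rw [← hm]
  exact pow_mem h m

universe u v

/-- The trivial action theorem. -/
theorem trivial_action {G : Type v} [Group G] [Finite G] [Fact p.Prime] (hp2 : p ≠ 2)
    (hG : IsPGroup p G) {C D : Set G} (hC : closure C = ⊤) (hD : closure D = ⊤) :
    ∀ (n : ℕ) (V : Type u) [CommGroup V] [Finite V] (φ : G →* MulAut V), Nat.card V = n →
      (Nat.card V).Coprime p → Fac (φ '' C) (φ '' D) → ∀ (g : G) (v : V), φ g v = v := by
  classical
  letI := Fintype.ofFinite G
  intro n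
  induction n using Nat.strong_induction_on with
  | _ n ih =>
  intro V _ _ φ hn hcop hF g₀ v₀
  have hcopG : (Nat.card V).Coprime (Nat.card G) := by
    obtain ⟨k, hk⟩ := IsPGroup.iff_card.1 hG
    rw [hk]; exact hcop.pow_right k
  have hinj : ∀ v : V, v ^ p = 1 → v = 1 := fun v hv =>
    mem_bot.1 (mem_of_pow_coprime hcop (U := ⊥) (mem_bot.2 hv))
  let CG : Subgroup V := ⨅ g : G, fixS (φ g)
  have hCG : ∀ v, v ∈ CG ↔ ∀ g, φ g v = v := fun v => by simp [CG, mem_iInf, mem_fixS]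
  by_contra hne
  have hCGtop : CG ≠ ⊤ := fun e => hne ((hCG v₀).1 (e ▸ mem_top v₀) g₀)
  -- an invariant subgroup with trivial quotient
  have key : ∀ U : Subgroup V, (∀ g, ∀ v ∈ U, φ g v ∈ U) → U ≠ ⊥ → U ≠ ⊤ → CG ≤ U → False := by
    intro U hU hU0 hU1 hCU
    haveI : U.Normal := inferInstance
    have hmap : ∀ g, U.map ((φ g : MulAut V) : V ≃* V).toMonoidHom = U := fun g =>
      eq_of_le_of_card_ge (by rintro _ ⟨v, hv, rfl⟩; exact hU g v hv)
        (Nat.card_congr (U.equivMapOfInjective _ (φ g).injective).toEquiv).le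
    let ψ : G →* MulAut (V ⧸ U) :=
      { toFun := fun g => QuotientGroup.congr U U (φ g) (hmap g)
        map_one' := MulEquiv.ext fun x => by
          obtain ⟨x, rfl⟩ := QuotientGroup.mk_surjective x
          simp
        map_mul' := fun a b => MulEquiv.ext fun x => by
          obtain ⟨x, rfl⟩ := QuotientGroup.mk_surjective x
          simp; rfl }
    have hψ : ∀ g (v : V), ψ g (v : V ⧸ U) = ((φ g v : V) : V ⧸ U) := fun g v => rfl
    have hlt : Nat.card (V ⧸ U) < n := by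
      have h1 := card_eq_card_quotient_mul_card_subgroup U
      have h2 : 1 < Nat.card U := one_lt_card_iff_ne_bot _ |>.2 hU0
      have h3 : 0 < Nat.card (V ⧸ U) := Nat.card_pos
      rw [← hn, h1]
      exact lt_mul_of_one_lt_right h3 h2
    have htriv := ih _ hlt (V ⧸ U) ψ rfl (hcop.coprime_dvd_left (card_quotient_dvd_card U)) (by
      rintro _ ⟨c, hc, rfl⟩ _ ⟨d, hd, rfl⟩ x
      obtain ⟨v, rfl⟩ := QuotientGroup.mk_surjective x
      obtain ⟨a, b, ha, hb, rfl⟩ := hF _ ⟨c, hc, rfl⟩ _ ⟨d, hd, rfl⟩ v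
      exact ⟨a, b, by rw [hψ, ha], by rw [hψ, hb], rfl⟩)
    refine hU1 (eq_top_iff.2 fun v _ => ?_)
    have hx : ∏ g : G, φ g v ∈ CG := (hCG _).2 fun k => by
      rw [map_prod]
      exact Fintype.prod_equiv (Equiv.mulLeft k) _ _ fun g => by simp
    have hy : ((∏ g : G, φ g v : V) : V ⧸ U) = ((v ^ Nat.card G : V) : V ⧸ U) := by
      rw [← QuotientGroup.mk'_apply, map_prod]
      simp [← hψ, htriv, Nat.card_eq_fintype_card]
    rw [(QuotientGroup.eq_one_iff _).2 (hCU hx), eq_comm, QuotientGroup.eq_one_iff] at hy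
    exact mem_of_pow_coprime hcopG hy
  by_cases hC0 : CG = ⊥
  swap
  · exact key CG (fun g v hv => by rw [(hCG v).1 hv g]; exact hv) hC0 hCGtop le_rfl
  have hrange : IsPGroup p φ.range := hG.of_surjective φ.rangeRestrict φ.rangeRestrict_surjective
  refine irreducible_case hp2 hinj ⟨⟨φ g₀ v₀, v₀, hne⟩⟩ hrange ?_ (C := φ '' C) (D := φ '' D)
    (by rw [← MonoidHom.map_closure, hC, MonoidHom.range_eq_map])
    (by rw [← MonoidHom.map_closure, hD, MonoidHom.range_eq_map]) hF fun U hU => ?_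
  · intro e
    have : φ g₀ ∈ φ.range := ⟨g₀, rfl⟩
    rw [e, mem_bot] at this
    exact hne (by rw [this, MulAut.one_apply])
  · by_contra hno
    push Not at hno
    exact key U (fun g v hv => hU _ ⟨g, rfl⟩ v hv) hno.1 hno.2 (hC0 ▸ bot_le)

end CfsgLib.KnownA.CoprimeFactor
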