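import Cfsg.Agent.Lib.KnownA.CoprimeFactor
import Cfsg.Agent.Lib.PGroups.Basic

/-!
A Sylow subgroup of odd order centralizes a normal complement when two generating sets have all
their relevant pairs generating p-subgroups.
-/

set_option autoImplicit false

open scoped Pointwise commutatorElement

namespace CfsgLib.KnownA.CoprimeFactor

open Subgroup

universe u
variable {G : Type u} [Group G] [Finite G] {p : ℕ} [Fact p.Prime]

/-- Conjugation on a normalized subgroup. -/
noncomputable def conjHom {P R : Subgroup G} (h : P ≤ normalizer (R : Set G)) : P →* MulAut R :=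
  R.normalizerMonoidHom.comp (inclusion h)

theorem conjHom_apply {P R : Subgroup G} (h : P ≤ normalizer (R : Set G)) (a : P) (r : R) :
    ((conjHom h a r : R) : G) = a * r * (a : G)⁻¹ := rfl

/-- The factorisation. -/
theorem factor (P : Sylow p G) {R : Subgroup G} (hR : (Nat.card R).Coprime p)
    (hPR : (P : Subgroup G) ≤ normalizer (R : Set G)) {c d x : G} (hc : c ∈ P) (hd : d ∈ P)
    (hx : x ∈ R) (h : IsPGroup p (closure ({x * c * x⁻¹, d} : Set G))) :
    ∃ a ∈ R, ∃ b ∈ R, Commute d a ∧ Commute c b ∧ x = a * b := by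
  set H := (P : Subgroup G) ⊔ R
  have hPH : (P : Subgroup G) ≤ H := le_sup_left
  set K := closure ({x * c * x⁻¹, d} : Set G)
  have hKH : K ≤ H := by
    rw [closure_le]
    rintro z (rfl | rfl)
    · exact mul_mem (mul_mem (le_sup_right (a := (P : Subgroup G)) hx) (hPH hc))
        (inv_mem (le_sup_right (a := (P : Subgroup G)) hx))
    · exact hPH hd
  obtain ⟨Q, hQ⟩ := (h.of_injective (subgroupOfEquivOfLe hKH).toMonoidHom
    (subgroupOfEquivOfLe hKH).injective).exists_le_sylow
  obtain ⟨g, hg⟩ := MulAction.exists_smul_eq H (P.subtype hPH) Q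
  obtain ⟨π, hπ, r, hr, hg'⟩ := (CfsgLib.Coprime.mem_sup_iff_of_le_normalizer hPR).1
    (show ((g⁻¹ : H) : G) ∈ H from (g⁻¹).2)
  have hgr : (g : G) = r⁻¹ * π⁻¹ := by
    rw [← mul_inv_rev, hg', InvMemClass.coe_inv, inv_inv]
  -- everything in the p-group lies in the conjugate
  have hKQ : ∀ z ∈ K, r * z * r⁻¹ ∈ P := by
    intro z hz
    have h1 : (⟨z, hKH hz⟩ : H) ∈ (g • P.subtype hPH : Sylow p H) := by
      rw [hg]; exact hQ (mem_subgroupOf.2 hz)
    have h1 : (⟨z, hKH hz⟩ : H) ∈ MulAut.conj g • ((P.subtype hPH : Sylow p H) : Subgroup H) := h1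
    rw [Subgroup.mem_pointwise_smul_iff_inv_smul_mem] at h1
    have h2 : (g : G)⁻¹ * z * g ∈ (P : Subgroup G) := by simpa [mem_subgroupOf] using h1
    rw [hgr, mul_inv_rev, inv_inv, inv_inv] at h2
    have := P.1.mul_mem (P.1.mul_mem (P.1.inv_mem hπ) h2) hπ
    rw [show π⁻¹ * (π * r * z * (r⁻¹ * π⁻¹)) * π = r * z * r⁻¹ by group] at this
    exact this
  have hfix : ∀ {e s : G}, e ∈ P → s ∈ R → s * e * s⁻¹ ∈ P → Commute e s := by
    intro e s he hs hse
    have hcop : (P : Subgroup G) ⊓ R = ⊥ := CfsgLib.Coprime.inf_eq_bot_of_coprime (by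
      obtain ⟨k, hk⟩ := IsPGroup.iff_card.1 P.2
      rw [hk]; exact hR.symm.pow_left k)
    have hm : e⁻¹ * (s * e * s⁻¹) ∈ (P : Subgroup G) ⊓ R := by
      refine ⟨P.1.mul_mem (P.1.inv_mem he) hse, ?_⟩
      rw [show e⁻¹ * (s * e * s⁻¹) = (e⁻¹ * s * e) * s⁻¹ by group]
      exact R.mul_mem ((mem_normalizer_iff''.1 (hPR he) s).1 hs) (R.inv_mem hs)
    rw [hcop, mem_bot, inv_mul_eq_one, eq_mul_inv_iff_mul_eq] at hm
    exact hm
  have hd' : Commute d r := hfix hd hr (hKQ d (subset_closure (by simp)))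
  have hc' : Commute c (r * x) := hfix hc (mul_mem hr hx) (by
    have := hKQ (x * c * x⁻¹) (subset_closure (by simp))
    convert this using 1
    group)
  exact ⟨r⁻¹, inv_mem hr, r * x, mul_mem hr hx, hd'.inv_right, hc', by group⟩

/-- The action on an invariant r-subgroup is trivial. -/
theorem centralizes_rGroup (hp3 : p ≠ 2) (P : Sylow p G) {r : ℕ} [Fact r.Prime] (hr : r ≠ p)
    {R : Subgroup G} (hRr : IsPGroup r R) (hPR : (P : Subgroup G) ≤ normalizer (R : Set G))
    {C D : Set G} (hC : closure C = (P : Subgroup G)) (hD : closure D = (P : Subgroup G))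
    (h : ∀ x ∈ R, ∀ c ∈ C, ∀ d ∈ D, IsPGroup p (closure ({x * c * x⁻¹, d} : Set G))) :
    (P : Subgroup G) ≤ centralizer (R : Set G) := by
  have hRcop : (Nat.card R).Coprime p := by
    obtain ⟨k, hk⟩ := IsPGroup.iff_card.1 hRr
    rw [hk]
    exact ((Nat.coprime_primes Fact.out Fact.out).2 hr).pow_left k
  have hcop : (Nat.card (P : Subgroup G)).Coprime (Nat.card (frattini R)) := by
    obtain ⟨k, hk⟩ := IsPGroup.iff_card.1 P.2
    rw [hk]
    exact ((hRcop.coprime_dvd_left (card_subgroup_dvd_card _)).symm).pow_left k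
  refine CfsgLib.Coprime.le_centralizer_of_trivial_mod_frattini hPR hcop fun a ha k hk => ?_
  haveI : IsMulCommutative (R ⧸ frattini R) := ⟨⟨fun x y => by
    obtain ⟨x, rfl⟩ := QuotientGroup.mk_surjective x
    obtain ⟨y, rfl⟩ := QuotientGroup.mk_surjective y
    rw [← QuotientGroup.mk_mul, ← QuotientGroup.mk_mul, QuotientGroup.eq]
    refine CfsgLib.PGroups.commutator_le_frattini hRr ?_
    rw [show (x * y)⁻¹ * (y * x) = ⁅y⁻¹, x⁻¹⁆ by rw [commutatorElement_def]; group, commutator_def]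
    exact commutator_mem_commutator (mem_top _) (mem_top _)⟩⟩
  letI : CommGroup (R ⧸ frattini R) :=
    { (inferInstance : Group (R ⧸ frattini R)) with
      mul_comm := fun x y => IsMulCommutative.is_comm.comm x y }
  let φ : (P : Subgroup G) →* MulAut (R ⧸ frattini R) :=
    { toFun := fun g => QuotientGroup.congr (frattini R) (frattini R) (conjHom hPR g)
        (characteristic_iff_map_eq.1 frattini_characteristic _)
      map_one' := MulEquiv.ext fun x => by
        obtain ⟨x, rfl⟩ := QuotientGroup.mk_surjective x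
        simp
      map_mul' := fun g g' => MulEquiv.ext fun x => by
        obtain ⟨x, rfl⟩ := QuotientGroup.mk_surjective x
        simp; rfl }
  have hgen : ∀ {S : Set G}, closure S = (P : Subgroup G) →
      closure (Subtype.val ⁻¹' S : Set ↥(P : Subgroup G)) = ⊤ := fun {S} hS => by
    rw [eq_top_iff]
    rintro ⟨g, hg⟩ -
    rw [← hS] at hg
    have hsub : S ⊆ (P : Subgroup G) := by rw [← hS]; exact subset_closure
    have : closure S ≤ (closure (Subtype.val ⁻¹' S : Set ↥(P : Subgroup G))).map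
        (P : Subgroup G).subtype := (closure_le _).2 fun s hs =>
      ⟨⟨s, hsub hs⟩, subset_closure hs, rfl⟩
    obtain ⟨y, hy, e⟩ := this hg
    have hyg : y = ⟨g, by rw [← hS]; exact hg⟩ := Subtype.ext e
    exact hyg ▸ hy
  have htriv := trivial_action hp3 P.2 (hgen hC) (hgen hD) _ (R ⧸ frattini R) φ rfl
    (hRcop.coprime_dvd_left (card_quotient_dvd_card _)) ?_ ⟨a, ha⟩
    ((⟨k, hk⟩ : R) : R ⧸ frattini R)
  · have e : (conjHom hPR ⟨a, ha⟩ ⟨k, hk⟩)⁻¹ * ⟨k, hk⟩ ∈ frattini R := QuotientGroup.eq.1 htriv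
    refine ⟨(conjHom hPR ⟨a, ha⟩ ⟨k, hk⟩) * (⟨k, hk⟩ : R)⁻¹, ?_, rfl⟩
    have := inv_mem ((inferInstance : (frattini R).Normal).mem_comm e)
    simpa using this
  · rintro _ ⟨c, hc, rfl⟩ _ ⟨d, hd, rfl⟩ v
    obtain ⟨⟨x, hx⟩, rfl⟩ := QuotientGroup.mk_surjective v
    obtain ⟨s, hs, t, ht, hds, hct, hxe⟩ :=
      factor P hRcop hPR c.2 d.2 hx (h x hx c hc d hd)
    refine ⟨((⟨s, hs⟩ : R) : R ⧸ frattini R), ((⟨t, ht⟩ : R) : R ⧸ frattini R), ?_, ?_, ?_⟩
    · exact congrArg QuotientGroup.mk (Subtype.ext (by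
        show (d : G) * s * (d : G)⁻¹ = s
        rw [hds.eq, mul_inv_cancel_right]))
    · exact congrArg QuotientGroup.mk (Subtype.ext (by
        show (c : G) * t * (c : G)⁻¹ = t
        rw [hct.eq, mul_inv_cancel_right]))
    · rw [← QuotientGroup.mk_mul]
      exact congrArg QuotientGroup.mk (Subtype.ext hxe)

/-- The Sylow subgroup centralizes the complement. -/
theorem centralizes (hp3 : p ≠ 2) (P : Sylow p G) {N : Subgroup G} [N.Normal]
    (hN : (Nat.card N).Coprime p) {C D : Set G} (hC : closure C = (P : Subgroup G))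
    (hD : closure D = (P : Subgroup G))
    (h : ∀ x ∈ N, ∀ c ∈ C, ∀ d ∈ D, IsPGroup p (closure ({x * c * x⁻¹, d} : Set G))) :
    ⁅(P : Subgroup G), N⁆ = ⊥ := by
  rw [commutator_eq_bot_iff_le_centralizer]
  suffices hsuf : N ≤ centralizer ((P : Subgroup G) : Set G) from fun a ha =>
    mem_centralizer_iff.2 fun n hn => (mem_centralizer_iff.1 (hsuf hn) a ha).symm
  have hPN : (P : Subgroup G) ≤ normalizer (N : Set G) := by
    rw [normalizer_eq_top_iff.2 inferInstance]; exact le_top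
  have hsol : Group.IsSolvable (P : Subgroup G) := by
    have := P.2.isNilpotent
    infer_instance
  have hcop : (Nat.card (P : Subgroup G)).Coprime (Nat.card N) := by
    obtain ⟨k, hk⟩ := IsPGroup.iff_card.1 P.2
    rw [hk]; exact hN.symm.pow_left k
  rw [← subgroupOf_eq_top]
  refine eq_top_of_card_eq _ (Nat.dvd_antisymm (card_subgroup_dvd_card _) ?_)
  refine (Nat.dvd_iff_prime_pow_dvd_dvd _ _).2 fun r k hr hrk => ?_
  haveI : Fact r.Prime := ⟨hr⟩
  rcases k.eq_zero_or_pos with rfl | hk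
  · simp
  have hrp : r ≠ p := fun e => by
    subst e
    exact (hr.coprime_iff_not_dvd.1 hN.symm) ((dvd_pow_self r (by omega)).trans hrk)
  obtain ⟨R, hR⟩ := CfsgLib.Coprime.exists_invariant_sylow (p := r) hPN hcop (Or.inl hsol)
  have hRN := map_subtype_le (R : Subgroup N)
  have := centralizes_rGroup hp3 P hrp (R.2.map N.subtype) hR hC hD
    fun x hx => h x (hRN hx)
  have hle : (R : Subgroup N) ≤ (centralizer ((P : Subgroup G) : Set G)).subgroupOf N := fun x hx =>
    mem_subgroupOf.2 (mem_centralizer_iff.2 fun a ha =>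
      (mem_centralizer_iff.1 (this ha) (x : G) ⟨x, hx, rfl⟩).symm)
  refine dvd_trans ?_ (card_dvd_of_le hle)
  exact R.pow_dvd_card_of_pow_dvd_card hrk

end CfsgLib.KnownA.CoprimeFactor
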