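import Cfsg.Agent.Lib.Chev.Twist.Fam.F4
import Cfsg.Agent.Lib.Chev.Unip
import Cfsg.Agent.Lib.Chev.Orders
import Cfsg.Agent.S1062

/-!
The order of a two-element of `F₄` in characteristic two is at most `32`: grading by height.
-/

set_option autoImplicit false

namespace CfsgLib.KnownA.F4TwoPower

open Cfsg.Lie Matrix CfsgLib.Chev

variable {D : ChevalleyDatum} {A : Aux} {F : Type*} [Field F]

variable (D A) in
/-- The height of a root. -/
noncomputable def hgt (r : ℕ) : ℤ := ((List.range D.rank).map fun j => A.a r j).sum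

variable (D A) in
/-- The height grading on coordinates. -/
noncomputable def hN (k : ℕ) : ℤ := if k < D.rank then 0 else hgt D A (k - D.rank)

variable (D A) in
/-- The height of a coordinate. -/
noncomputable def hw : D.Idx → ℤ
  | Sum.inl _ => 0
  | Sum.inr s => hgt D A s.val

theorem hN_idx (x : D.Idx) : hN D A (idx D x) = hw D A x := by
  rcases x with i | s
  · simp [hN, idx, hw, i.isLt]
  · simp [hN, idx, hw]

theorem hgt_lin {r s u : ℕ} (i k : ℤ)
    (ha : ∀ j < D.rank, A.a u j = i * A.a r j + k * A.a s j) :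
    hgt D A u = i * hgt D A r + k * hgt D A s := by
  simp only [hgt, ← List.sum_map_mul_left, ← List.sum_map_add]
  refine congrArg List.sum (List.map_congr_left fun j hj => ?_)
  rw [ha j (List.mem_range.1 hj)]

theorem hgt_neg (g : Good D A) {r : ℕ} (hr : r < D.nroots) : hgt D A (A.neg r) = - hgt D A r := by
  rw [hgt_lin (D := D) (A := A) (r := r) (s := r) (u := A.neg r) (-1) 0
    (fun j _ => by rw [g.a_neg r hr j]; ring)]
  ring

theorem col_height (g : Good D A) {r c : ℕ} (hr : r < D.nroots) {q : ℕ × ℤ × ℕ}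
    (hq : q ∈ A.col D.rank D.nroots r c) :
    hN D A q.1 = hN D A c + (q.2.2 : ℤ) * hgt D A r ∧ 1 ≤ q.2.2 := by
  rcases lt_or_ge c D.rank with hc | hc
  · rw [col_h hc, List.mem_singleton] at hq
    subst hq
    simp [hN, hc]
  obtain ⟨s, rfl⟩ : ∃ s, c = D.rank + s := ⟨c - D.rank, by omega⟩
  by_cases hs : s < D.nroots
  swap
  · simp [Aux.col, hs, show ¬ D.rank + s < D.rank by omega] at hq
  rcases eq_or_ne s r with rfl | h3
  · simp [col_self hs] at hq
  rcases eq_or_ne s (A.neg r) with rfl | h4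
  · rw [col_neg hs h3] at hq
    simp only [List.mem_append, List.mem_map, List.mem_range, List.mem_singleton] at hq
    rcases hq with ⟨j, hj, rfl⟩ | rfl
    · simp [hN, hj, hgt_neg g hr]
    · simp [hN, hgt_neg g hr]; ring
  · rw [col_chain hs h3 h4] at hq
    obtain ⟨p, hp, rfl⟩ := List.mem_map.1 hq
    have hm := g.chain_mem r hr s hs p.2 p.1.1 p.1.2 (List.mem_zipIdx_iff_getElem?.1 hp)
    refine ⟨?_, by simp⟩
    simp only [hN, show ¬ D.rank + p.1.1 < D.rank by omega, show ¬ D.rank + s < D.rank by omega,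
      if_false, Nat.add_sub_cancel_left]
    rw [hgt_lin (D := D) (A := A) (r := r) (s := s) (u := p.1.1) ((p.2 : ℤ) + 1) 1
      (fun j hj => by rw [hm.2.2.2 j hj]; ring)]
    push_cast
    ring

theorem x_tri_height (g : Good D A) {r : ℕ} (hr : r < D.nroots) (t : F) (hpos : 1 ≤ hgt D A r) :
    Tri (hw D A) 0 (D.x F r t) := by
  intro x y hxy
  have h := congrFun (x_mulVec (F := F) g hr t (idx D y)) x
  rw [mulVec_ev] at h
  refine h.trans ?_
  rw [Pi.add_apply, tval_apply, List.sum_eq_zero, add_zero]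
  · by_cases e : x = y
    · subst e; simp [ev]
    · have e2 : idx D x ≠ idx D y := fun e' => e (idx_inj e')
      simp [ev, e, e2]
  · intro v hv
    obtain ⟨q, hq, rfl⟩ := List.mem_map.1 hv
    rw [if_neg]
    intro e
    obtain ⟨h1, h2⟩ := col_height g hr hq
    rw [← e, hN_idx, hN_idx] at h1
    have h3 : (1 : ℤ) ≤ (q.2.2 : ℤ) := by exact_mod_cast h2
    nlinarith

theorem posUnipotent_le_triG (g : Good D A)
    (hpos : ∀ r < D.nroots, D.IsPosRoot r → 1 ≤ hgt D A r) :
    D.posUnipotent F ≤ triG (hw D A) 0 le_rfl := by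
  rw [posUnipotent_eq g]
  refine (Subgroup.closure_le _).2 ?_
  rintro y ⟨r, t, hr, rfl⟩
  refine ⟨?_, ?_⟩
  · rw [xG_val]; exact x_tri_height g hr.1 t (hpos r hr.1 hr)
  · rw [xG_inv, xG_val]; exact x_tri_height g hr.1 (-t) (hpos r hr.1 hr)

/-- Powers of the nilpotent part climb the grading. -/
theorem pow_sub_one_apply {w : D.Idx → ℤ} {M : Matrix D.Idx D.Idx F} (hM : Tri w 0 M) :
    ∀ (k : ℕ) (x y : D.Idx), w x < w y + k → ((M - 1) ^ k) x y = 0
  | 0, x, y, h => by
    rw [pow_zero, Matrix.one_apply, if_neg]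
    rintro rfl
    simp at h
  | k + 1, x, y, h => by
    rw [pow_succ, Matrix.mul_apply]
    refine Finset.sum_eq_zero fun z _ => ?_
    by_cases hz : w x < w z + k
    · rw [pow_sub_one_apply hM k x z hz, zero_mul]
    · push_cast at h
      rw [Matrix.sub_apply, hM z y (by omega), Matrix.one_apply, sub_self, mul_zero]

theorem height_facts : ∀ r < chevF4.nroots,
    -11 ≤ hgt chevF4 auxF4 r ∧ hgt chevF4 auxF4 r ≤ 11 := by
  decide +kernel

theorem height_pos : ∀ r < chevF4.nroots, chevF4.IsPosRoot r → 1 ≤ hgt chevF4 auxF4 r := by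
  intro r hr hp
  have h := (stdF4.good.pos_iff r hr).1 hp
  have h0 : 0 ≤ hgt chevF4 auxF4 r :=
    List.sum_nonneg fun y hy => by
      obtain ⟨j, _, rfl⟩ := List.mem_map.1 hy
      exact h j
  have hne : ∀ r < chevF4.nroots, hgt chevF4 auxF4 r ≠ 0 := by decide +kernel
  have := hne r hr
  omega

variable {K : Type*} [Field K] [Fintype K]

theorem pow_32_posUnipotent [CharP K 2] {g : GL chevF4.Idx K} (hg : g ∈ chevF4.posUnipotent K) :
    g ^ 32 = 1 := by
  have hT := (posUnipotent_le_triG stdF4.good height_pos hg).1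
  have h0 : ((g : Matrix chevF4.Idx chevF4.Idx K) - 1) ^ 32 = 0 := by
    ext x y
    refine pow_sub_one_apply hT 32 x y ?_
    have hb : ∀ z : chevF4.Idx, -11 ≤ hw chevF4 auxF4 z ∧ hw chevF4 auxF4 z ≤ 11 := by
      rintro (i | s)
      · simp [hw]
      · exact height_facts s.val s.isLt
    obtain ⟨h1, h2⟩ := hb x
    obtain ⟨h3, h4⟩ := hb y
    push_cast
    omega
  haveI : Fact (Nat.Prime 2) := ⟨Nat.prime_two⟩
  haveI : Nonempty chevF4.Idx := ⟨Sum.inl ⟨0, by decide⟩⟩
  rw [show (32 : ℕ) = 2 ^ 5 from rfl, sub_pow_char_pow_of_commute _ _ (Commute.one_right _), one_pow,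
    sub_eq_zero] at h0
  norm_num at h0
  exact Units.ext (by rw [Units.val_pow_eq_pow_val, h0, Units.val_one])

theorem pow_32_of_two_power [CharP K 2] {g : GL chevF4.Idx K} (hg : g ∈ chevF4.group K)
    (h2 : ∃ j : ℕ, orderOf g = 2 ^ j) : g ^ 32 = 1 := by
  haveI : Fact (Nat.Prime 2) := ⟨Nat.prime_two⟩
  haveI : Finite (GL chevF4.Idx K) := finite_GL
  obtain ⟨j, hj⟩ := h2
  obtain ⟨f, -, hf⟩ := FiniteField.card K 2
  set q := Fintype.card K with hq
  have hle : chevF4.posUnipotent K ≤ chevF4.group K := posUnipotent_le_group stdF4.good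
  have hcard : Nat.card (chevF4.posUnipotent K) = q ^ 24 := card_posUnipotent stdF4
  have hgcard := Cfsg.Agent.S1062.result (F := K) (q := q) hq.symm
  simp only [mul_assoc] at hgcard
  have hq0 : q ≠ 0 := Fintype.card_ne_zero
  have hodd : ∀ a : ℕ, 0 < a → ¬ 2 ∣ q ^ a - 1 := by
    intro a ha h
    have h1 : 1 ≤ q ^ a := Nat.one_le_pow _ _ Fintype.card_pos
    have h2' : 2 ∣ q ^ a := dvd_pow (hf ▸ dvd_pow_self 2 f.pos.ne') ha.ne'
    omega
  have hfac : (Nat.card (chevF4.group K)).factorization 2 = (f : ℕ) * 24 := by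
    have hM : ¬ 2 ∣ (q ^ 2 - 1) * ((q ^ 6 - 1) * ((q ^ 8 - 1) * (q ^ 12 - 1))) := by
      simp only [Nat.prime_two.dvd_mul, not_or]
      exact ⟨hodd 2 (by omega), hodd 6 (by omega), hodd 8 (by omega), hodd 12 (by omega)⟩
    rw [hgcard, Nat.factorization_mul (pow_ne_zero _ hq0)
      (fun h => hM (by rw [h]; exact dvd_zero 2)), Finsupp.add_apply, Nat.factorization_eq_zero_of_not_dvd hM,
      add_zero, hf, ← pow_mul, Nat.prime_two.factorization_pow, Finsupp.single_eq_same]
  let P : Sylow 2 (chevF4.group K) := Sylow.ofCard ((chevF4.posUnipotent K).subgroupOf (chevF4.group K))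
    (by rw [Nat.card_congr (Subgroup.subgroupOfEquivOfLe hle).toEquiv, hcard, hfac, hf, ← pow_mul])
  set y : chevF4.group K := ⟨g, hg⟩
  obtain ⟨Q, hQ⟩ := (IsPGroup.of_card (n := j) (G := Subgroup.zpowers y)
    (by rw [Nat.card_zpowers, ← Subgroup.orderOf_coe, hj])).exists_le_sylow
  obtain ⟨c, hc⟩ := MulAction.exists_smul_eq (chevF4.group K) Q P
  have hy : c * y * c⁻¹ ∈ (P : Subgroup (chevF4.group K)) := by
    rw [← hc, Sylow.coe_subgroup_smul, Subgroup.mem_pointwise_smul_iff_inv_smul_mem]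
    show (MulAut.conj c)⁻¹ (MulAut.conj c y) ∈ (Q : Subgroup (chevF4.group K))
    rw [MulAut.inv_apply_self]
    exact hQ (Subgroup.mem_zpowers y)
  have h32 : ((c * y * c⁻¹ : chevF4.group K) : GL chevF4.Idx K) ^ 32 = 1 :=
    pow_32_posUnipotent (Subgroup.mem_subgroupOf.1 hy)
  rw [← Subgroup.coe_pow, conj_pow, OneMemClass.coe_eq_one, mul_inv_eq_one, mul_eq_left,
    ← OneMemClass.coe_eq_one, Subgroup.coe_pow] at h32
  exact h32

theorem orderOf_le_32 (m : ℕ) (hK : Fintype.card K = 2 ^ (2 * m + 1))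
    (x : twistedF4 K (2 ^ m)) (hx : ∃ j : ℕ, orderOf x = 2 ^ j) : orderOf x ≤ 32 := by
  obtain ⟨hc, σ, hσ, hi⟩ := F42.exists_sigma hK
  have hle : twistedF4 K (2 ^ m) ≤ chevF4.group K :=
    (F42.twisted_eq_fix hσ hi) ▸ fun y hy => (F42.tw σ).fix_le_group hy
  rw [← Subgroup.orderOf_coe] at hx ⊢
  exact orderOf_le_of_pow_eq_one (by omega) (pow_32_of_two_power (hle x.2) hx)

end CfsgLib.KnownA.F4TwoPower
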