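import Cfsg.Agent.Lib.KnownA.ThreeGen
import Cfsg.Agent.Lib.KnownA.Unipotent

/-!
A regular unipotent element and one transvection: generation over the prime field, and the
passage to the whole field.
-/

set_option autoImplicit false
set_option linter.unusedSimpArgs false

namespace CfsgLib.KnownA

open scoped Matrix

variable {F : Type*} [Field F] {n : ℕ}

/-- The `i`-th standard vector, zero when `i` is out of range. -/
def eN (F : Type*) [Field F] (n i : ℕ) : Fin n → F := fun j => if j.val = i then 1 else 0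

theorem eN_eq_single (i : Fin n) : eN F n i.val = Pi.single i 1 := by
  funext j; simp [eN, Pi.single_apply, Fin.ext_iff]

theorem eN_out {i : ℕ} (h : n ≤ i) : eN F n i = 0 := by
  funext j; have := j.2; simp [eN]; omega

theorem eN_dot (i : ℕ) (h : i < n) (x : Fin n → F) : eN F n i ⬝ᵥ x = x ⟨i, h⟩ := by
  rw [show eN F n i = Pi.single (⟨i, h⟩ : Fin n) 1 from eN_eq_single ⟨i, h⟩]; simp

theorem dot_eN (i : ℕ) (h : i < n) (x : Fin n → F) : x ⬝ᵥ eN F n i = x ⟨i, h⟩ := by
  rw [dotProduct_comm, eN_dot i h]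

theorem eN_dot_eN (i j : ℕ) (h : i < n) : eN F n i ⬝ᵥ eN F n j = if i = j then 1 else 0 := by
  rw [eN_dot i h]; simp [eN]

theorem eN_vecMul_shift (i : ℕ) : eN F n i ᵥ* shiftMat F n = eN F n (i + 1) := by
  rcases Nat.lt_or_ge i n with h | h
  · funext j
    rw [show eN F n i = Pi.single (⟨i, h⟩ : Fin n) 1 from eN_eq_single ⟨i, h⟩]
    simp [shiftMat, eN]
  · rw [eN_out h, Matrix.zero_vecMul, eN_out (by omega)]

theorem shift_mulVec_succ (i : ℕ) (h : i + 1 < n) : shiftMat F n *ᵥ eN F n (i + 1) = eN F n i := by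
  funext j
  rw [show eN F n (i + 1) = Pi.single (⟨i + 1, h⟩ : Fin n) 1 from eN_eq_single ⟨i + 1, h⟩]
  simp [shiftMat, eN, eq_comm]

theorem shift_mulVec_zero : shiftMat F n *ᵥ eN F n 0 = 0 := by
  rcases Nat.eq_zero_or_pos n with h | h
  · subst h; funext j; exact j.elim0
  funext j
  rw [show eN F n 0 = Pi.single (⟨0, h⟩ : Fin n) 1 from eN_eq_single ⟨0, h⟩]
  simp [shiftMat]

/-- The functional `e₀ + γ e₁`. -/
def phi (F : Type*) [Field F] (n : ℕ) (γ : F) : Fin n → F := eN F n 0 + γ • eN F n 1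

theorem phi_dot (γ : F) (hn : 2 ≤ n) (x : Fin n → F) :
    phi F n γ ⬝ᵥ x = x ⟨0, by omega⟩ + γ * x ⟨1, by omega⟩ := by
  rw [phi, add_dotProduct, smul_dotProduct, eN_dot 0 (by omega), eN_dot 1 (by omega), smul_eq_mul]

theorem InT.nsmul_left {G : Subgroup (Matrix.SpecialLinearGroup (Fin n) F)} {a φ : Fin n → F}
    (h : InT G a φ) (k : ℕ) : InT G ((k : F) • a) φ := by
  induction k with
  | zero =>
    refine ⟨by simp, 1, one_mem G, by simp⟩
  | succ k ih =>
    rw [Nat.cast_succ, add_smul, one_smul]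
    exact ih.add_left h

theorem InT.nsmul_right {G : Subgroup (Matrix.SpecialLinearGroup (Fin n) F)} {a φ : Fin n → F}
    (h : InT G a φ) (k : ℕ) : InT G a ((k : F) • φ) := by
  induction k with
  | zero => rw [Nat.cast_zero, zero_smul]; exact InT.zero_right a
  | succ k ih =>
    rw [Nat.cast_succ, add_smul, one_smul]
    exact ih.add_right h

section Prime

variable {p : ℕ} [Fact p.Prime] {G : Subgroup (Matrix.SpecialLinearGroup (Fin n) (ZMod p))}

local notation "𝕂" => ZMod p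

theorem InT.smul_left {a φ : Fin n → 𝕂} (h : InT G a φ) (c : 𝕂) : InT G (c • a) φ := by
  have := h.nsmul_left c.val
  rwa [ZMod.natCast_val, ZMod.cast_id', id] at this

theorem InT.smul_right {a φ : Fin n → 𝕂} (h : InT G a φ) (c : 𝕂) : InT G a (c • φ) := by
  have := h.nsmul_right c.val
  rwa [ZMod.natCast_val, ZMod.cast_id', id] at this

/-- All transvections with functional `χ` lie in `G`. -/
def TvFun (G : Subgroup (Matrix.SpecialLinearGroup (Fin n) (ZMod p))) (χ : Fin n → ZMod p) : Prop :=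
  ∀ x, χ ⬝ᵥ x = 0 → InT G x χ

theorem TvFun.smul {χ : Fin n → 𝕂} (h : TvFun G χ) (c : 𝕂) : TvFun G (c • χ) := by
  intro x hx
  rcases eq_or_ne c 0 with rfl | hc
  · rw [zero_smul]; exact InT.zero_right x
  rw [smul_dotProduct, smul_eq_mul, mul_eq_zero] at hx
  exact (h x (hx.resolve_left hc)).smul_right c

theorem TvFun.add {χ ψ : Fin n → 𝕂} (hχ : TvFun G χ) (hψ : TvFun G ψ) : TvFun G (χ + ψ) := by
  classical
  by_cases h : ψ ∈ Submodule.span 𝕂 {χ}
  · obtain ⟨c, rfl⟩ := Submodule.mem_span_singleton.1 h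
    have : χ + c • χ = (1 + c) • χ := by rw [add_smul, one_smul]
    rw [this]; exact hχ.smul _
  obtain ⟨f, hfψ, hfW⟩ := Submodule.exists_dual_map_eq_bot_of_notMem h inferInstance
  obtain ⟨b, rfl⟩ := (dotProductEquiv 𝕂 (Fin n)).surjective f
  have hbψ : b ⬝ᵥ ψ ≠ 0 := hfψ
  have hbχ : b ⬝ᵥ χ = 0 := by
    have : b ⬝ᵥ χ ∈ (Submodule.span 𝕂 {χ}).map (dotProductEquiv 𝕂 (Fin n) b) :=
      ⟨χ, Submodule.mem_span_singleton_self χ, rfl⟩
    rwa [hfW, Submodule.mem_bot] at this
  let b' : Fin n → 𝕂 := (b ⬝ᵥ ψ)⁻¹ • b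
  have h1 : χ ⬝ᵥ b' = 0 := by rw [dotProduct_comm, smul_dotProduct, hbχ, smul_zero]
  have h2 : ψ ⬝ᵥ b' = 1 := by rw [dotProduct_comm, smul_dotProduct, smul_eq_mul, inv_mul_cancel₀ hbψ]
  intro x hx
  obtain ⟨-, w, hw, hwe⟩ := hχ b' h1
  have hwx : (w : Matrix (Fin n) (Fin n) 𝕂) *ᵥ x = x + (χ ⬝ᵥ x) • b' := by
    rw [hwe, Matrix.add_mulVec, Matrix.one_mulVec, Matrix.vecMulVec_mulVec, op_smul_eq_smul]
  have h3 : ψ ⬝ᵥ ((w : Matrix (Fin n) (Fin n) 𝕂) *ᵥ x) = 0 := by
    rw [hwx, dotProduct_add, dotProduct_smul, h2, smul_eq_mul, mul_one, add_comm, ← add_dotProduct, hx]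
  refine ((hψ _ h3).conj' hw rfl).cast rfl ?_
  rw [hwe, Matrix.vecMul_add, Matrix.vecMul_one, Matrix.vecMul_vecMulVec, h2, one_smul, add_comm]

theorem TvFun.conj {χ : Fin n → 𝕂} (h : TvFun G χ) {w : Matrix.SpecialLinearGroup (Fin n) 𝕂}
    (hw : w ∈ G) : TvFun G (χ ᵥ* (w : Matrix (Fin n) (Fin n) 𝕂)) := by
  intro x hx
  rw [← Matrix.dotProduct_mulVec] at hx
  exact (h _ hx).conj' hw rfl

/-- Over the prime field, a regular unipotent element and one transvection generate. -/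
theorem eq_top_of_shift_tv (hn : 3 ≤ n) (γ : 𝕂) (hγ : γ = 0 ∨ (γ = -1 ∧ p ≠ 2 ∧ 4 ≤ n))
    (u : Matrix.SpecialLinearGroup (Fin n) 𝕂) (huval : (u : Matrix (Fin n) (Fin n) 𝕂) = 1 + shiftMat 𝕂 n)
    (hu : u ∈ G) (hy : InT G (eN 𝕂 n (n - 1)) (phi 𝕂 n γ)) : G = ⊤ := by
  classical
  let U := (u : Matrix (Fin n) (Fin n) 𝕂)
  have hU : ∀ x, U *ᵥ x = x + shiftMat 𝕂 n *ᵥ x := fun x => by
    show (u : Matrix (Fin n) (Fin n) 𝕂) *ᵥ x = _
    rw [huval, Matrix.add_mulVec, Matrix.one_mulVec]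
  have hUr : ∀ f, f ᵥ* U = f + f ᵥ* shiftMat 𝕂 n := fun f => by
    show f ᵥ* (u : Matrix (Fin n) (Fin n) 𝕂) = _
    rw [huval, Matrix.vecMul_add, Matrix.vecMul_one]
  set φ := phi 𝕂 n γ with hφ
  have hne : (1 : 𝕂) - γ ≠ 0 := by
    rcases hγ with rfl | ⟨rfl, hp, -⟩
    · simp
    · have h2 : ((2 : ℕ) : 𝕂) ≠ 0 := by
        rw [Ne, ZMod.natCast_eq_zero_iff]
        intro h
        exact hp ((Nat.prime_dvd_prime_iff_eq Fact.out Nat.prime_two).1 h)
      norm_num at h2 ⊢
      exact h2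
  -- the functional `φ u⁻¹`
  let ψ : Fin n → 𝕂 := fun j => if j.val = 0 then 1 else (-1) ^ j.val * (1 - γ)
  have hψ : ψ ᵥ* U = φ := by
    rw [hUr]
    funext j
    rw [Pi.add_apply]
    by_cases hj : j.val = 0
    · have : (ψ ᵥ* shiftMat 𝕂 n) j = 0 := by
        simp [Matrix.vecMul, dotProduct, shiftMat, hj]
      rw [this]
      simp only [ψ, φ, phi, eN, Pi.add_apply, Pi.smul_apply, if_pos hj]
      rw [if_neg (show ¬ j.val = 1 by omega)]
      simp
    · obtain ⟨i, hi⟩ : ∃ i, j.val = i + 1 := ⟨j.val - 1, by omega⟩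
      have : (ψ ᵥ* shiftMat 𝕂 n) j = ψ ⟨i, by omega⟩ := by
        simp only [Matrix.vecMul, dotProduct, shiftMat, Matrix.of_apply, mul_ite, mul_one, mul_zero]
        rw [Finset.sum_eq_single (⟨i, by omega⟩ : Fin n)
          (fun b _ hb => if_neg fun h => hb (Fin.ext (by show b.val = i; omega))) (by simp)]
        simp [hi]
      rw [this]
      rcases Nat.eq_zero_or_pos i with rfl | hi0
      · simp [ψ, φ, phi, eN, hi]
      · simp [ψ, φ, phi, eN, hi, hi0.ne', pow_succ]
  have hX : ∀ j, 2 ≤ j → j ≤ n - 1 → InT G (eN 𝕂 n j) φ := by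
    intro j h2 hj
    obtain ⟨d, hd⟩ : ∃ d, j + d = n - 1 := ⟨n - 1 - j, by omega⟩
    induction d generalizing j with
    | zero => rw [show j = n - 1 by omega]; exact hy
    | succ d ih =>
      have h1 := (ih (j + 1) (by omega) (by omega) (by omega)).conj hu (ψ := ψ) hψ
      have h1' : InT G (eN 𝕂 n (j + 1) + eN 𝕂 n j) ψ := h1.cast (by
        show U *ᵥ _ = _
        rw [hU, shift_mulVec_succ j (by omega)]) rfl
      have h3 := (h1'.comm hy (by
        rw [phi_dot γ (by omega)]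
        simp [eN, show ¬ (0 = j + 1) by omega, show ¬ (0 = j) by omega, show ¬ (1 = j + 1) by omega,
          show ¬ (1 = j) by omega, show ¬ (j = 0) by omega]))
      have hc : ψ ⬝ᵥ eN 𝕂 n (n - 1) ≠ 0 := by
        rw [dot_eN _ (by omega)]
        simp only [ψ]
        rw [if_neg (by omega)]
        exact mul_ne_zero (pow_ne_zero _ (by simp)) hne
      have h4 := h3.smul_right (ψ ⬝ᵥ eN 𝕂 n (n - 1))⁻¹
      rw [smul_smul, inv_mul_cancel₀ hc, one_smul] at h4
      exact (h4.sub_left (ih (j + 1) (by omega) (by omega) (by omega))).cast (by abel) rfl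
  -- one more centre
  let w₀ : Fin n → 𝕂 := -γ • eN 𝕂 n 0 + eN 𝕂 n 1
  have hw : InT G w₀ φ := by
    rcases hγ with h0 | ⟨h1, hp, hn4⟩
    · have hy2 := hX 2 le_rfl (by omega)
      have h1' : InT G (eN 𝕂 n 2 + eN 𝕂 n 1) ψ := (hy2.conj hu (ψ := ψ) hψ).cast (by
        show U *ᵥ _ = _
        rw [hU, shift_mulVec_succ 1 (by omega)]) rfl
      have h3 := (h1'.comm hy (by
        rw [phi_dot γ (by omega), h0]
        simp [eN]))
      have hc : ψ ⬝ᵥ eN 𝕂 n (n - 1) ≠ 0 := by
        rw [dot_eN _ (by omega)]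
        simp only [ψ]
        rw [if_neg (by omega)]
        exact mul_ne_zero (pow_ne_zero _ (by simp)) hne
      have h4 := h3.smul_right (ψ ⬝ᵥ eN 𝕂 n (n - 1))⁻¹
      rw [smul_smul, inv_mul_cancel₀ hc, one_smul] at h4
      exact (h4.sub_left hy2).cast (by simp [w₀, h0]) rfl
    · have hJ0 : shiftMat 𝕂 n *ᵥ eN 𝕂 n 0 = 0 := shift_mulVec_zero
      have hJ1 : shiftMat 𝕂 n *ᵥ eN 𝕂 n 1 = eN 𝕂 n 0 := shift_mulVec_succ 0 (by omega)
      have hJ2 : shiftMat 𝕂 n *ᵥ eN 𝕂 n 2 = eN 𝕂 n 1 := shift_mulVec_succ 1 (by omega)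
      have hJ3 : shiftMat 𝕂 n *ᵥ eN 𝕂 n 3 = eN 𝕂 n 2 := shift_mulVec_succ 2 (by omega)
      have hp1 : ∀ k x, (u ^ (k + 1) : Matrix.SpecialLinearGroup (Fin n) 𝕂).1 *ᵥ x =
          U *ᵥ ((u ^ k : Matrix.SpecialLinearGroup (Fin n) 𝕂).1 *ᵥ x) := by
        intro k x
        rw [pow_succ', Matrix.SpecialLinearGroup.coe_mul, Matrix.mulVec_mulVec]
      have hp0 : ∀ x, (u ^ 0 : Matrix.SpecialLinearGroup (Fin n) 𝕂).1 *ᵥ x = x := by
        intro x
        rw [pow_zero, Matrix.SpecialLinearGroup.coe_one, Matrix.one_mulVec]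
      have hstep : ∀ (k : ℕ) (b v : Fin n → 𝕂), (u ^ k : Matrix.SpecialLinearGroup (Fin n) 𝕂).1 *ᵥ v = b →
          (φ ᵥ* (u ^ k : Matrix.SpecialLinearGroup (Fin n) 𝕂)⁻¹.1) ⬝ᵥ b = φ ⬝ᵥ v := by
        intro k b v hb
        rw [← hb, ← Matrix.dotProduct_mulVec, Matrix.mulVec_mulVec,
          ← Matrix.SpecialLinearGroup.coe_mul, inv_mul_cancel, Matrix.SpecialLinearGroup.coe_one,
          Matrix.one_mulVec]
      have hconj : ∀ (k : ℕ) (x : Fin n → 𝕂), InT G x φ →
          InT G ((u ^ k : Matrix.SpecialLinearGroup (Fin n) 𝕂).1 *ᵥ x)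
            (φ ᵥ* (u ^ k : Matrix.SpecialLinearGroup (Fin n) 𝕂)⁻¹.1) := fun k x hh =>
        hh.conj (pow_mem hu k) (by
          rw [Matrix.vecMul_vecMul, ← Matrix.SpecialLinearGroup.coe_mul, inv_mul_cancel,
            Matrix.SpecialLinearGroup.coe_one, Matrix.vecMul_one])
      suffices ∃ (b χ : Fin n → 𝕂) (c d : 𝕂), InT G b χ ∧ φ ⬝ᵥ b = 0 ∧ c ≠ 0 ∧ d ≠ 0 ∧
          (χ ⬝ᵥ eN 𝕂 n 2 = c) ∧ ∃ r : Fin n → 𝕂, InT G r φ ∧ b = d • w₀ + r by
        obtain ⟨b, χ, c, d, hb, hφb, hc, hd, hχ, r, hr, hbr⟩ := this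
        obtain ⟨-, t, ht, hte⟩ := hb
        have h2 := (hX 2 le_rfl (by omega)).conj ht (ψ := φ) (by
          rw [hte, Matrix.vecMul_add, Matrix.vecMul_one, Matrix.vecMul_vecMulVec, hφb, zero_smul,
            add_zero])
        have h3 : InT G (c • b) φ := (h2.sub_left (hX 2 le_rfl (by omega))).cast (by
          rw [hte, Matrix.add_mulVec, Matrix.one_mulVec, Matrix.vecMulVec_mulVec, op_smul_eq_smul,
            add_sub_cancel_left, hχ]) rfl
        have h4 := (h3.smul_left c⁻¹).sub_left hr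
        rw [smul_smul, inv_mul_cancel₀ hc, one_smul, hbr, add_sub_cancel_right] at h4
        have h5 := h4.smul_left d⁻¹
        rwa [smul_smul, inv_mul_cancel₀ hd, one_smul] at h5
      have h20 : (2 : 𝕂) ≠ 0 := by
        intro h
        have h' : ((2 : ℕ) : 𝕂) = 0 := by exact_mod_cast h
        rw [ZMod.natCast_eq_zero_iff] at h'
        exact hp ((Nat.prime_dvd_prime_iff_eq Fact.out Nat.prime_two).1 h')
      have hphi : ∀ i, 2 ≤ i → φ ⬝ᵥ eN 𝕂 n i = 0 := fun i hi => by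
        rw [phi_dot γ (by omega)]
        simp [eN, show ¬ (0 = i) by omega, show ¬ (1 = i) by omega]
      have hphi0 : φ ⬝ᵥ eN 𝕂 n 0 = 1 := by
        rw [phi_dot γ (by omega)]; simp [eN]
      have hphi1 : φ ⬝ᵥ eN 𝕂 n 1 = -1 := by
        rw [phi_dot γ (by omega)]; simp [eN, h1]
      by_cases hp3 : p = 3
      · have h30 : (3 : 𝕂) = 0 := by
          have h' : ((3 : ℕ) : 𝕂) = 0 := by
            rw [ZMod.natCast_eq_zero_iff, hp3]
          exact_mod_cast h'
        have hb5 : (u ^ 5 : Matrix.SpecialLinearGroup (Fin n) 𝕂).1 *ᵥ eN 𝕂 n 3 =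
            (10 : 𝕂) • w₀ + (eN 𝕂 n 3 + (5 : 𝕂) • eN 𝕂 n 2) := by
          simp only [hp1, hp0, hU, Matrix.mulVec_add, hJ0, hJ1, hJ2, hJ3, Matrix.mulVec_zero, add_zero, w₀, h1]
          module
        have hv5 : (u ^ 5 : Matrix.SpecialLinearGroup (Fin n) 𝕂).1 *ᵥ
            (eN 𝕂 n 2 - (5 : 𝕂) • eN 𝕂 n 1 + (15 : 𝕂) • eN 𝕂 n 0) = eN 𝕂 n 2 := by
          simp only [hp1, hp0, hU, Matrix.mulVec_add, Matrix.mulVec_sub, Matrix.mulVec_smul, hJ0, hJ1,
            hJ2, Matrix.mulVec_zero, add_zero]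
          module
        refine ⟨_, _, _, 10, hconj 5 _ (hX 3 (by omega) (by omega)), ?_, ?_, ?_, rfl,
          eN 𝕂 n 3 + (5 : 𝕂) • eN 𝕂 n 2,
          (hX 3 (by omega) (by omega)).add_left ((hX 2 le_rfl (by omega)).smul_left 5), hb5⟩
        · rw [hb5]
          simp only [w₀, h1, dotProduct_add, dotProduct_smul, hphi0, hphi1, hphi 2 le_rfl,
            hphi 3 (by omega), smul_eq_mul]
          ring
        · rw [hstep 5 _ _ hv5]
          simp only [dotProduct_add, dotProduct_sub, dotProduct_smul, hphi0, hphi1, hphi 2 le_rfl,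
            smul_eq_mul]
          intro h
          exact h20 (by linear_combination h - 6 * h30)
        · intro h
          exact one_ne_zero (show (1 : 𝕂) = 0 by linear_combination h - 3 * h30)
      · have hb3 : (u ^ 3 : Matrix.SpecialLinearGroup (Fin n) 𝕂).1 *ᵥ eN 𝕂 n 2 =
            (3 : 𝕂) • w₀ + eN 𝕂 n 2 := by
          simp only [hp1, hp0, hU, Matrix.mulVec_add, hJ0, hJ1, hJ2, Matrix.mulVec_zero, add_zero, w₀, h1]
          module
        have hv3 : (u ^ 3 : Matrix.SpecialLinearGroup (Fin n) 𝕂).1 *ᵥ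
            (eN 𝕂 n 2 - (3 : 𝕂) • eN 𝕂 n 1 + (6 : 𝕂) • eN 𝕂 n 0) = eN 𝕂 n 2 := by
          simp only [hp1, hp0, hU, Matrix.mulVec_add, Matrix.mulVec_sub, Matrix.mulVec_smul, hJ0, hJ1,
            hJ2, Matrix.mulVec_zero, add_zero]
          module
        have h30 : (3 : 𝕂) ≠ 0 := by
          intro h
          have h' : ((3 : ℕ) : 𝕂) = 0 := by exact_mod_cast h
          rw [ZMod.natCast_eq_zero_iff] at h'
          exact hp3 ((Nat.prime_dvd_prime_iff_eq Fact.out Nat.prime_three).1 h')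
        refine ⟨_, _, _, 3, hconj 3 _ (hX 2 le_rfl (by omega)), ?_, ?_, h30, rfl,
          eN 𝕂 n 2, hX 2 le_rfl (by omega), hb3⟩
        · rw [hb3]
          simp only [w₀, h1, dotProduct_add, dotProduct_smul, hphi0, hphi1, hphi 2 le_rfl, smul_eq_mul]
          ring
        · rw [hstep 3 _ _ hv3]
          simp only [dotProduct_add, dotProduct_sub, dotProduct_smul, hphi0, hphi1, hphi 2 le_rfl,
            smul_eq_mul]
          intro h
          exact mul_ne_zero h30 h30 (by linear_combination h)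
  have hX1 : ∀ x, φ ⬝ᵥ x = 0 → InT G x φ := by
    intro x hx
    have hdec : x = ∑ j : Fin n, (if 2 ≤ j.val then x j • eN 𝕂 n j.val else if j.val = 1 then x j • w₀ else 0) := by
      funext i
      rw [Finset.sum_apply]
      rw [phi_dot γ (by omega)] at hx
      rcases (show i.val = 0 ∨ i.val = 1 ∨ 2 ≤ i.val by omega) with h | h | h
      · rw [Finset.sum_eq_single (⟨1, by omega⟩ : Fin n)]
        · simp [w₀, eN, h]
          rw [show i = ⟨0, by omega⟩ from Fin.ext h]
          linear_combination hx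
        · intro b _ hb
          have hb1 : b.val ≠ 1 := fun e => hb (Fin.ext e)
          split_ifs with h2 <;> simp [eN, h] <;> omega
        · simp
      · rw [Finset.sum_eq_single (⟨1, by omega⟩ : Fin n)]
        · simp [w₀, eN, h]
          congr 1; exact Fin.ext h
        · intro b _ hb
          have hb1 : b.val ≠ 1 := fun e => hb (Fin.ext e)
          split_ifs with h2 <;> simp [eN, h] <;> omega
        · simp
      · rw [Finset.sum_eq_single i]
        · simp [h, eN]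
        · intro b _ hb
          have hb1 : i.val ≠ b.val := fun e => hb (Fin.ext e.symm)
          split_ifs with h2 <;> simp [w₀, eN, hb1, show i.val ≠ 0 by omega, show i.val ≠ 1 by omega]
        · simp
    rw [hdec]
    refine Finset.sum_induction _ (fun y => InT G y φ) (fun a b => InT.add_left) ?_ (fun j _ => ?_)
    · have := hy.smul_left 0; rwa [zero_smul] at this
    · split_ifs with h1 h2
      · exact (hX j.val h1 (by have := j.2; omega)).smul_left _
      · exact hw.smul_left _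
      · have := hy.smul_left 0; rwa [zero_smul] at this
  have hshift : ∀ f, TvFun G f → TvFun G (f ᵥ* shiftMat 𝕂 n) := by
    intro f hf
    have h := (hf.conj hu).add (hf.smul (-1))
    have e : f ᵥ* (u : Matrix (Fin n) (Fin n) 𝕂) + (-1 : 𝕂) • f = f ᵥ* shiftMat 𝕂 n := by
      rw [show (u : Matrix (Fin n) (Fin n) 𝕂) = U from rfl, hUr]; module
    rwa [e] at h
  have hk : ∀ k, TvFun G (eN 𝕂 n k + γ • eN 𝕂 n (k + 1)) := by
    intro k
    induction k with
    | zero => exact hX1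
    | succ k ih =>
      have := hshift _ ih
      rwa [Matrix.add_vecMul, Matrix.smul_vecMul, eN_vecMul_shift, eN_vecMul_shift] at this
  have hall : ∀ k, TvFun G (eN 𝕂 n k) := by
    intro k
    obtain ⟨d, hd⟩ : ∃ d, n - k = d := ⟨_, rfl⟩
    induction d generalizing k with
    | zero =>
      intro x _
      rw [eN_out (by omega)]; exact InT.zero_right x
    | succ d ih =>
      have := (hk k).add ((ih (k + 1) (by omega)).smul (-γ))
      have e : eN 𝕂 n k + γ • eN 𝕂 n (k + 1) + -γ • eN 𝕂 n (k + 1) = eN 𝕂 n k := by module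
      rwa [e] at this
  refine CfsgLib.Classical.eq_top_of_transvection_mem G fun i j hij c => InE.mem hij ?_
  have h := hall j.val (Pi.single i 1) (by
    rw [eN_eq_single j]; simp [hij.symm])
  rw [eN_eq_single j] at h
  exact h.smul_right c

end Prime

section Field

variable {G : Subgroup (Matrix.SpecialLinearGroup (Fin n) F)}

/-- From a prime-field transvection and the shift: all integral elementary transvections. -/
theorem InE_one_of_shift_tv (hn : 3 ≤ n) (p : ℕ) [Fact p.Prime] [CharP F p] (γ : ZMod p)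
    (hγ : γ = 0 ∨ (γ = -1 ∧ p ≠ 2 ∧ 4 ≤ n))
    (u : Matrix.SpecialLinearGroup (Fin n) F) (huval : (u : Matrix (Fin n) (Fin n) F) = 1 + shiftMat F n)
    (hu : u ∈ G) (lam : ZMod p) (hlam : lam ≠ 0)
    (hy : InT G (eN F n (n - 1))
      (ZMod.castHom dvd_rfl F lam • phi F n (ZMod.castHom dvd_rfl F γ))) :
    ∀ i j : Fin n, i ≠ j → InE G i j 1 := by
  classical
  set ι := ZMod.castHom dvd_rfl F (n := p)
  let M := Matrix.SpecialLinearGroup.map (n := Fin n) ι
  have hMval : ∀ g, (M g).1 = g.1.map ι := fun g => rfl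
  have hdet : (1 + shiftMat (ZMod p) n).det = 1 := by
    rw [Matrix.det_of_isUpperTriangular]
    · exact Finset.prod_eq_one fun i _ => by simp [shiftMat]
    · intro i j (hij : j < i)
      have : (j : ℕ) < i := hij
      simp [shiftMat, hij.ne', Matrix.one_apply, show ¬ (j : ℕ) = i + 1 by omega]
  let u0 : Matrix.SpecialLinearGroup (Fin n) (ZMod p) := ⟨1 + shiftMat (ZMod p) n, hdet⟩
  have hu0 : M u0 = u := by
    refine Subtype.ext ?_
    rw [hMval, huval]
    show (1 + shiftMat (ZMod p) n).map ι = _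
    ext i j
    simp [shiftMat, Matrix.one_apply, apply_ite ι]
  obtain ⟨h0, g, hg, hge⟩ := hy
  let χ : Fin n → ZMod p := lam • phi (ZMod p) n γ
  have hχι : ∀ j, ι (χ j) = (ι lam • phi F n (ι γ)) j := by
    intro j
    simp [χ, phi, eN, apply_ite ι, mul_add]
  have hχ0 : χ ⬝ᵥ eN (ZMod p) n (n - 1) = 0 := by
    apply RingHom.injective ι
    rw [map_zero, dot_eN (n - 1) (by omega) χ, hχι]
    rw [dot_eN (n - 1) (by omega)] at h0
    exact h0
  have hyd : (1 + Matrix.vecMulVec (eN (ZMod p) n (n - 1)) χ).det = 1 := by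
    rw [Matrix.vecMulVec_eq Unit, Matrix.det_one_add_replicateCol_mul_replicateRow, hχ0, add_zero]
  let y0 : Matrix.SpecialLinearGroup (Fin n) (ZMod p) := ⟨_, hyd⟩
  have hy0 : M y0 = g := by
    refine Subtype.ext ?_
    rw [hMval, hge]
    show (1 + Matrix.vecMulVec (eN (ZMod p) n (n - 1)) χ).map ι = _
    ext i j
    rw [Matrix.map_apply, Matrix.add_apply, Matrix.add_apply, map_add, Matrix.vecMulVec_apply,
      Matrix.vecMulVec_apply, map_mul, hχι]
    simp [eN, Matrix.one_apply, apply_ite ι]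
  have hG0 : InT (G.comap M) (eN (ZMod p) n (n - 1)) χ :=
    ⟨hχ0, y0, by rw [Subgroup.mem_comap, hy0]; exact hg, rfl⟩
  have hG1 := hG0.smul_right lam⁻¹
  rw [smul_smul, inv_mul_cancel₀ hlam, one_smul] at hG1
  have htop := eq_top_of_shift_tv hn γ hγ u0 rfl (by rw [Subgroup.mem_comap, hu0]; exact hu) hG1
  intro i j hij
  have hmem : Matrix.SpecialLinearGroup.transvection hij (1 : ZMod p) ∈ G.comap M := htop ▸ Subgroup.mem_top _
  refine ⟨by rw [one_smul, single_dotProduct, one_mul, Pi.single_eq_of_ne (Ne.symm hij)], _, hmem, ?_⟩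
  rw [hMval, Matrix.SpecialLinearGroup.transvection_coe]
  ext a b
  simp only [Matrix.map_apply, Matrix.add_apply, Matrix.vecMulVec_apply, Matrix.single_apply,
    Matrix.one_apply, one_smul, Pi.single_apply, map_add, apply_ite ι, map_one, map_zero]
  by_cases ha : a = i
  · by_cases hb : b = j
    · subst ha; subst hb; simp
    · subst ha; simp [hb, Ne.symm hb]
  · simp [ha, Ne.symm ha]

/-- One more scalar on the corner gives everything. -/
theorem eq_top_of_corner [Finite F] (hn : 4 ≤ n) (h1 : ∀ i j : Fin n, i ≠ j → InE G i j 1)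
    (γ : F) (ω : Fˣ) (hω : ∀ x : Fˣ, x ∈ Submonoid.powers ω)
    (hc : InT G (eN F n (n - 1)) ((ω : F) • phi F n γ)) : G = ⊤ := by
  classical
  refine eq_top_of_InE (by omega) ω hω fun i j hij => ⟨h1 i j hij, ?_⟩
  let l : Fin n := ⟨n - 1, by omega⟩
  let z : Fin n := ⟨0, by omega⟩
  have hl : eN F n (n - 1) = Pi.single l 1 := eN_eq_single l
  rw [hl] at hc
  have hrow : ∀ k : Fin n, k ≠ z → k ≠ l → InE G l k (ω : F) := by
    intro k hkz hkl
    have h := hc.comm (h1 z k (Ne.symm hkz)).out (by simp [hkl])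
    refine h.cast rfl ?_
    have hz : phi F n γ z = 1 := by simp [phi, eN, z]
    simp [hz, smul_smul]
  obtain ⟨k, hk⟩ : ∃ k : Fin n, k ∉ ({z, l, j} : Finset (Fin n)) := by
    have h2 : ({z, l, j} : Finset (Fin n)).card < (Finset.univ : Finset (Fin n)).card :=
      lt_of_le_of_lt Finset.card_le_three (by simp; omega)
    obtain ⟨m, -, hm⟩ := Finset.exists_mem_notMem_of_card_lt_card h2
    exact ⟨m, hm⟩
  simp only [Finset.mem_insert, Finset.mem_singleton, not_or] at hk
  obtain ⟨hkz, hkl, hkj⟩ := hk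
  -- `(l, j)` with scalar `ω`
  have hlj : j ≠ l → InE G l j (ω : F) := by
    intro hjl
    have := (hrow k hkz hkl).comm (h1 k j hkj) (Ne.symm hjl)
    rwa [mul_one] at this
  by_cases hil : i = l
  · exact hil ▸ hlj (fun e => hij (hil.trans e.symm))
  by_cases hjl : j = l
  · -- `(i, l)`
    obtain ⟨m, hm⟩ : ∃ m : Fin n, m ∉ ({z, i, l} : Finset (Fin n)) := by
      have h2 : ({z, i, l} : Finset (Fin n)).card < (Finset.univ : Finset (Fin n)).card :=
        lt_of_le_of_lt Finset.card_le_three (by simp; omega)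
      obtain ⟨m, -, hm⟩ := Finset.exists_mem_notMem_of_card_lt_card h2
      exact ⟨m, hm⟩
    simp only [Finset.mem_insert, Finset.mem_singleton, not_or] at hm
    have h := (h1 i l hil).comm (hrow m hm.1 hm.2.2) (Ne.symm hm.2.1)
    rw [one_mul] at h
    have h' := h.comm (h1 m l hm.2.2) hil
    rw [mul_one] at h'
    exact hjl ▸ h'
  have := (h1 i l hil).comm (hlj hjl) hij
  rwa [one_mul] at this

end Field

end CfsgLib.KnownA
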