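import Cfsg.Agent.Lib.KnownA.GenPair

/-!
Odd characteristic: a regular unipotent element and a conjugate of it generating `SL_n`.
-/

set_option autoImplicit false
set_option linter.unusedSimpArgs false
set_option linter.unreachableTactic false
set_option linter.unusedTactic false

namespace CfsgLib.KnownA

open scoped Matrix

variable {F : Type*} [Field F] {n : ℕ}

theorem shift_mul_row (R : ℕ → Fin n → F) (hR : R n = 0) (k : Fin n) :
    (shiftMat F n * Matrix.of (fun a : Fin n => R a.val)) k = R (k.val + 1) := by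
  funext j
  rw [Matrix.mul_apply]
  rcases Nat.lt_or_ge (k.val + 1) n with h | h
  · rw [Finset.sum_eq_single (⟨k.val + 1, h⟩ : Fin n)]
    · simp [shiftMat]
    · intro b _ hb
      have : b.val ≠ k.val + 1 := fun e => hb (Fin.ext e)
      simp [shiftMat, this]
    · simp
  · rw [show k.val + 1 = n by have := k.2; omega, hR, Finset.sum_eq_zero]
    · rfl
    · intro b _
      have : b.val ≠ k.val + 1 := by have := b.2; omega
      simp [shiftMat, this]

/-- The intermediate rows. -/
def oddL (ω : F) (n k : ℕ) : Fin n → F :=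
  if k + 2 = n then -eN F n k - (2 : F) • eN F n (k - 2)
  else if k + 1 = n then -eN F n k - (2 : F) • eN F n (k - 2) - ω • eN F n 0
  else if k < n then
    eN F n k - (if 2 ≤ k then (2 : F) else 0) • eN F n (k - 2) + (if k + 3 = n then ω else 0) • eN F n 0
  else 0

/-- The centre of the first transvection part. -/
def oddZ (ω : F) (n j : ℕ) : F :=
  (if Odd j ∧ j < n then 2 ^ ((j + 1) / 2) else 0) - if j + 2 = n then ω else 0

theorem oddZ_diff (ω : F) {n i : ℕ} (hi : i + 3 ≤ n) :
    oddZ ω n i - oddZ ω n (i + 2) =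
      -(if Odd i then (2 : F) ^ ((i + 1) / 2) else 0) + if i + 4 = n then ω else 0 := by
  have h1 : ¬ i + 2 = n := by omega
  have h2 : Odd (i + 2) ↔ Odd i := by simp [Nat.odd_add, parity_simps]
  simp only [oddZ, h1, h2, if_false, show i < n by omega, show i + 2 < n by omega, and_true,
    show i + 2 + 2 = i + 4 by omega]
  by_cases hodd : Odd i
  · simp only [hodd, if_true, show (i + 2 + 1) / 2 = (i + 1) / 2 + 1 by omega, pow_succ]
    ring
  · simp only [hodd, if_false]; ring

theorem pair_odd [Finite F] (p : ℕ) [Fact p.Prime] [CharP F p] (hp : p ≠ 2) (hn : 4 ≤ n) (ω : F)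
    (hω5 : ω = 0 ∨ 5 ≤ n)
    (hω : (∀ c : F, ∃ k : ℕ, c = k) ∨
      ∃ w : Fˣ, (∀ x : Fˣ, x ∈ Submonoid.powers w) ∧ ω = w) :
    ∃ u g : Matrix.SpecialLinearGroup (Fin n) F,
      IsNilpotent ((u : Matrix (Fin n) (Fin n) F) - 1) ∧
      ((u : Matrix (Fin n) (Fin n) F) - 1) ^ (n - 1) ≠ 0 ∧
      Subgroup.closure ({u, g * u * g⁻¹} : Set (Matrix.SpecialLinearGroup (Fin n) F)) = ⊤ := by
  classical
  set ι := ZMod.castHom dvd_rfl F (n := p)
  let u : Matrix.SpecialLinearGroup (Fin n) F := ⟨1 + shiftMat F n, det_one_add_shift⟩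
  have hLdet : (Matrix.of fun a : Fin n => oddL ω n a.val).det = 1 := by
    rw [Matrix.det_of_isLowerTriangular]
    · let a : Fin n := ⟨n - 2, by omega⟩
      let b : Fin n := ⟨n - 1, by omega⟩
      have ha : oddL ω n a.val a = -1 := by
        simp [oddL, a, eN, show n - 2 + 2 = n by omega, show ¬ (n - 2 = n - 2 - 2) by omega]
      have hb : oddL ω n b.val b = -1 := by
        simp [oddL, b, eN, show ¬ (n - 1 + 2 = n) by omega, show n - 1 + 1 = n by omega,
          show ¬ (n - 1 = n - 1 - 2) by omega, show ¬ (n - 1 = 0) by omega]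
      rw [Finset.prod_eq_mul a b]
      · show oddL ω n a.val a * oddL ω n b.val b = 1
        rw [ha, hb]; ring
      · simp [a, b, Fin.ext_iff]; omega
      · rintro c - ⟨hca, hcb⟩
        have h1 : c.val + 2 ≠ n := fun h => hca (Fin.ext (by show c.val = n - 2; omega))
        have h2 : c.val + 1 ≠ n := fun h => hcb (Fin.ext (by show c.val = n - 1; omega))
        show oddL ω n c.val c = 1
        simp only [oddL, if_neg h1, if_neg h2, if_pos c.2, Pi.add_apply, Pi.sub_apply, Pi.smul_apply,
          eN, smul_eq_mul]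
        by_cases hc0 : c.val = 0
        · simp [hc0, show ¬ (3 = n) by omega]
        · simp [hc0]
          intro hc2
          omega
      · simp
      · simp
    · intro i j (hij : i < j)
      have h : (i : ℕ) < j := hij
      show oddL ω n i.val j = 0
      simp only [oddL]
      split_ifs <;> simp [eN, show ¬ (j : ℕ) = i by omega, show ¬ (j : ℕ) = i - 2 by omega,
        show ¬ (j : ℕ) = 0 by omega]
  let R : ℕ → Fin n → F := fun k => oddL ω n k ᵥ* (1 - shiftMat F n)
  have hE : ∀ k, eN F n k ᵥ* (1 - shiftMat F n) = fN F n k := fun k => by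
    rw [Matrix.vecMul_sub, Matrix.vecMul_one, eN_vecMul_shift, fN]
  have hR1 : ∀ k, k + 2 = n → R k = -fN F n k - (2 : F) • fN F n (k - 2) := by
    intro k hk
    simp only [R, oddL, if_pos hk, Matrix.sub_vecMul, Matrix.neg_vecMul, Matrix.smul_vecMul, hE]
  have hR2 : ∀ k, k + 1 = n → R k = -fN F n k - (2 : F) • fN F n (k - 2) - ω • fN F n 0 := by
    intro k hk
    simp only [R, oddL, if_neg (show ¬ k + 2 = n by omega), if_pos hk, Matrix.sub_vecMul,
      Matrix.neg_vecMul, Matrix.smul_vecMul, hE]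
  have hR0 : ∀ k, k + 3 ≤ n → R k = fN F n k - (if 2 ≤ k then (2 : F) else 0) • fN F n (k - 2) +
      (if k + 3 = n then ω else 0) • fN F n 0 := by
    intro k hk
    simp only [R, oddL, if_neg (show ¬ k + 2 = n by omega), if_neg (show ¬ k + 1 = n by omega),
      if_pos (show k < n by omega), Matrix.sub_vecMul, Matrix.add_vecMul, Matrix.smul_vecMul, hE]
  have hRn : R n = 0 := by
    simp [R, oddL]
  have hgdet : (Matrix.of fun a : Fin n => R a.val).det = 1 := by
    have : (Matrix.of fun a : Fin n => R a.val) =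
        (Matrix.of fun a : Fin n => oddL ω n a.val) * (1 - shiftMat F n) := by
      funext a; rfl
    rw [this, Matrix.det_mul, hLdet, det_one_sub_shift, one_mul]
  let g : Matrix.SpecialLinearGroup (Fin n) F := ⟨_, hgdet⟩
  let Z : ℕ → F := oddZ ω n
  have hZ : ∀ j, n ≤ j → Z j = 0 := fun j hj => by
    simp [Z, oddZ, show ¬ j < n by omega, show ¬ j + 2 = n by omega]
  let z : Fin n → F := fun j => Z j.val
  let κ : Fin n → F := ω • eN F n 1 - ω • eN F n 2 + (2 : F) • eN F n (n - 2) - (2 : F) • eN F n (n - 1)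
  have hφ : phi F n (ι (-1)) = fN F n 0 := by rw [map_neg, map_one, phi_neg_one]
  have hF0 : fN F n 0 ᵥ* nMat z κ (fN F n 0) = fN F n 1 + (if n = 4 then ω else 0) • fN F n 0 := by
    rw [fN_vecMul_nMat (by omega) Z hZ κ _ 0 (by omega), oddZ_diff ω (by omega),
      if_neg (show ¬ 0 + 3 = n by omega)]
    simp [show (4 = n) ↔ (n = 4) from ⟨Eq.symm, Eq.symm⟩]
  have hω4 : (if n = 4 then ω else 0) = 0 := by
    rcases hω5 with h | h
    · simp [h]
    · rw [if_neg]; omega
  rw [hω4, zero_smul, add_zero] at hF0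
  have hgN : g.1 * nMat z κ (fN F n 0) = shiftMat F n * g.1 := by
    refine funext fun k => ?_
    show R k.val ᵥ* nMat z κ (fN F n 0) = (shiftMat F n * Matrix.of (fun a : Fin n => R a.val)) k
    rw [shift_mul_row R hRn]
    have hk := k.2
    generalize k.val = i at hk ⊢
    have hrow : ∀ j, j + 1 < n → fN F n j ᵥ* nMat z κ (fN F n 0) =
        fN F n (j + 1) + (Z j - Z (j + 2)) • fN F n 0 - (if j + 3 = n then (1 : F) else 0) • κ :=
      fun j hj => fN_vecMul_nMat (by omega) Z hZ κ _ j hj
    have hlast : ∀ j, j + 1 = n → fN F n j ᵥ* nMat z κ (fN F n 0) = Z j • fN F n 0 + κ := by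
      intro j hj
      rw [fN, eN_out (show n ≤ j + 1 by omega), sub_zero,
        eN_vecMul_nMat (by omega) Z hZ κ _ j (by omega), eN_out (show n ≤ j + 1 by omega),
        hZ (j + 1) (by omega), if_pos (Or.inr hj)]
      module
    rcases (show i + 4 ≤ n ∨ i + 3 = n ∨ i + 2 = n ∨ i + 1 = n by omega) with h | h | h | h
    · rw [hR0 i (by omega), hR0 (i + 1) (by omega), if_neg (show ¬ i + 3 = n by omega), zero_smul,
        add_zero, Matrix.sub_vecMul, Matrix.smul_vecMul, hrow i (by omega),
        oddZ_diff ω (by omega), if_neg (show ¬ i + 3 = n by omega)]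
      rcases (show i = 0 ∨ i = 1 ∨ 2 ≤ i by omega) with rfl | rfl | h2
      · simp only [if_neg (show ¬ 2 ≤ 0 by omega), if_neg (show ¬ 2 ≤ 0 + 1 by omega),
          if_neg (show ¬ Odd 0 by simp), show (0 + 1 + 3 = n) ↔ (0 + 4 = n) from Iff.rfl]
        split_ifs with h4
        · rcases hω5 with rfl | h5
          · module
          · omega
        · module
      · simp only [if_neg (show ¬ 2 ≤ 1 by omega), if_pos (show 2 ≤ 1 + 1 by omega),
          if_pos (show Odd 1 from odd_one), show (1 + 1 + 3 = n) ↔ (1 + 4 = n) from Iff.rfl,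
          show (1 + 1) / 2 = 1 from rfl, pow_one, show 1 + 1 - 2 = 0 from rfl]
        module
      · obtain ⟨j, rfl⟩ : ∃ j, i = j + 2 := ⟨i - 2, by omega⟩
        rw [if_pos (show 2 ≤ j + 2 by omega), if_pos (show 2 ≤ j + 2 + 1 by omega),
          show j + 2 - 2 = j by omega, show j + 2 + 1 - 2 = j + 1 by omega, hrow j (by omega),
          oddZ_diff ω (by omega), if_neg (show ¬ j + 3 = n by omega),
          if_neg (show ¬ j + 4 = n by omega)]
        have hpar : Odd (j + 2) ↔ Odd j := by simp [Nat.odd_add, parity_simps]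
        simp only [hpar, show (j + 2 + 1) / 2 = (j + 1) / 2 + 1 by omega, pow_succ,
          show j + 2 + 1 + 3 = j + 2 + 4 by omega]
        split_ifs <;> module
    · rw [hR0 i (by omega), hR1 (i + 1) (by omega), if_pos h, Matrix.add_vecMul, Matrix.sub_vecMul,
        Matrix.smul_vecMul, Matrix.smul_vecMul, hrow i (by omega), hF0, oddZ_diff ω (by omega),
        if_pos h, if_neg (show ¬ i + 4 = n by omega)]
      have hκ : κ = ω • eN F n 1 - ω • eN F n 2 + (2 : F) • eN F n (i + 1) - (2 : F) • eN F n (i + 2) := by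
        simp only [κ, show n - 2 = i + 1 by omega, show n - 1 = i + 2 by omega]
      rcases (show i = 1 ∨ 2 ≤ i by omega) with rfl | h2
      · rw [if_neg (show ¬ 2 ≤ 1 by omega), hκ]
        simp only [if_pos odd_one, show (1 + 1) / 2 = 1 from rfl, pow_one, fN,
          show 1 + 1 - 2 = 0 from rfl]
        module
      · obtain ⟨j, rfl⟩ : ∃ j, i = j + 2 := ⟨i - 2, by omega⟩
        rw [if_pos (show 2 ≤ j + 2 by omega), show j + 2 - 2 = j by omega,
          show j + 2 + 1 - 2 = j + 1 by omega, hrow j (by omega),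
          oddZ_diff ω (by omega), if_neg (show ¬ j + 3 = n by omega),
          if_neg (show ¬ j + 4 = n by omega), hκ]
        have hpar : Odd (j + 2) ↔ Odd j := by simp [Nat.odd_add, parity_simps]
        simp only [hpar, show (j + 2 + 1) / 2 = (j + 1) / 2 + 1 by omega, pow_succ, fN]
        split_ifs <;> module
    · obtain ⟨j, rfl⟩ : ∃ j, i = j + 2 := ⟨i - 2, by omega⟩
      rw [hR1 (j + 2) h, hR2 (j + 2 + 1) (by omega), Matrix.sub_vecMul, Matrix.neg_vecMul,
        Matrix.smul_vecMul, show j + 2 - 2 = j by omega, show j + 2 + 1 - 2 = j + 1 by omega,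
        hrow (j + 2) (by omega), hrow j (by omega),
        show Z j - Z (j + 2) = _ from oddZ_diff ω (i := j) (by omega),
        if_neg (show ¬ j + 2 + 3 = n by omega), if_neg (show ¬ j + 3 = n by omega),
        if_pos (show j + 4 = n by omega), hZ (j + 2 + 2) (by omega)]
      simp only [Z, oddZ, if_pos h, show j + 2 < n by omega, and_true,
        show (j + 2 + 1) / 2 = (j + 1) / 2 + 1 by omega, pow_succ]
      have hpar : Odd (j + 2) ↔ Odd j := by simp [Nat.odd_add, parity_simps]
      simp only [hpar]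
      split_ifs <;> module
    · obtain ⟨j, rfl⟩ : ∃ j, i = j + 2 := ⟨i - 2, by omega⟩
      rw [hR2 (j + 2) h, show j + 2 + 1 = n by omega, hRn, Matrix.sub_vecMul, Matrix.sub_vecMul,
        Matrix.neg_vecMul, Matrix.smul_vecMul, Matrix.smul_vecMul, show j + 2 - 2 = j by omega,
        hlast (j + 2) h, hrow j (by omega), hF0, oddZ_diff ω (by omega),
        if_pos (show j + 3 = n by omega), if_neg (show ¬ j + 4 = n by omega)]
      have hpar : Odd (j + 2) ↔ Odd j := by simp [Nat.odd_add, parity_simps]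
      simp only [Z, oddZ, if_neg (show ¬ j + 2 + 2 = n by omega), show j + 2 < n by omega, and_true,
        hpar, show (j + 2 + 1) / 2 = (j + 1) / 2 + 1 by omega, pow_succ, κ,
        show n - 2 = j + 1 by omega, show n - 1 = j + 2 by omega, fN]
      split_ifs <;> module
  have h2 : (2 : ZMod p) ≠ 0 := by
    intro h
    have h' : ((2 : ℕ) : ZMod p) = 0 := by exact_mod_cast h
    rw [ZMod.natCast_eq_zero_iff] at h'
    exact hp ((Nat.prime_dvd_prime_iff_eq Fact.out Nat.prime_two).1 h')
  have hz : ∀ i (h : i < n), eN F n i ⬝ᵥ z = Z i := fun i h => eN_dot i h z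
  have hz0 : Z 0 = 0 := by simp [Z, oddZ, show ¬ 2 = n by omega]
  have hz1 : Z 1 = 2 := by simp [Z, oddZ, show ¬ 3 = n by omega, show 1 < n by omega]
  have hφz : phi F n (ι (-1)) ⬝ᵥ z = -2 := by
    rw [hφ, fN, sub_dotProduct, hz 0 (by omega), hz (0 + 1) (by omega), hz0, hz1]; ring
  have hκl : κ ⬝ᵥ eN F n (n - 1) = -2 := by
    simp only [κ, sub_dotProduct, add_dotProduct, smul_dotProduct, eN_dot_eN (F := F) (n := n) 1 (n - 1) (by omega),
      eN_dot_eN (F := F) (n := n) 2 (n - 1) (by omega), eN_dot_eN (F := F) (n := n) (n - 2) (n - 1) (by omega),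
      eN_dot_eN (F := F) (n := n) (n - 1) (n - 1) (by omega), smul_eq_mul]
    simp [show ¬ 1 = n - 1 by omega, show ¬ 2 = n - 1 by omega, show ¬ n - 2 = n - 1 by omega]
  let B : ℕ → ZMod p := fun j => if Odd j then 2 ^ ((j + 1) / 2) else 0
  have hZB : ∀ j, j < n → Z j = ι (B j) - if j + 2 = n then ω else 0 := by
    intro j hj
    simp only [Z, oddZ, B, hj, and_true, apply_ite ι, map_pow, map_ofNat, map_zero]
  have hκz : κ ⬝ᵥ z = ι (2 * (B (n - 2) - B (n - 1))) := by
    have e1 : eN F n 1 ⬝ᵥ z = 2 := (hz 1 (by omega)).trans hz1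
    have e2 := (hz 2 (by omega)).trans (hZB 2 (by omega))
    have e3 := (hz (n - 2) (by omega)).trans (hZB (n - 2) (by omega))
    have e4 := (hz (n - 1) (by omega)).trans (hZB (n - 1) (by omega))
    simp only [κ, sub_dotProduct, add_dotProduct, smul_dotProduct, smul_eq_mul, e1, e2, e3, e4,
      map_mul, map_sub, map_ofNat]
    have hB2 : B 2 = 0 := by simp [B]
    rw [hB2, map_zero, if_pos (show n - 2 + 2 = n by omega), if_neg (show ¬ n - 1 + 2 = n by omega)]
    rcases hω5 with rfl | h5
    · simp; ring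
    · rw [if_neg (show ¬ 2 + 2 = n by omega)]; ring
  have hlam : 2 * (B (n - 2) - B (n - 1)) ≠ 0 := by
    refine mul_ne_zero h2 ?_
    rcases Nat.even_or_odd (n - 1) with he | ho
    · have ho : Odd (n - 2) := by
        obtain ⟨m, hm⟩ := he
        exact ⟨m - 1, by omega⟩
      simp only [B, if_pos ho, if_neg (Nat.not_odd_iff_even.2 he), sub_zero]
      exact pow_ne_zero _ h2
    · have he : ¬ Odd (n - 2) := by
        obtain ⟨m, hm⟩ := ho
        exact Nat.not_odd_iff_even.2 ⟨m, by omega⟩
      simp only [B, if_pos ho, if_neg he, zero_sub, neg_ne_zero]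
      exact pow_ne_zero _ h2
  have htop := closure_top_of_data p hn (-1) (Or.inr ⟨rfl, hp⟩) z κ _ (B (n - 2)) hlam hφz hκl hκz
    (hω.imp id fun ⟨w, hw, he⟩ => ⟨w, hw, by
      show Z (n - 2) = _
      rw [hZB (n - 2) (by omega), if_pos (show n - 2 + 2 = n by omega), he]⟩) g u rfl (by rw [hφ]; exact hgN)
  refine ⟨u, g⁻¹, ?_, ?_, by rw [inv_inv]; exact htop⟩
  · show IsNilpotent (1 + shiftMat F n - 1)
    rw [add_sub_cancel_left]; exact shiftMat_nilpotent'
  · show (1 + shiftMat F n - 1) ^ (n - 1) ≠ 0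
    rw [add_sub_cancel_left]; exact shiftMat_pow_pred_ne_zero (by omega)

end CfsgLib.KnownA
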