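import Cfsg.Agent.Lib.KnownA.GenBase

/-!
Two regular unipotent elements whose quotient squares to a transvection.
-/

set_option autoImplicit false
set_option linter.unusedSimpArgs false

namespace CfsgLib.KnownA

open scoped Matrix

variable {F : Type*} [Field F] {n : ℕ}

/-- The functional `eᵢ - eᵢ₊₁`. -/
def fN (F : Type*) [Field F] (n i : ℕ) : Fin n → F := eN F n i - eN F n (i + 1)

theorem phi_neg_one : phi F n (-1 : F) = fN F n 0 := by
  simp [phi, fN, sub_eq_add_neg]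

theorem phi_zero : phi F n (0 : F) = eN F n 0 := by
  simp [phi]

theorem det_one_add_shift : (1 + shiftMat F n).det = 1 := by
  rw [Matrix.det_of_isUpperTriangular]
  · exact Finset.prod_eq_one fun i _ => by simp [shiftMat]
  · intro i j (hij : j < i)
    have : (j : ℕ) < i := hij
    simp [shiftMat, hij.ne', Matrix.one_apply, show ¬ (j : ℕ) = i + 1 by omega]

theorem det_one_sub_shift : (1 - shiftMat F n).det = 1 := by
  rw [Matrix.det_of_isUpperTriangular]
  · exact Finset.prod_eq_one fun i _ => by simp [shiftMat]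
  · intro i j (hij : j < i)
    have : (j : ℕ) < i := hij
    simp [shiftMat, hij.ne', Matrix.one_apply, show ¬ (j : ℕ) = i + 1 by omega]

theorem shiftMat_nilpotent' : IsNilpotent (shiftMat F n) :=
  ⟨n, by
    ext i j
    rw [shiftMat_pow, Matrix.of_apply, if_neg (by have := j.2; omega), Matrix.zero_apply]⟩

theorem shiftMat_pow_pred_ne_zero (hn : 0 < n) : shiftMat F n ^ (n - 1) ≠ 0 := by
  intro h0
  have := congrFun (congrFun h0 ⟨0, hn⟩) ⟨n - 1, by omega⟩
  rw [shiftMat_pow] at this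
  simp at this

/-- A conjugate of the regular unipotent element is regular unipotent. -/
theorem regular_of_conj (hn : 0 < n) (g : Matrix.SpecialLinearGroup (Fin n) F)
    (u : Matrix.SpecialLinearGroup (Fin n) F)
    (huval : (u : Matrix (Fin n) (Fin n) F) = 1 + shiftMat F n) :
    IsNilpotent (((g⁻¹ * u * g : Matrix.SpecialLinearGroup (Fin n) F) : Matrix (Fin n) (Fin n) F) - 1) ∧
      (((g⁻¹ * u * g : Matrix.SpecialLinearGroup (Fin n) F) : Matrix (Fin n) (Fin n) F) - 1) ^ (n - 1) ≠ 0 := by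
  have h1 : (g⁻¹).1 * g.1 = (1 : Matrix (Fin n) (Fin n) F) := by
    rw [← Matrix.SpecialLinearGroup.coe_mul, inv_mul_cancel, Matrix.SpecialLinearGroup.coe_one]
  have h2 : g.1 * (g⁻¹).1 = (1 : Matrix (Fin n) (Fin n) F) := by
    rw [← Matrix.SpecialLinearGroup.coe_mul, mul_inv_cancel, Matrix.SpecialLinearGroup.coe_one]
  have he : ((g⁻¹ * u * g : Matrix.SpecialLinearGroup (Fin n) F) : Matrix (Fin n) (Fin n) F) - 1 =
      (g⁻¹).1 * shiftMat F n * g.1 := by
    rw [Matrix.SpecialLinearGroup.coe_mul, Matrix.SpecialLinearGroup.coe_mul, huval, mul_add, mul_one,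
      add_mul, h1, add_sub_cancel_left]
  have hp : ∀ k, ((g⁻¹).1 * shiftMat F n * g.1) ^ k = (g⁻¹).1 * shiftMat F n ^ k * g.1 := by
    intro k
    induction k with
    | zero => rw [pow_zero, pow_zero, mul_one, h1]
    | succ k ih =>
      rw [pow_succ, ih, pow_succ]
      calc (g⁻¹).1 * shiftMat F n ^ k * g.1 * ((g⁻¹).1 * shiftMat F n * g.1)
          = (g⁻¹).1 * shiftMat F n ^ k * (g.1 * (g⁻¹).1) * shiftMat F n * g.1 := by
            simp only [mul_assoc]
        _ = _ := by rw [h2, mul_one, mul_assoc _ (shiftMat F n ^ k)]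
  rw [he]
  refine ⟨?_, fun h => ?_⟩
  · obtain ⟨m, hm⟩ := shiftMat_nilpotent' (F := F) (n := n)
    exact ⟨m, by rw [hp, hm, mul_zero, zero_mul]⟩
  · apply shiftMat_pow_pred_ne_zero (F := F) hn
    rw [hp] at h
    calc shiftMat F n ^ (n - 1) = (g.1 * (g⁻¹).1) * shiftMat F n ^ (n - 1) * (g.1 * (g⁻¹).1) := by
          rw [h2, one_mul, mul_one]
      _ = g.1 * ((g⁻¹).1 * shiftMat F n ^ (n - 1) * g.1) * (g⁻¹).1 := by simp only [mul_assoc]
      _ = 0 := by rw [h, mul_zero, zero_mul]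

/-- The nilpotent matrix attached to the data. -/
def nMat (z κ φ : Fin n → F) : Matrix (Fin n) (Fin n) F :=
  shiftMat F n + Matrix.vecMulVec (z + shiftMat F n *ᵥ z) φ +
    Matrix.vecMulVec (eN F n (n - 1) + shiftMat F n *ᵥ eN F n (n - 1)) κ

theorem eN_vecMul_nMat (hn : 2 ≤ n) (Z : ℕ → F) (hZ : ∀ j, n ≤ j → Z j = 0) (κ φ : Fin n → F) (i : ℕ)
    (hi : i < n) :
    eN F n i ᵥ* nMat (fun j => Z j.val) κ φ = eN F n (i + 1) + (Z i + Z (i + 1)) • φ +
      (if i + 2 = n ∨ i + 1 = n then (1 : F) else 0) • κ := by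
  rw [nMat, Matrix.vecMul_add, Matrix.vecMul_add, eN_vecMul_shift, Matrix.vecMul_vecMulVec,
    Matrix.vecMul_vecMulVec]
  congr 2
  · congr 1
    rw [eN_dot i hi, Pi.add_apply]
    congr 1
    show (fun j => shiftMat F n ⟨i, hi⟩ j) ⬝ᵥ (fun j => Z j.val) = Z (i + 1)
    rcases Nat.lt_or_ge (i + 1) n with h | h
    · rw [show (fun j => shiftMat F n ⟨i, hi⟩ j) = eN F n (i + 1) from by funext j; simp [shiftMat, eN],
        eN_dot _ h]
    · rw [show (fun j => shiftMat F n ⟨i, hi⟩ j) = eN F n (i + 1) from by funext j; simp [shiftMat, eN],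
        eN_out h, zero_dotProduct, hZ _ h]
  ·
    obtain ⟨m, hm⟩ : ∃ m, n = m + 2 := ⟨n - 2, by omega⟩
    rw [eN_dot i hi, show n - 1 = m + 1 by omega, shift_mulVec_succ m (by omega)]
    simp only [Pi.add_apply, eN]
    split_ifs <;> first | omega | simp

theorem fN_vecMul_nMat (hn : 2 ≤ n) (Z : ℕ → F) (hZ : ∀ j, n ≤ j → Z j = 0) (κ φ : Fin n → F) (i : ℕ)
    (hi : i + 1 < n) :
    fN F n i ᵥ* nMat (fun j => Z j.val) κ φ = fN F n (i + 1) + (Z i - Z (i + 2)) • φ -
      (if i + 3 = n then (1 : F) else 0) • κ := by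
  rw [fN, Matrix.sub_vecMul, eN_vecMul_nMat hn Z hZ κ φ i (by omega),
    eN_vecMul_nMat hn Z hZ κ φ (i + 1) hi, fN]
  split_ifs <;> first | omega | module

/-- The consequences for the group generated by the two unipotent elements. -/
theorem pair_of_data (z κ φ : Fin n → F) (hφz : φ ⬝ᵥ z = -2) (hφl : φ ⬝ᵥ eN F n (n - 1) = 0)
    (hκl : κ ⬝ᵥ eN F n (n - 1) = -2) (v u : Matrix.SpecialLinearGroup (Fin n) F)
    (huval : (u : Matrix (Fin n) (Fin n) F) = 1 + shiftMat F n)
    (hvval : (v : Matrix (Fin n) (Fin n) F) = 1 + nMat z κ φ) (G : Subgroup (Matrix.SpecialLinearGroup (Fin n) F))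
    (hu : u ∈ G) (hv : v ∈ G) :
    InT G (eN F n (n - 1)) ((κ ⬝ᵥ z) • φ) ∧
      ∀ f, f ⬝ᵥ eN F n (n - 1) = 0 → InT G (eN F n (n - 1)) f →
        InT G (eN F n (n - 1)) (f + (f ⬝ᵥ z) • φ) := by
  set el := eN F n (n - 1) with hel
  let D0 : Matrix (Fin n) (Fin n) F := 1 + Matrix.vecMulVec z φ + Matrix.vecMulVec el κ
  have huD : u.1 * D0 = 1 + nMat z κ φ := by
    rw [huval, nMat]
    simp only [D0, mul_add, add_mul, mul_one, one_mul, Matrix.mul_vecMulVec, Matrix.add_vecMulVec]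
    abel
  let D : Matrix.SpecialLinearGroup (Fin n) F := u⁻¹ * v
  have hD : D ∈ G := mul_mem (inv_mem hu) hv
  have hDval : D.1 = D0 := by
    rw [show D = u⁻¹ * v from rfl, Matrix.SpecialLinearGroup.coe_mul, hvval, ← huD,
      ← mul_assoc, ← Matrix.SpecialLinearGroup.coe_mul, inv_mul_cancel,
      Matrix.SpecialLinearGroup.coe_one, one_mul]
  refine ⟨⟨by rw [smul_dotProduct, hφl, smul_zero], D * D, mul_mem hD hD, ?_⟩, fun f hf hInT => ?_⟩
  · rw [Matrix.SpecialLinearGroup.coe_mul, hDval]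
    simp only [D0, mul_add, add_mul, mul_one, one_mul, Matrix.vecMulVec_mul_vecMulVec, hφz, hφl, hκl,
      zero_smul, Matrix.vecMulVec_zero, Matrix.vecMulVec_smul, add_zero]
    module
  · have hDe : D.1 *ᵥ (-el) = el := by
      rw [hDval]
      simp only [D0, Matrix.add_mulVec, Matrix.one_mulVec, Matrix.vecMulVec_mulVec, op_smul_eq_smul,
        dotProduct_neg, hφl, hκl]
      module
    have h := (hInT.conj' hD hDe).neg_left
    rw [neg_neg] at h
    refine h.cast rfl ?_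
    rw [hDval]
    simp only [D0, Matrix.vecMul_add, Matrix.vecMul_one, Matrix.vecMul_vecMulVec, hf]
    module

/-- The data give a generating pair. -/
theorem closure_top_of_val [Finite F] (p : ℕ) [Fact p.Prime] [CharP F p] (hn : 4 ≤ n)
    (γ : ZMod p) (hγ : γ = 0 ∨ (γ = -1 ∧ p ≠ 2))
    (z κ : Fin n → F) (lam m : ZMod p) (hlam : lam ≠ 0)
    (hφz : phi F n (ZMod.castHom dvd_rfl F γ) ⬝ᵥ z = -2)
    (hκl : κ ⬝ᵥ eN F n (n - 1) = -2) (hκz : κ ⬝ᵥ z = ZMod.castHom dvd_rfl F lam)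
    (hω : (∀ c : F, ∃ k : ℕ, c = k) ∨
      ∃ ω : Fˣ, (∀ x : Fˣ, x ∈ Submonoid.powers ω) ∧
        z ⟨n - 2, by omega⟩ = ZMod.castHom dvd_rfl F m - ω)
    (v u : Matrix.SpecialLinearGroup (Fin n) F)
    (huval : (u : Matrix (Fin n) (Fin n) F) = 1 + shiftMat F n)
    (hvval : (v : Matrix (Fin n) (Fin n) F) = 1 + nMat z κ (phi F n (ZMod.castHom dvd_rfl F γ))) :
    Subgroup.closure ({u, v} : Set (Matrix.SpecialLinearGroup (Fin n) F)) = ⊤ := by
  classical
  set ι := ZMod.castHom dvd_rfl F (n := p)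
  set φ := phi F n (ι γ) with hφ
  set G := Subgroup.closure ({u, v} : Set (Matrix.SpecialLinearGroup (Fin n) F))
  have hu : u ∈ G := Subgroup.subset_closure (by simp)
  have hv : v ∈ G := Subgroup.subset_closure (by simp)
  have hφl : φ ⬝ᵥ eN F n (n - 1) = 0 := by
    rw [hφ, phi_dot _ (by omega)]
    simp [eN, show ¬ (0 = n - 1) by omega, show ¬ (1 = n - 1) by omega]
  obtain ⟨hy, hexp⟩ := pair_of_data z κ φ hφz hφl hκl v u huval hvval G hu hv
  rw [hκz] at hy
  have h1 := InE_one_of_shift_tv (by omega) p γ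
    (hγ.imp id fun h => ⟨h.1, h.2, hn⟩) u huval hu lam hlam hy
  rcases hω with hprime | ⟨ω, hω, hz⟩
  · refine CfsgLib.Classical.eq_top_of_transvection_mem G fun i j hij c => InE.mem hij ?_
    obtain ⟨k, rfl⟩ := hprime c
    exact (h1 i j hij).out.nsmul_right k
  let l : Fin n := ⟨n - 1, by omega⟩
  let a : Fin n := ⟨n - 2, by omega⟩
  have hla : l ≠ a := by simp [l, a, Fin.ext_iff]; omega
  have hel : eN F n (n - 1) = Pi.single l 1 := eN_eq_single l
  have hA : InT G (eN F n (n - 1)) (eN F n (n - 2)) := by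
    rw [hel, show eN F n (n - 2) = Pi.single a 1 from eN_eq_single a]
    exact (h1 l a hla).out
  have hφnat : ∀ k : ℕ, InT G (eN F n (n - 1)) ((k : F) • φ) := by
    intro k
    refine InT.nsmul_right ?_ k
    have h0 : InT G (eN F n (n - 1)) (eN F n 0) := by
      rw [hel, show eN F n 0 = Pi.single (⟨0, by omega⟩ : Fin n) 1 from eN_eq_single ⟨0, by omega⟩]
      exact (h1 l _ (by simp [l, Fin.ext_iff]; omega)).out
    rcases hγ with rfl | ⟨rfl, -⟩
    · rw [hφ, map_zero, phi_zero]; exact h0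
    · rw [hφ, map_neg, map_one, phi_neg_one, fN]
      refine h0.sub_right ?_
      rw [hel, show eN F n (0 + 1) = Pi.single (⟨1, by omega⟩ : Fin n) 1 from eN_eq_single ⟨1, by omega⟩]
      exact (h1 l _ (by simp [l, Fin.ext_iff]; omega)).out
  have h2 := (hexp _ (by rw [eN_dot_eN _ _ (by omega), if_neg (by omega)]) hA).sub_right hA
  rw [add_sub_cancel_left, eN_dot _ (by omega), hz] at h2
  have h3 := (hφnat m.val).sub_right h2
  refine eq_top_of_corner hn h1 (ι γ) ω hω (h3.cast rfl ?_)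
  have hm : ((m.val : ℕ) : F) = ι m := by
    rw [← map_natCast ι, ZMod.natCast_val, ZMod.cast_id', id]
  rw [hm]
  module

/-- A conjugate given by a matrix intertwining the two nilpotent matrices. -/
theorem conj_val (N : Matrix (Fin n) (Fin n) F) (g u : Matrix.SpecialLinearGroup (Fin n) F)
    (huval : (u : Matrix (Fin n) (Fin n) F) = 1 + shiftMat F n)
    (hgN : g.1 * N = shiftMat F n * g.1) :
    ((g⁻¹ * u * g : Matrix.SpecialLinearGroup (Fin n) F) : Matrix (Fin n) (Fin n) F) = 1 + N := by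
  rw [mul_assoc, Matrix.SpecialLinearGroup.coe_mul, Matrix.SpecialLinearGroup.coe_mul, huval,
    add_mul, one_mul, ← hgN, ← mul_one g.1, mul_assoc, one_mul, ← mul_add, ← mul_assoc,
    ← Matrix.SpecialLinearGroup.coe_mul, inv_mul_cancel, Matrix.SpecialLinearGroup.coe_one, one_mul]

/-- The data give a generating pair of conjugates. -/
theorem closure_top_of_data [Finite F] (p : ℕ) [Fact p.Prime] [CharP F p] (hn : 4 ≤ n)
    (γ : ZMod p) (hγ : γ = 0 ∨ (γ = -1 ∧ p ≠ 2))
    (z κ : Fin n → F) (lam m : ZMod p) (hlam : lam ≠ 0)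
    (hφz : phi F n (ZMod.castHom dvd_rfl F γ) ⬝ᵥ z = -2)
    (hκl : κ ⬝ᵥ eN F n (n - 1) = -2) (hκz : κ ⬝ᵥ z = ZMod.castHom dvd_rfl F lam)
    (hω : (∀ c : F, ∃ k : ℕ, c = k) ∨
      ∃ ω : Fˣ, (∀ x : Fˣ, x ∈ Submonoid.powers ω) ∧
        z ⟨n - 2, by omega⟩ = ZMod.castHom dvd_rfl F m - ω)
    (g u : Matrix.SpecialLinearGroup (Fin n) F)
    (huval : (u : Matrix (Fin n) (Fin n) F) = 1 + shiftMat F n)
    (hgN : g.1 * nMat z κ (phi F n (ZMod.castHom dvd_rfl F γ)) = shiftMat F n * g.1) :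
    Subgroup.closure ({u, g⁻¹ * u * g} : Set (Matrix.SpecialLinearGroup (Fin n) F)) = ⊤ :=
  closure_top_of_val p hn γ hγ z κ lam m hlam hφz hκl hκz hω _ u huval (conj_val _ g u huval hgN)

end CfsgLib.KnownA
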