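import Cfsg.Agent.Lib.KnownA.GenTwo

/-!
The small degrees.
-/

set_option autoImplicit false
set_option linter.unusedSimpArgs false
set_option linter.unreachableTactic false
set_option linter.unusedTactic false

namespace CfsgLib.KnownA

open scoped Matrix

variable {F : Type*} [Field F]

set_option maxHeartbeats 1000000 in
theorem pair_six [Finite F] [CharP F 2] (w : Fˣ) (hw : ∀ x : Fˣ, x ∈ Submonoid.powers w) :
    ∃ u g : Matrix.SpecialLinearGroup (Fin 6) F,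
      IsNilpotent ((u : Matrix (Fin 6) (Fin 6) F) - 1) ∧
      ((u : Matrix (Fin 6) (Fin 6) F) - 1) ^ (6 - 1) ≠ 0 ∧
      Subgroup.closure ({u, g * u * g⁻¹} : Set (Matrix.SpecialLinearGroup (Fin 6) F)) = ⊤ := by
  classical
  haveI : Fact (Nat.Prime 2) := ⟨Nat.prime_two⟩
  have h20 : (2 : F) = 0 := CharTwo.two_eq_zero
  set ω : F := (w : F)
  let u : Matrix.SpecialLinearGroup (Fin 6) F := ⟨1 + shiftMat F 6, det_one_add_shift⟩
  let M : Matrix (Fin 6) (Fin 6) F := !![1, 0, 0, 0, 0, 0; 1, 1, 0, 0, 0, 0; 1, 1, 1, 0, 0, 0;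
    0, 1, 1, 1, 0, 0; ω, 0, 1, 1, 1, 0; ω, 0, 0, 1, 0, 1]
  have hdet : M.det = 1 := by
    rw [Matrix.det_of_isLowerTriangular]
    · simp [M, Fin.prod_univ_six]
    · intro i j (hij : i < j)
      fin_cases i <;> fin_cases j <;> first | rfl | (exfalso; revert hij; decide)
  let g : Matrix.SpecialLinearGroup (Fin 6) F := ⟨M, hdet⟩
  let z : Fin 6 → F := ![0, 1, 1, 0, 1 + ω, 1 + ω]
  let κ : Fin 6 → F := ![ω, ω, 0, 0, 1, 0]
  have hφ : phi F 6 (ZMod.castHom dvd_rfl F (0 : ZMod 2)) = ![1, 0, 0, 0, 0, 0] := by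
    rw [map_zero, phi_zero]; funext j; fin_cases j <;> simp [eN]
  have hq : eN F 6 (6 - 1) = ![0, 0, 0, 0, 0, 1] := by
    funext j; fin_cases j <;> simp [eN]
  have hJ : shiftMat F 6 = !![0, 1, 0, 0, 0, 0; 0, 0, 1, 0, 0, 0; 0, 0, 0, 1, 0, 0; 0, 0, 0, 0, 1, 0;
      0, 0, 0, 0, 0, 1; 0, 0, 0, 0, 0, 0] := by
    ext i j; fin_cases i <;> fin_cases j <;> simp [shiftMat]
  have hN : nMat z κ ![1, 0, 0, 0, 0, 0] = !![1, 1, 0, 0, 0, 0; 0, 0, 1, 0, 0, 0; 1, 0, 0, 1, 0, 0;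
      1 + ω, 0, 0, 0, 1, 0; ω, ω, 0, 0, 1, 1; 1, ω, 0, 0, 1, 0] := by
    rw [nMat, hq]
    ext i j
    fin_cases i <;> fin_cases j <;>
      simp [z, κ, shiftMat, Matrix.vecHead, Matrix.vecTail, Function.comp_def, Matrix.vecMulVec_apply, Matrix.mulVec, dotProduct, Fin.sum_univ_six] <;>
      (ring_nf; try simp [h20])
  have hgN : g.1 * nMat z κ ![1, 0, 0, 0, 0, 0] = shiftMat F 6 * g.1 := by
    rw [hN]
    show M * _ = _ * M
    ext i j
    fin_cases i <;> fin_cases j <;>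
      simp [M, shiftMat, Matrix.vecHead, Matrix.vecTail, Function.comp_def, Matrix.mul_apply, Fin.sum_univ_six] <;> (ring_nf; try simp [h20])
  have htop := closure_top_of_data 2 (n := 6) (by omega) 0 (Or.inl rfl) z κ 1 1 one_ne_zero
    (by rw [hφ]; simp [z, dotProduct, Fin.sum_univ_six, h20])
    (by rw [hq]; simp [κ, dotProduct, Fin.sum_univ_six, h20])
    (by
      rw [map_one]
      simp [z, κ, dotProduct, Fin.sum_univ_six]
      ring_nf; try simp [h20])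
    (Or.inr ⟨w, hw, by
      show z (4 : Fin 6) = _
      rw [map_one, sub_eq_add_neg, CharTwo.neg_eq]; rfl⟩) g u rfl (by rw [hφ]; exact hgN)
  refine ⟨u, g⁻¹, ?_, ?_, by rw [inv_inv]; exact htop⟩
  · show IsNilpotent (1 + shiftMat F 6 - 1)
    rw [add_sub_cancel_left]; exact shiftMat_nilpotent'
  · show (1 + shiftMat F 6 - 1) ^ (6 - 1) ≠ 0
    rw [add_sub_cancel_left]; exact shiftMat_pow_pred_ne_zero (by omega)

set_option maxHeartbeats 1000000 in
theorem pair_four [Finite F] (p : ℕ) [Fact p.Prime] [CharP F p] (hp : p ≠ 2) (w : Fˣ)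
    (hw : ∀ x : Fˣ, x ∈ Submonoid.powers w) :
    ∃ u v : Matrix.SpecialLinearGroup (Fin 4) F,
      (IsNilpotent ((u : Matrix (Fin 4) (Fin 4) F) - 1) ∧ ((u : Matrix (Fin 4) (Fin 4) F) - 1) ^ (4 - 1) ≠ 0) ∧
      (IsNilpotent ((v : Matrix (Fin 4) (Fin 4) F) - 1) ∧ ((v : Matrix (Fin 4) (Fin 4) F) - 1) ^ (4 - 1) ≠ 0) ∧
      Subgroup.closure ({u, v} : Set (Matrix.SpecialLinearGroup (Fin 4) F)) = ⊤ := by
  classical
  set ω : F := (w : F)
  let u : Matrix.SpecialLinearGroup (Fin 4) F := ⟨1 + shiftMat F 4, det_one_add_shift⟩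
  let N : Matrix (Fin 4) (Fin 4) F :=
    !![0, 1, 0, 0; -ω, 0, 1, 0; 2 - ω, ω - 2, 2, -1; 4, ω - 2, 2, -2]
  have hN4 : N ^ 4 = 0 := by
    ext i j
    fin_cases i <;> fin_cases j <;> simp [N, pow_succ, Matrix.mul_apply, Fin.sum_univ_succ] <;> ring
  have hN3 : N ^ 3 ≠ 0 := by
    intro h
    have := congrFun (congrFun h 0) 3
    simp [N, pow_succ, Matrix.mul_apply, Fin.sum_univ_succ] at this
  have hdet : (1 + N).det = 1 := by
    simp [N, Matrix.det_succ_row_zero, Fin.sum_univ_succ, Fin.succAbove, Matrix.one_apply]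
    ring
  let v : Matrix.SpecialLinearGroup (Fin 4) F := ⟨1 + N, hdet⟩
  let z : Fin 4 → F := ![-2, 2, -2 - ω, 2 + ω]
  let κ : Fin 4 → F := ![2 - ω, ω - 2, 2, -2]
  have hφ : phi F 4 (ZMod.castHom dvd_rfl F (0 : ZMod p)) = ![1, 0, 0, 0] := by
    rw [map_zero, phi_zero]; funext j; fin_cases j <;> simp [eN]
  have hq : eN F 4 (4 - 1) = ![0, 0, 0, 1] := by
    funext j; fin_cases j <;> simp [eN]
  have hJ : shiftMat F 4 = !![0, 1, 0, 0; 0, 0, 1, 0; 0, 0, 0, 1; 0, 0, 0, 0] := by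
    ext i j; fin_cases i <;> fin_cases j <;> simp [shiftMat]
  have hN : N = nMat z κ ![1, 0, 0, 0] := by
    rw [nMat, hq]
    ext i j
    fin_cases i <;> fin_cases j <;>
      simp [N, z, κ, shiftMat, Matrix.vecHead, Matrix.vecTail, Function.comp_def, Matrix.vecMulVec_apply, Matrix.mulVec, dotProduct, Fin.sum_univ_succ] <;> ring
  have h16 : (-16 : ZMod p) ≠ 0 := by
    intro h
    have h' : ((16 : ℕ) : ZMod p) = 0 := by
      have := neg_eq_zero.1 h
      exact_mod_cast this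
    rw [ZMod.natCast_eq_zero_iff] at h'
    exact hp ((Nat.prime_dvd_prime_iff_eq Fact.out Nat.prime_two).1
      ((Fact.out : p.Prime).dvd_of_dvd_pow (show p ∣ 2 ^ 4 from h')))
  have htop := closure_top_of_val p (n := 4) le_rfl 0 (Or.inl rfl) z κ (-16) (-2) h16
    (by rw [hφ]; simp [z, dotProduct, Fin.sum_univ_succ])
    (by rw [hq]; simp [κ, dotProduct, Fin.sum_univ_succ])
    (by
      rw [map_neg, map_ofNat]
      simp [z, κ, dotProduct, Fin.sum_univ_succ]; ring)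
    (Or.inr ⟨w, hw, by
      show z (2 : Fin 4) = _
      rw [map_neg, map_ofNat]; rfl⟩) v u rfl (by rw [hφ, ← hN])
  refine ⟨u, v, ⟨?_, ?_⟩, ⟨?_, ?_⟩, htop⟩
  · show IsNilpotent (1 + shiftMat F 4 - 1)
    rw [add_sub_cancel_left]; exact shiftMat_nilpotent'
  · show (1 + shiftMat F 4 - 1) ^ (4 - 1) ≠ 0
    rw [add_sub_cancel_left]; exact shiftMat_pow_pred_ne_zero (by omega)
  · show IsNilpotent (1 + N - 1)
    rw [add_sub_cancel_left]; exact ⟨4, hN4⟩
  · show (1 + N - 1) ^ (4 - 1) ≠ 0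
    rw [add_sub_cancel_left]; exact hN3

end CfsgLib.KnownA
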