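import Cfsg.Agent.Lib.KnownA.GenPair

/-!
Two conjugate regular unipotent elements generating `SL₃`.
-/

set_option autoImplicit false
set_option linter.unusedSimpArgs false
set_option linter.unreachableTactic false
set_option linter.unusedTactic false

namespace CfsgLib.KnownA

open scoped Matrix

variable {F : Type*} [Field F]

theorem InT.swap_scalar {n : ℕ} {G : Subgroup (Matrix.SpecialLinearGroup (Fin n) F)} {a φ : Fin n → F} {c : F}
    (h : InT G (c • a) φ) (hc : c ≠ 0) : InT G a (c • φ) := by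
  obtain ⟨h0, g, hg, hge⟩ := h
  exact ⟨by rw [smul_dotProduct, ← dotProduct_smul, h0], g, hg,
    by rw [hge, Matrix.smul_vecMulVec, Matrix.vecMulVec_smul]⟩

theorem top_of_six {G : Subgroup (Matrix.SpecialLinearGroup (Fin 3) F)}
    (h01 : ∀ c, InT G ![1, 0, 0] ![0, c, 0]) (h02 : ∀ c, InT G ![1, 0, 0] ![0, 0, c])
    (h10 : ∀ c, InT G ![0, 1, 0] ![c, 0, 0]) (h12 : ∀ c, InT G ![0, 1, 0] ![0, 0, c])
    (h20 : ∀ c, InT G ![0, 0, 1] ![c, 0, 0]) (h21 : ∀ c, InT G ![0, 0, 1] ![0, c, 0]) : G = ⊤ := by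
  refine CfsgLib.Classical.eq_top_of_transvection_mem G fun i j hij c => InE.mem hij ?_
  have hsingle : ∀ (i : Fin 3) (c : F), (Pi.single i c : Fin 3 → F) =
      ![if i = 0 then c else 0, if i = 1 then c else 0, if i = 2 then c else 0] := by
    intro i c; funext k; fin_cases i <;> fin_cases k <;> simp
  rw [InE, ← Pi.single_smul, smul_eq_mul, mul_one, hsingle i, hsingle j]
  fin_cases i <;> fin_cases j
  all_goals first
    | exact absurd rfl hij
    | skip
  all_goals simp
  all_goals first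
    | exact h01 c
    | exact h02 c
    | exact h10 c
    | exact h12 c
    | exact h20 c
    | exact h21 c

theorem shiftMat_three : shiftMat F 3 = !![0, 1, 0; 0, 0, 1; 0, 0, 0] := by
  ext i j; fin_cases i <;> fin_cases j <;> simp [shiftMat]

/-- A shorthand for the coordinate computations. -/
theorem vec3_ext {a b : Fin 3 → F} (h0 : a 0 = b 0) (h1 : a 1 = b 1) (h2 : a 2 = b 2) : a = b := by
  funext i; fin_cases i
  · exact h0
  · exact h1
  · exact h2

set_option maxHeartbeats 1000000 in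
theorem pair_three_two [Finite F] [CharP F 2] :
    ∃ u g : Matrix.SpecialLinearGroup (Fin 3) F,
      IsNilpotent ((u : Matrix (Fin 3) (Fin 3) F) - 1) ∧
      ((u : Matrix (Fin 3) (Fin 3) F) - 1) ^ (3 - 1) ≠ 0 ∧
      Subgroup.closure ({u, g * u * g⁻¹} : Set (Matrix.SpecialLinearGroup (Fin 3) F)) = ⊤ := by
  classical
  obtain ⟨w, hw⟩ : ∃ w : Fˣ, ∀ x, x ∈ Submonoid.powers w := IsCyclic.exists_monoid_generator
  have h20 : (2 : F) = 0 := CharTwo.two_eq_zero
  set s : F := (w : F)
  have hs : s ≠ 0 := w.ne_zero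
  let u : Matrix.SpecialLinearGroup (Fin 3) F := ⟨1 + shiftMat F 3, det_one_add_shift⟩
  let g : Matrix.SpecialLinearGroup (Fin 3) F := ⟨!![0, s⁻¹, s⁻¹; s, 0, 0; 0, 1, 0], by
    simp [Matrix.det_fin_three, hs]⟩
  have hu' : u.1 = !![1, 1, 0; 0, 1, 1; 0, 0, 1] := by
    show 1 + shiftMat F 3 = _
    rw [shiftMat_three]
    ext i j; fin_cases i <;> fin_cases j <;> simp
  have hv : (g * u * g⁻¹ : Matrix.SpecialLinearGroup (Fin 3) F).1 = !![0, 0, s⁻¹; 0, 1, s; s, 0, 0] := by
    have hgu : g.1 * u.1 = !![0, 0, s⁻¹; 0, 1, s; s, 0, 0] * g.1 := by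
      rw [hu']
      ext i j
      fin_cases i <;> fin_cases j <;> simp [g, Matrix.mul_apply, Fin.sum_univ_three, hs] <;>
        (ring_nf; try simp [h20])
    rw [Matrix.SpecialLinearGroup.coe_mul, Matrix.SpecialLinearGroup.coe_mul, hgu, mul_assoc,
      ← Matrix.SpecialLinearGroup.coe_mul, mul_inv_cancel, Matrix.SpecialLinearGroup.coe_one, mul_one]
  refine ⟨u, g, ?_, ?_, ?_⟩
  · show IsNilpotent (1 + shiftMat F 3 - 1)
    rw [add_sub_cancel_left]; exact shiftMat_nilpotent'
  · show (1 + shiftMat F 3 - 1) ^ (3 - 1) ≠ 0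
    rw [add_sub_cancel_left]; exact shiftMat_pow_pred_ne_zero (by omega)
  set G := Subgroup.closure ({u, g * u * g⁻¹} : Set (Matrix.SpecialLinearGroup (Fin 3) F))
  have hu : u ∈ G := Subgroup.subset_closure (by simp)
  have hvm : g * u * g⁻¹ ∈ G := Subgroup.subset_closure (by simp)
  have hx : InT G ![1, 0, 0] ![0, 0, 1] := by
    refine ⟨by simp [dotProduct, Fin.sum_univ_three], u * u, mul_mem hu hu, ?_⟩
    rw [Matrix.SpecialLinearGroup.coe_mul, hu']
    ext i j
    fin_cases i <;> fin_cases j <;>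
      simp [Matrix.mul_apply, Fin.sum_univ_three, Matrix.vecMulVec_apply, Matrix.one_apply] <;>
      (ring_nf; try simp [h20])
  have hy : InT G ![0, 1, 0] ![s ^ 2, 0, s] := by
    refine ⟨by simp [dotProduct, Fin.sum_univ_three], _, mul_mem hvm hvm, ?_⟩
    rw [Matrix.SpecialLinearGroup.coe_mul, hv]
    ext i j
    fin_cases i <;> fin_cases j <;>
      simp [Matrix.mul_apply, Fin.sum_univ_three, Matrix.vecMulVec_apply, Matrix.one_apply, hs] <;>
      (ring_nf; try simp [h20])
  have to12 : ∀ c, InT G ![1, 0, 0] ![0, 0, c] → InT G ![0, 1, 0] ![0, 0, s ^ 2 * c] := by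
    intro c hc
    refine (hy.comm hc (by simp [dotProduct, Fin.sum_univ_three])).cast rfl ?_
    apply vec3_ext <;> simp [dotProduct, Fin.sum_univ_three]
  have to02 : ∀ d, InT G ![0, 1, 0] ![0, 0, d] → InT G ![1, 0, 0] ![0, 0, d] := by
    intro d hd
    refine ((hd.conj hu (ψ := ![0, 0, d]) ?_).sub_left hd).cast ?_ rfl
    · rw [hu']; apply vec3_ext <;> simp [Matrix.vecMul, dotProduct, Fin.sum_univ_three]
    · rw [hu']; apply vec3_ext <;> simp [Matrix.mulVec, dotProduct, Fin.sum_univ_three]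
  have hpow : ∀ k : ℕ, InT G ![1, 0, 0] ![0, 0, s ^ (2 * k)] := by
    intro k
    induction k with
    | zero => simpa using hx
    | succ k ih =>
      have := to02 _ (to12 _ ih)
      rwa [← pow_add, show 2 + 2 * k = 2 * (k + 1) by ring] at this
  have h02 : ∀ c, InT G ![1, 0, 0] ![0, 0, c] := by
    intro c
    rcases eq_or_ne c 0 with rfl | hc
    · exact (InT.zero_right _).cast rfl (by apply vec3_ext <;> simp)
    obtain ⟨d, hd⟩ : IsSquare c := FiniteField.isSquare_of_char_two (ringChar.eq F 2) c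
    have hd0 : d ≠ 0 := fun h => hc (by rw [hd, h, mul_zero])
    obtain ⟨k, hk⟩ := hw (Units.mk0 d hd0)
    have e : c = s ^ (2 * k) := by
      have := congrArg Units.val hk
      simp at this
      rw [hd, ← this, pow_mul', sq]
    rw [e]; exact hpow k
  have h12 : ∀ c, InT G ![0, 1, 0] ![0, 0, c] := fun c => by
    have := to12 (c / s ^ 2) (h02 _)
    rwa [mul_div_cancel₀ _ (pow_ne_zero 2 hs)] at this
  have h20' : ∀ c, InT G ![0, 0, 1] ![c, 0, 0] := by
    intro c
    have h := (h02 (c / s / s)).conj hvm (ψ := ![c / s, 0, 0]) (by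
      rw [hv]; apply vec3_ext <;> simp [Matrix.vecMul, dotProduct, Fin.sum_univ_three, div_eq_mul_inv] <;> ring)
    have h' : InT G (s • ![0, 0, 1]) ![c / s, 0, 0] := h.cast (by
      rw [hv]; apply vec3_ext <;> simp [Matrix.mulVec, dotProduct, Fin.sum_univ_three]) rfl
    refine (h'.swap_scalar hs).cast rfl ?_
    apply vec3_ext <;> simp
    exact mul_div_cancel₀ _ hs
  have h10 : ∀ c, InT G ![0, 1, 0] ![c, 0, 0] := fun c => by
    refine ((h12 1).comm (h20' c) (by simp [dotProduct, Fin.sum_univ_three])).cast rfl ?_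
    apply vec3_ext <;> simp [dotProduct, Fin.sum_univ_three]
  have h21 : ∀ c, InT G ![0, 0, 1] ![0, c, 0] := by
    intro c
    have h1 := (h20' c).conj hu (ψ := ![c, c, c]) (by
      rw [hu']; apply vec3_ext <;> simp [Matrix.vecMul, dotProduct, Fin.sum_univ_three] <;>
        (ring_nf; try simp [h20]))
    obtain ⟨-, y, hy, hye⟩ := h12 1
    have h2 := h1.conj hy (ψ := ![c, c, 0]) (by
      rw [hye]; apply vec3_ext <;>
        simp [Matrix.vecMul, dotProduct, Fin.sum_univ_three, Matrix.one_apply, Matrix.vecMulVec_apply])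
    have h3 : InT G ![0, 0, 1] ![c, c, 0] := h2.cast (by
      rw [hye, hu']; apply vec3_ext <;>
        simp [Matrix.mulVec, dotProduct, Fin.sum_univ_three, Matrix.one_apply, Matrix.vecMulVec_apply] <;>
        (ring_nf; try simp [h20])) rfl
    refine (h3.sub_right (h20' c)).cast rfl ?_
    apply vec3_ext <;> simp
  have h01 : ∀ c, InT G ![1, 0, 0] ![0, c, 0] := fun c => by
    refine ((h02 1).comm (h21 c) (by simp [dotProduct, Fin.sum_univ_three])).cast rfl ?_
    apply vec3_ext <;> simp [dotProduct, Fin.sum_univ_three]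
  exact top_of_six h01 h02 h10 h12 h20' h21

set_option maxHeartbeats 1000000 in
theorem pair_three_odd [Finite F] (p : ℕ) [Fact p.Prime] [CharP F p] (hp : p ≠ 2) :
    ∃ u g : Matrix.SpecialLinearGroup (Fin 3) F,
      IsNilpotent ((u : Matrix (Fin 3) (Fin 3) F) - 1) ∧
      ((u : Matrix (Fin 3) (Fin 3) F) - 1) ^ (3 - 1) ≠ 0 ∧
      Subgroup.closure ({u, g * u * g⁻¹} : Set (Matrix.SpecialLinearGroup (Fin 3) F)) = ⊤ := by
  classical
  obtain ⟨w, hw⟩ : ∃ w : Fˣ, ∀ x, x ∈ Submonoid.powers w := IsCyclic.exists_monoid_generator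
  have hnat : ∀ m : ℕ, (m : F) = 0 → p ∣ m := fun m h => (CharP.cast_eq_zero_iff F p m).1 h
  have h20 : (2 : F) ≠ 0 := fun h =>
    hp ((Nat.prime_dvd_prime_iff_eq Fact.out Nat.prime_two).1 (hnat 2 (by exact_mod_cast h)))
  -- the parameter
  obtain ⟨t, ht, hlam⟩ : ∃ t : F, (t = w ∨ t = w + 1 ∨ t = w - 1) ∧ 12 + t ^ 2 ≠ 0 := by
    by_contra hcon
    push Not at hcon
    have a := hcon w (Or.inl rfl)
    have b := hcon (w + 1) (Or.inr (Or.inl rfl))
    have c := hcon (w - 1) (Or.inr (Or.inr rfl))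
    have h4 : (2 : F) * 2 * (w : F) = 0 := by linear_combination b - c
    simp [h20] at h4
  let u : Matrix.SpecialLinearGroup (Fin 3) F := ⟨1 + shiftMat F 3, det_one_add_shift⟩
  let g : Matrix.SpecialLinearGroup (Fin 3) F := ⟨!![-1, 0, 0; t, -1, 0; 2 + t, -2, 1], by
    simp [Matrix.det_fin_three]⟩
  have hu' : u.1 = !![1, 1, 0; 0, 1, 1; 0, 0, 1] := by
    show 1 + shiftMat F 3 = _
    rw [shiftMat_three]
    ext i j; fin_cases i <;> fin_cases j <;> simp
  have hq : eN F 3 (3 - 1) = ![0, 0, 1] := by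
    funext j; fin_cases j <;> simp [eN]
  let z : Fin 3 → F := ![-2, 2 - t, t - 2]
  let κ : Fin 3 → F := ![-2 - t - t ^ 2, 2 + t, -2]
  have hgN : g.1 * nMat z κ ![1, 0, 0] = shiftMat F 3 * g.1 := by
    rw [nMat, hq]
    ext i j
    fin_cases i <;> fin_cases j <;>
      simp [g, z, κ, shiftMat, Matrix.vecHead, Matrix.vecTail, Function.comp_def, Matrix.mul_apply, Matrix.vecMulVec_apply, Matrix.mulVec, dotProduct,
        Fin.sum_univ_three] <;> ring
  have hv := conj_val _ g u rfl hgN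
  refine ⟨u, g⁻¹, ?_, ?_, ?_⟩
  · show IsNilpotent (1 + shiftMat F 3 - 1)
    rw [add_sub_cancel_left]; exact shiftMat_nilpotent'
  · show (1 + shiftMat F 3 - 1) ^ (3 - 1) ≠ 0
    rw [add_sub_cancel_left]; exact shiftMat_pow_pred_ne_zero (by omega)
  rw [inv_inv]
  set G := Subgroup.closure ({u, g⁻¹ * u * g} : Set (Matrix.SpecialLinearGroup (Fin 3) F))
  have hu : u ∈ G := Subgroup.subset_closure (by simp)
  have hvm : g⁻¹ * u * g ∈ G := Subgroup.subset_closure (by simp)
  have hy : InT G ![0, 0, 1] ![12 + t ^ 2, 0, 0] := by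
    have h := (pair_of_data z κ ![1, 0, 0]
      (by simp [z, dotProduct, Fin.sum_univ_three]) (by rw [hq]; simp [dotProduct, Fin.sum_univ_three])
      (by rw [hq]; simp [κ, dotProduct, Fin.sum_univ_three]) _ u rfl hv G hu hvm).1
    rw [hq] at h
    refine h.cast rfl ?_
    apply vec3_ext <;> simp [z, κ, dotProduct, Fin.sum_univ_three]
    ring
  let D : Matrix.SpecialLinearGroup (Fin 3) F := u⁻¹ * (g⁻¹ * u * g)
  have hD : D ∈ G := mul_mem (inv_mem hu) hvm
  have hDval : D.1 = !![-1, 0, 0; 2 - t, 1, 0; -4 - t ^ 2, 2 + t, -1] := by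
    have huD : u.1 * !![-1, 0, 0; 2 - t, 1, 0; -4 - t ^ 2, 2 + t, -1] = 1 + nMat z κ ![1, 0, 0] := by
      rw [hu', nMat, hq]
      ext i j
      fin_cases i <;> fin_cases j <;>
        simp [z, κ, shiftMat, Matrix.vecHead, Matrix.vecTail, Function.comp_def, Matrix.mul_apply, Matrix.vecMulVec_apply, Matrix.mulVec, dotProduct,
          Fin.sum_univ_three, Matrix.one_apply] <;> ring
    show (u⁻¹ * (g⁻¹ * u * g) : Matrix.SpecialLinearGroup (Fin 3) F).1 = _
    rw [Matrix.SpecialLinearGroup.coe_mul, hv, ← huD, ← mul_assoc, ← Matrix.SpecialLinearGroup.coe_mul,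
      inv_mul_cancel, Matrix.SpecialLinearGroup.coe_one, one_mul]
  let S : Set F := {c | InT G ![0, 0, 1] ![c, 0, 0]}
  have hSadd : ∀ a ∈ S, ∀ b ∈ S, a + b ∈ S := fun a ha b hb =>
    (InT.add_right ha hb).cast rfl (by apply vec3_ext <;> simp)
  have hSneg : ∀ a ∈ S, -a ∈ S := fun a ha =>
    (InT.neg_right ha).cast rfl (by apply vec3_ext <;> simp)
  have hA : ∀ c ∈ S, ∀ d ∈ S, InT G ![0, 1, 1] ![c * d, 0, 0] := by
    intro c hc d hd
    have h1 := (InT.conj (show InT G _ _ from hc) hu (ψ := ![c, -c, c]) (by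
      rw [hu']; apply vec3_ext <;> simp [Matrix.vecMul, dotProduct, Fin.sum_univ_three]))
    have h2 : InT G ![0, 1, 1] ![c, -c, c] := h1.cast (by
      rw [hu']; apply vec3_ext <;> simp [Matrix.mulVec, dotProduct, Fin.sum_univ_three]) rfl
    refine (h2.comm hd (by simp [dotProduct, Fin.sum_univ_three])).cast rfl ?_
    apply vec3_ext <;> simp [dotProduct, Fin.sum_univ_three]
  have hC : ∀ m, InT G ![0, 1, 1] ![m, 0, 0] → InT G ![0, 0, 1] ![m, m, 0] := by
    intro m hm
    refine (hm.conj' (b := ![0, 0, 1]) hu ?_).cast rfl ?_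
    · rw [hu']; apply vec3_ext <;> simp [Matrix.mulVec, dotProduct, Fin.sum_univ_three]
    · rw [hu']; apply vec3_ext <;> simp [Matrix.vecMul, dotProduct, Fin.sum_univ_three]
  have hfour : ∀ a ∈ S, ∀ b ∈ S, ∀ c ∈ S, ∀ d ∈ S, a * b * c * d ∈ S := by
    intro a ha b hb c hc d hd
    refine ((hC _ (hA a ha b hb)).comm (hA c hc d hd) (by simp [dotProduct, Fin.sum_univ_three])).cast rfl ?_
    apply vec3_ext <;> simp [dotProduct, Fin.sum_univ_three] <;> ring
  have hDt : ∀ c ∈ S, ∀ d ∈ S, t * (c * d) ∈ S := by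
    intro c hc d hd
    have h1 := (hA c hc d hd).conj hD (ψ := ![-(c * d), 0, 0]) (by
      rw [hDval]; apply vec3_ext <;> simp [Matrix.vecMul, dotProduct, Fin.sum_univ_three])
    have h2 : InT G ![0, 1, 1 + t] ![-(c * d), 0, 0] := h1.cast (by
      rw [hDval]; apply vec3_ext <;> simp [Matrix.mulVec, dotProduct, Fin.sum_univ_three]
      ring) rfl
    have h3 : InT G ![0, 1, 1 + t] ![c * d, 0, 0] := h2.neg_right.cast rfl (by apply vec3_ext <;> simp)
    rcases eq_or_ne t 0 with rfl | ht0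
    · simpa [S] using (InT.zero_right (G := G) ![0, 0, 1]).cast rfl (show (0 : Fin 3 → F) = ![0, 0, 0] by
        apply vec3_ext <;> simp)
    have h4 : InT G (t • ![0, 0, 1]) ![c * d, 0, 0] := (h3.sub_left (hA c hc d hd)).cast (by
      apply vec3_ext <;> simp) rfl
    refine (h4.swap_scalar ht0).cast rfl ?_
    apply vec3_ext <;> simp
  set L : F := 12 + t ^ 2 with hL
  have hLS : L ∈ S := hy
  let R : Subring F :=
    { carrier := {r | ∀ c ∈ S, r * c ∈ S}
      mul_mem' := fun {a b} ha hb c hc => by rw [mul_assoc]; exact ha _ (hb _ hc)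
      one_mem' := fun c hc => by rwa [one_mul]
      add_mem' := fun {a b} ha hb c hc => by rw [add_mul]; exact hSadd _ (ha _ hc) _ (hb _ hc)
      zero_mem' := fun c hc => by
        rw [zero_mul, ← add_neg_cancel c]; exact hSadd _ hc _ (hSneg _ hc)
      neg_mem' := fun {a} ha c hc => by rw [neg_mul]; exact hSneg _ (ha _ hc) }
  have hR3 : ∀ a ∈ S, ∀ b ∈ S, ∀ c ∈ S, a * b * c ∈ R := fun a ha b hb c hc d hd => hfour a ha b hb c hc d hd
  have hinv : ∀ r ∈ R, r⁻¹ ∈ R := by
    intro r hr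
    rcases eq_or_ne r 0 with rfl | hr0
    · simpa using R.zero_mem
    haveI : Fintype F := Fintype.ofFinite F
    have h1 := FiniteField.pow_card_sub_one_eq_one r hr0
    have h2 : r⁻¹ = r ^ (Fintype.card F - 2) := by
      refine inv_eq_of_mul_eq_one_right ?_
      rw [← pow_succ']
      have := Fintype.one_lt_card (α := F)
      rw [show Fintype.card F - 2 + 1 = Fintype.card F - 1 by omega, h1]
    rw [h2]; exact R.pow_mem hr _
  have h3L : L ^ 3 ∈ R := by
    have := hR3 L hLS L hLS L hLS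
    rwa [show L * L * L = L ^ 3 by ring] at this
  have htL : t * L ∈ R := by
    have := R.mul_mem (hR3 _ hLS _ hLS _ (hDt _ hLS _ hLS)) (hinv _ h3L)
    rwa [show L * L * (t * (L * L)) * (L ^ 3)⁻¹ = t * L by field_simp] at this
  have ht3 : t ^ 3 ∈ R := by
    have := R.mul_mem (R.pow_mem htL 3) (hinv _ h3L)
    rwa [show (t * L) ^ 3 * (L ^ 3)⁻¹ = t ^ 3 by field_simp] at this
  have htR : t ∈ R := by
    by_cases hp3 : p = 3
    · subst hp3
      have hinj : Function.Injective (fun x : ↥R => x ^ 3) := by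
        intro a b h
        have h' : (a : F) ^ 3 = (b : F) ^ 3 := congrArg Subtype.val h
        exact Subtype.ext (frobenius_inj F 3 h')
      obtain ⟨r, hr⟩ := Finite.surjective_of_injective hinj ⟨t ^ 3, ht3⟩
      have : (r : F) = t := frobenius_inj F 3 (congrArg Subtype.val hr)
      exact this ▸ r.2
    · have h12 : (12 : F) * t ∈ R := by
        have := R.sub_mem htL ht3
        rwa [show t * L - t ^ 3 = 12 * t by rw [hL]; ring] at this
      have h120 : (12 : F) ≠ 0 := fun h => by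
        have h1 := hnat 12 (by exact_mod_cast h)
        rcases (Fact.out : p.Prime).dvd_mul.1 (show p ∣ 4 * 3 from h1) with h | h
        · exact hp ((Nat.prime_dvd_prime_iff_eq Fact.out Nat.prime_two).1
            ((Fact.out : p.Prime).dvd_of_dvd_pow (show p ∣ 2 ^ 2 from h)))
        · exact hp3 ((Nat.prime_dvd_prime_iff_eq Fact.out Nat.prime_three).1 h)
      have := R.mul_mem (hinv _ (natCast_mem R 12)) h12
      rwa [Nat.cast_ofNat, inv_mul_cancel_left₀ h120] at this
  have hwR : (w : F) ∈ R := by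
    rcases ht with h | h | h
    · exact h ▸ htR
    · have := R.sub_mem htR R.one_mem; rwa [h, add_sub_cancel_right] at this
    · have := R.add_mem htR R.one_mem; rwa [h, sub_add_cancel] at this
  have hall : ∀ x : F, x ∈ R := by
    intro x
    rcases eq_or_ne x 0 with rfl | hx
    · exact R.zero_mem
    obtain ⟨k, hk⟩ := hw (Units.mk0 x hx)
    have : x = (w : F) ^ k := by
      have := congrArg Units.val hk
      simpa using this.symm
    rw [this]; exact R.pow_mem hwR k
  have h20' : ∀ c, InT G ![0, 0, 1] ![c, 0, 0] := fun c => by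
    have := hall (c / L) L hLS
    rwa [div_mul_cancel₀ _ hlam] at this
  have hAall : ∀ c, InT G ![0, 1, 1] ![c, 0, 0] := fun c => by
    have := hA c (h20' c) 1 (h20' 1)
    rwa [mul_one] at this
  have h10 : ∀ c, InT G ![0, 1, 0] ![c, 0, 0] := fun c =>
    ((hAall c).sub_left (h20' c)).cast (by apply vec3_ext <;> simp) rfl
  have h21 : ∀ c, InT G ![0, 0, 1] ![0, c, 0] := fun c =>
    ((hC c (hAall c)).sub_right (h20' c)).cast rfl (by apply vec3_ext <;> simp)
  have h12 : ∀ c, InT G ![0, 1, 0] ![0, 0, c] := by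
    intro c
    have h1 := (h21 c).conj hu (ψ := ![0, c, -c]) (by
      rw [hu']; apply vec3_ext <;> simp [Matrix.vecMul, dotProduct, Fin.sum_univ_three])
    obtain ⟨-, y, hy, hye⟩ := h21 (-1)
    have h2 := h1.conj hy (ψ := ![0, 0, -c]) (by
      rw [hye]; apply vec3_ext <;>
        simp [Matrix.vecMul, dotProduct, Fin.sum_univ_three, Matrix.one_apply, Matrix.vecMulVec_apply])
    refine h2.neg_right.cast ?_ ?_
    · rw [hye, hu']; apply vec3_ext <;>
        simp [Matrix.mulVec, dotProduct, Fin.sum_univ_three, Matrix.one_apply, Matrix.vecMulVec_apply]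
    · apply vec3_ext <;> simp
  have hE : ∀ c, InT G ![1, 0, 0] ![0, -c, c] := by
    intro c
    have h1 := (h10 c).conj hu (ψ := ![c, -c, c]) (by
      rw [hu']; apply vec3_ext <;> simp [Matrix.vecMul, dotProduct, Fin.sum_univ_three])
    obtain ⟨-, y, hy, hye⟩ := h10 (-1)
    have h2 := h1.conj hy (ψ := ![0, -c, c]) (by
      rw [hye]; apply vec3_ext <;>
        simp [Matrix.vecMul, dotProduct, Fin.sum_univ_three, Matrix.one_apply, Matrix.vecMulVec_apply])
    refine h2.cast ?_ rfl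
    rw [hye, hu']; apply vec3_ext <;>
      simp [Matrix.mulVec, dotProduct, Fin.sum_univ_three, Matrix.one_apply, Matrix.vecMulVec_apply]
  have h01 : ∀ c, InT G ![1, 0, 0] ![0, c, 0] := fun c => by
    refine ((hE c).comm (h21 1) (by simp [dotProduct, Fin.sum_univ_three])).cast rfl ?_
    apply vec3_ext <;> simp [dotProduct, Fin.sum_univ_three]
  have h02 : ∀ c, InT G ![1, 0, 0] ![0, 0, c] := fun c =>
    ((hE c).add_right (h01 c)).cast rfl (by apply vec3_ext <;> simp)
  exact top_of_six h01 h02 h10 h12 h20' h21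

end CfsgLib.KnownA
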