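import Cfsg.Agent.Lib.KnownA.GenOdd

/-!
Characteristic two: a regular unipotent element and a conjugate of it generating `SL_n`.
-/

set_option autoImplicit false
set_option linter.unusedSimpArgs false
set_option linter.unreachableTactic false
set_option linter.unusedTactic false

namespace CfsgLib.KnownA

open scoped Matrix

variable {F : Type*} [Field F] {n : ℕ}

/-- Number of multiples. -/
theorem sum_dvd_succ (k M : ℕ) :
    ∑ i ∈ Finset.range M, (if k ∣ i + 1 then 1 else 0) = M / k := by
  induction M with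
  | zero => simp
  | succ M ih => rw [Finset.sum_range_succ, ih, Nat.succ_div]

/-- The sum of quotients. -/
theorem sum_div (k M : ℕ) (hk : 0 < k) (hM : M < 4 * k) :
    ∑ i ∈ Finset.range (M + 1), i / k =
      if M < k then 0 else if M < 2 * k then M + 1 - k else
        if M < 3 * k then k + 2 * (M + 1 - 2 * k) else 3 * k + 3 * (M + 1 - 3 * k) := by
  induction M with
  | zero => simp [hk]
  | succ M ih =>
    rw [Finset.sum_range_succ, ih (by omega)]
    rcases (show M + 1 < k ∨ (k ≤ M + 1 ∧ M + 1 < 2 * k) ∨ (2 * k ≤ M + 1 ∧ M + 1 < 3 * k) ∨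
        3 * k ≤ M + 1 by omega) with h | h | h | h
    · rw [Nat.div_eq_of_lt h]; split_ifs <;> omega
    · rw [show (M + 1) / k = 1 from Nat.div_eq_of_lt_le (by omega) (by omega)]; split_ifs <;> omega
    · rw [show (M + 1) / k = 2 from Nat.div_eq_of_lt_le (by omega) (by omega)]; split_ifs <;> omega
    · rw [show (M + 1) / k = 3 from Nat.div_eq_of_lt_le (by omega) (by omega)]; split_ifs <;> omega

theorem exists_good_k {l : ℕ} (hl : 3 ≤ l) (h5 : l ≠ 5) :
    ∃ k, 1 ≤ k ∧ k + 1 ≤ l ∧ Odd (∑ i ∈ Finset.range (l - k + 1), i / k) := by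
  rcases Nat.even_or_odd l with ⟨m, hm⟩ | hodd
  · refine ⟨m, by omega, by omega, ?_⟩
    rw [sum_div _ _ (by omega) (by omega)]
    refine ⟨0, ?_⟩
    split_ifs <;> omega
  obtain ⟨m, hm⟩ := hodd
  by_cases h7 : l ≤ 7
  · have : l = 3 ∨ l = 7 := by omega
    rcases this with rfl | rfl
    · exact ⟨1, by omega, by omega, by decide⟩
    · exact ⟨1, by omega, by omega, by decide⟩
  obtain ⟨r, hr1, hr2⟩ : ∃ r, 3 * (2 * r + 1) ≤ l ∧ l < 5 * (2 * r + 1) := by
    by_cases h15 : l < 15
    · exact ⟨1, by omega, by omega⟩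
    · exact ⟨(l / 3 - 1) / 2, by omega, by omega⟩
  refine ⟨2 * r + 1, by omega, by omega, ?_⟩
  rw [sum_div _ _ (by omega) (by omega), Nat.odd_iff]
  split_ifs <;> omega

section Two

variable [CharP F 2]

theorem pair_two [Finite F] {k : ℕ} (hk : 1 ≤ k) (hkn : k + 2 ≤ n)
    (hodd : Odd (∑ i ∈ Finset.range (n - 1 - k + 1), i / k)) (hn : 4 ≤ n) (w : Fˣ)
    (hw : ∀ x : Fˣ, x ∈ Submonoid.powers w) :
    ∃ u g : Matrix.SpecialLinearGroup (Fin n) F,
      IsNilpotent ((u : Matrix (Fin n) (Fin n) F) - 1) ∧
      ((u : Matrix (Fin n) (Fin n) F) - 1) ^ (n - 1) ≠ 0 ∧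
      Subgroup.closure ({u, g * u * g⁻¹} : Set (Matrix.SpecialLinearGroup (Fin n) F)) = ⊤ := by
  classical
  haveI : Fact (Nat.Prime 2) := ⟨Nat.prime_two⟩
  set ι := ZMod.castHom dvd_rfl F (n := 2)
  have h20 : (2 : F) = 0 := CharTwo.two_eq_zero
  set ω : F := (w : F) with hω
  let u : Matrix.SpecialLinearGroup (Fin n) F := ⟨1 + shiftMat F n, det_one_add_shift⟩
  let S : Fin n → F := ∑ i ∈ Finset.range (n - 1 - k), eN F n i
  let R : ℕ → Fin n → F := fun m =>
    if m + 1 = n then eN F n m + ω • eN F n 0 + S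
    else if m < n then
      eN F n m + (if k ≤ m then (1 : F) else 0) • eN F n (m - k) +
        (if m + 2 = n then ω else 0) • eN F n 0
    else 0
  have hS0 : ∀ j : Fin n, n - 1 - k ≤ j.val → S j = 0 := by
    intro j hj
    simp only [S, Finset.sum_apply]
    refine Finset.sum_eq_zero fun i hi => ?_
    rw [Finset.mem_range] at hi
    simp [eN]; omega
  have hRn : R n = 0 := by simp [R]
  have hgdet : (Matrix.of fun a : Fin n => R a.val).det = 1 := by
    rw [Matrix.det_of_isLowerTriangular]
    · refine Finset.prod_eq_one fun a _ => ?_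
      show R a.val a = 1
      simp only [R]
      have ha := a.2
      split_ifs with h1 h2 h3 h4 <;>
        simp only [eN, Pi.add_apply, Pi.smul_apply, smul_eq_mul, if_true]
      · rw [hS0 a (by omega), if_neg (show ¬ (a : ℕ) = 0 by omega)]; simp
      · rw [if_neg (show ¬ (a : ℕ) = a - k by omega), if_neg (show ¬ (a : ℕ) = 0 by omega)]; simp
      · rw [if_neg (show ¬ (a : ℕ) = a - k by omega)]; simp
      · rw [if_neg (show ¬ (a : ℕ) = 0 by omega)]; simp
      · simp
    · intro i j (hij : i < j)
      have h : (i : ℕ) < j := hij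
      show R i.val j = 0
      simp only [R]
      split_ifs with h1 h2 h3 h4 <;>
        simp [eN, show ¬ (j : ℕ) = i by omega, show ¬ (j : ℕ) = i - k by omega,
          show ¬ (j : ℕ) = 0 by omega]
      exact hS0 j (by omega)
  let g : Matrix.SpecialLinearGroup (Fin n) F := ⟨_, hgdet⟩
  let Z : ℕ → F := fun j => if j < n then ((j / k : ℕ) : F) + (if n ≤ j + 2 then ω else 0) else 0
  have hZ : ∀ j, n ≤ j → Z j = 0 := fun j hj => by simp [Z, show ¬ j < n by omega]
  let z : Fin n → F := fun j => Z j.val
  let κ : Fin n → F := ∑ i ∈ Finset.range (n - 1 - k), eN F n (i + 1) + ω • (eN F n 0 + eN F n 1) + eN F n 0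
  have hneg : ∀ x : F, -x = x := CharTwo.neg_eq
  have hcast2 : ∀ a : ℕ, ((a : F) + (a : F)) = 0 := fun a => CharTwo.add_self_eq_zero _
  have hzsum : ∀ i, i + 1 < n → Z i + Z (i + 1) =
      (if k ∣ i + 1 then 1 else 0) + (if i + 3 = n then ω else 0) := by
    intro i hi
    simp only [Z, if_pos hi, if_pos (show i < n by omega), Nat.succ_div, Nat.cast_add]
    have := hcast2 (i / k)
    have := CharTwo.add_self_eq_zero ω
    split_ifs <;> first | omega | (simp only [Nat.cast_one, Nat.cast_zero]; linear_combination hcast2 (i / k)) |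
      (simp only [Nat.cast_one, Nat.cast_zero]; linear_combination hcast2 (i / k) + CharTwo.add_self_eq_zero ω)
  have hrow : ∀ i, i < n → eN F n i ᵥ* nMat z κ (eN F n 0) = eN F n (i + 1) +
      (Z i + Z (i + 1)) • eN F n 0 + (if i + 2 = n ∨ i + 1 = n then (1 : F) else 0) • κ :=
    fun i hi => eN_vecMul_nMat (by omega) Z hZ κ _ i hi
  have hκS : κ = ∑ i ∈ Finset.range (n - 1 - k), eN F n (i + 1) + ω • (eN F n 0 + eN F n 1) + eN F n 0 := rfl
  have hshiftS : S + eN F n (n - 1 - k) =
      eN F n 0 + ∑ i ∈ Finset.range (n - 1 - k), eN F n (i + 1) := by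
    rw [← Finset.sum_range_succ, Finset.sum_range_succ', add_comm]
  have haa : ∀ v : Fin n → F, v + v = 0 := fun v => funext fun j => CharTwo.add_self_eq_zero _
  have hgN : g.1 * nMat z κ (eN F n 0) = shiftMat F n * g.1 := by
    refine funext fun a => ?_
    show R a.val ᵥ* nMat z κ (eN F n 0) = (shiftMat F n * Matrix.of (fun a : Fin n => R a.val)) a
    rw [shift_mul_row R hRn]
    have hm := a.2
    generalize a.val = m at hm ⊢
    have hR : ∀ i, i + 2 ≤ n → R i = eN F n i + (if k ≤ i then (1 : F) else 0) • eN F n (i - k) +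
        (if i + 2 = n then ω else 0) • eN F n 0 := by
      intro i hi
      simp only [R, if_neg (show ¬ i + 1 = n by omega), if_pos (show i < n by omega)]
    have hlast : ∀ i, i + 1 = n → R i = eN F n i + ω • eN F n 0 + S := fun i hi => by
      simp only [R, if_pos hi]
    rcases (show m + 3 ≤ n ∨ m + 2 = n ∨ m + 1 = n by omega) with h | h | h
    · rw [hR m (by omega), hR (m + 1) (by omega), if_neg (show ¬ m + 2 = n by omega), zero_smul, add_zero,
        Matrix.add_vecMul, Matrix.smul_vecMul, hrow m (by omega), hzsum m (by omega),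
        if_neg (show ¬ (m + 2 = n ∨ m + 1 = n) by omega)]
      by_cases hkm : k ≤ m
      · obtain ⟨j, rfl⟩ : ∃ j, m = j + k := ⟨m - k, by omega⟩
        rw [if_pos hkm, if_pos (show k ≤ j + k + 1 by omega), Nat.add_sub_cancel,
          show j + k + 1 - k = j + 1 by omega, hrow j (by omega), hzsum j (by omega),
          if_neg (show ¬ (j + 2 = n ∨ j + 1 = n) by omega), if_neg (show ¬ j + 3 = n by omega)]
        have hd : k ∣ j + k + 1 ↔ k ∣ j + 1 := by
          rw [show j + k + 1 = j + 1 + k by omega, Nat.dvd_add_self_right]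
        simp only [hd, show j + k + 1 + 2 = j + k + 3 by omega]
        funext c
        simp only [Pi.add_apply, Pi.smul_apply, smul_eq_mul]
        split_ifs <;> (ring_nf; try simp [h20])
      · rw [if_neg hkm, zero_smul, add_zero]
        simp only [show m + 1 + 2 = m + 3 by omega]
        by_cases hd : k ∣ m + 1
        · have hk1 : m + 1 = k := by
            have := Nat.le_of_dvd (by omega) hd
            omega
          rw [if_pos hd, if_pos (show k ≤ m + 1 by omega), show m + 1 - k = 0 by omega]
          module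
        · have : ¬ k ≤ m + 1 := fun e => hd (by rw [show m + 1 = k by omega])
          rw [if_neg hd, if_neg this]
          module
    · rw [hR m (by omega), hlast (m + 1) (by omega), if_pos h, Matrix.add_vecMul, Matrix.add_vecMul,
        Matrix.smul_vecMul, Matrix.smul_vecMul, hrow m (by omega), hrow 0 (by omega),
        if_pos (show k ≤ m by omega), hrow (m - k) (by omega), hzsum m (by omega),
        hzsum (m - k) (by omega), hzsum 0 (by omega), if_pos (Or.inl h),
        if_neg (show ¬ (0 + 2 = n ∨ 0 + 1 = n) by omega), if_neg (show ¬ (m - k + 2 = n ∨ m - k + 1 = n) by omega),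
        if_neg (show ¬ m + 3 = n by omega), if_neg (show ¬ 0 + 3 = n by omega)]
      have hd : k ∣ m + 1 ↔ k ∣ m - k + 1 := by
        rw [show m + 1 = m - k + 1 + k by omega, Nat.dvd_add_self_right]
      have hk1 : k ∣ 0 + 1 ↔ m - k + 3 = n := by
        rw [Nat.dvd_one]; omega
      rw [hκS, show n - 1 - k = m - k + 1 by omega] at *
      funext c
      have e := congrFun hshiftS c
      have e2 := CharTwo.add_self_eq_zero (eN F n 0 c)
      have e3 := CharTwo.add_self_eq_zero (eN F n (m - k + 1) c)
      have e4 := CharTwo.add_self_eq_zero (eN F n 1 c)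
      simp only [Pi.add_apply, Pi.smul_apply, smul_eq_mul, hd, hk1, zero_add] at e ⊢
      split_ifs <;> linear_combination (norm := (ring_nf; try simp [h20])) (-1 : F) * e + (1 : F) * e3 + ω * e4 + (1 : F) * e2
    · rw [hlast m h, show m + 1 = n by omega, hRn, Matrix.add_vecMul, Matrix.add_vecMul,
        Matrix.smul_vecMul, Matrix.sum_vecMul, hrow m (by omega), hrow 0 (by omega),
        if_pos (Or.inr h), if_neg (show ¬ (0 + 2 = n ∨ 0 + 1 = n) by omega),
        Finset.sum_congr rfl (fun i hi => (hrow i (by rw [Finset.mem_range] at hi; omega)).trans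
          (show _ = eN F n (i + 1) + ((if k ∣ i + 1 then (1 : F) else 0) + (if i + 3 = n then ω else 0)) • eN F n 0 by
            rw [Finset.mem_range] at hi
            rw [hzsum i (by omega), if_neg (show ¬ (i + 2 = n ∨ i + 1 = n) by omega), zero_smul, add_zero])),
        eN_out (show n ≤ m + 1 by omega), hZ (m + 1) (by omega), hzsum 0 (by omega),
        if_neg (show ¬ 0 + 3 = n by omega), Finset.sum_add_distrib, ← Finset.sum_smul,
        Finset.sum_add_distrib]
      have hdiv : ∑ i ∈ Finset.range (n - 1 - k), (if k ∣ i + 1 then (1 : F) else 0) =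
          (((n - 1 - k) / k : ℕ) : F) := by
        rw [← sum_dvd_succ k (n - 1 - k), Nat.cast_sum]
        exact Finset.sum_congr rfl fun i _ => by split_ifs <;> simp
      have hωsum : ∑ i ∈ Finset.range (n - 1 - k), (if i + 3 = n then ω else 0) =
          if k ∣ 0 + 1 then ω else 0 := by
        by_cases hk1 : k ∣ 0 + 1
        · rw [if_pos hk1, Finset.sum_eq_single (n - 3) (fun b _ hb => if_neg (by omega))
            (fun hn3 => absurd (Finset.mem_range.2 (by rw [Nat.dvd_one] at hk1; omega)) hn3),
            if_pos (by omega)]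
        · rw [if_neg hk1]
          refine Finset.sum_eq_zero fun i hi => if_neg ?_
          rw [Finset.mem_range] at hi
          rw [Nat.dvd_one] at hk1
          omega
      have hdk : (m / k : ℕ) = (n - 1 - k) / k + 1 := by
        rw [show m = (n - 1 - k) + k by omega, Nat.add_div_right _ (by omega)]
      rw [hdiv, hωsum]
      simp only [Z, if_pos (show m < n by omega), if_pos (show n ≤ m + 2 by omega), hdk, Nat.cast_add,
        Nat.cast_one, hκS]
      funext c
      have e2 := CharTwo.add_self_eq_zero (eN F n 0 c)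
      have e4 := CharTwo.add_self_eq_zero (eN F n 1 c)
      have e5 := CharTwo.add_self_eq_zero
        ((∑ i ∈ Finset.range (n - 1 - k), eN F n (i + 1)) c)
      simp only [Pi.add_apply, Pi.smul_apply, Pi.zero_apply, smul_eq_mul] at e5 ⊢
      split_ifs <;>
        linear_combination (norm := (ring_nf; try simp [h20])) (((((n - 1 - k) / k : ℕ) : F)) + 1 + ω) * e2 + e5 + ω * e4
  have hz : ∀ i (h : i < n), eN F n i ⬝ᵥ z = Z i := fun i h => eN_dot i h z
  have hz0 : Z 0 = 0 := by simp [Z, show ¬ n ≤ 2 by omega, show 0 < n by omega]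
  have hφ : phi F n (ι 0) = eN F n 0 := by rw [map_zero, phi_zero]
  have hφz : phi F n (ι 0) ⬝ᵥ z = -2 := by
    rw [hφ, hz 0 (by omega), hz0, h20, neg_zero]
  have hκl : κ ⬝ᵥ eN F n (n - 1) = -2 := by
    have e1 := eN_dot_eN (F := F) (n := n) 0 (n - 1) (by omega)
    have e2 := eN_dot_eN (F := F) (n := n) 1 (n - 1) (by omega)
    rw [if_neg (by omega)] at e1 e2
    rw [h20, neg_zero]
    simp only [κ, add_dotProduct, smul_dotProduct, sum_dotProduct, e1, e2, add_zero, smul_zero]
    refine Finset.sum_eq_zero fun i hi => ?_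
    rw [Finset.mem_range] at hi
    rw [eN_dot_eN (i + 1) (n - 1) (by omega), if_neg (by omega)]
  have hκz : κ ⬝ᵥ z = ι 1 := by
    have e1 : eN F n 1 ⬝ᵥ z = if k ∣ 0 + 1 then 1 else 0 := by
      have h01 := hzsum 0 (by omega)
      rw [hz0, zero_add, if_neg (show ¬ 0 + 3 = n by omega), add_zero] at h01
      exact (hz 1 (by omega)).trans h01
    simp only [κ, add_dotProduct, smul_dotProduct, sum_dotProduct, hz 0 (by omega), hz0, e1, zero_add,
      add_zero, smul_eq_mul, map_one]
    rw [Finset.sum_congr rfl (fun i hi => hz (i + 1) (by rw [Finset.mem_range] at hi; omega))]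
    have hsum : ∑ i ∈ Finset.range (n - 1 - k), Z (i + 1) =
        ((∑ i ∈ Finset.range (n - 1 - k + 1), i / k : ℕ) : F) + if k ∣ 0 + 1 then ω else 0 := by
      have : ∀ i ∈ Finset.range (n - 1 - k), Z (i + 1) =
          (((i + 1) / k : ℕ) : F) + if i + 3 = n then ω else 0 := by
        intro i hi
        rw [Finset.mem_range] at hi
        simp only [Z, if_pos (show i + 1 < n by omega)]
        split_ifs <;> first | omega | rfl
      rw [Finset.sum_congr rfl this, Finset.sum_add_distrib, Finset.sum_range_succ', Nat.zero_div,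
        add_zero, Nat.cast_sum]
      congr 1
      by_cases hk1 : k ∣ 0 + 1
      · rw [if_pos hk1, Finset.sum_eq_single (n - 3) (fun b _ hb => if_neg (by omega))
          (fun hn3 => absurd (Finset.mem_range.2 (by rw [Nat.dvd_one] at hk1; omega)) hn3),
          if_pos (by omega)]
      · rw [if_neg hk1]
        refine Finset.sum_eq_zero fun i hi => if_neg ?_
        rw [Finset.mem_range] at hi
        rw [Nat.dvd_one] at hk1
        omega
    obtain ⟨q, hq⟩ := hodd
    rw [hsum, hq, Nat.cast_add, Nat.cast_mul, Nat.cast_one, Nat.cast_two, h20, zero_mul, zero_add]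
    split_ifs
    · linear_combination CharTwo.add_self_eq_zero ω
    · ring
  have htop := closure_top_of_data 2 hn 0 (Or.inl rfl) z κ 1 (((n - 2) / k : ℕ) : ZMod 2) one_ne_zero
    hφz hκl hκz (Or.inr ⟨w, hw, by
      show Z (n - 2) = _
      simp only [Z, if_pos (show n - 2 < n by omega), if_pos (show n ≤ n - 2 + 2 by omega), map_natCast]
      rw [sub_eq_add_neg, hneg]⟩) g u rfl (by rw [hφ]; exact hgN)
  refine ⟨u, g⁻¹, ?_, ?_, by rw [inv_inv]; exact htop⟩
  · show IsNilpotent (1 + shiftMat F n - 1)
    rw [add_sub_cancel_left]; exact shiftMat_nilpotent'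
  · show (1 + shiftMat F n - 1) ^ (n - 1) ≠ 0
    rw [add_sub_cancel_left]; exact shiftMat_pow_pred_ne_zero (by omega)

end Two

end CfsgLib.KnownA
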