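import Mathlib

/-!
The subgroups of index six in the symmetric group of degree six.

Such a subgroup is the image of the symmetric group of degree five, so it is generated by a
5-cycle `c` and an involution `t` with the relations of the symmetric group of degree five.
After conjugating `c` to `c₀`, a computation puts `t` in the stabiliser of `5` or in the
transitive subgroup `X0`.
-/

set_option autoImplicit false

namespace CfsgLib.KnownA.Six

open Equiv Equiv.Perm MulAction

/-- The six transpositions of the projective line over five elements: `5` stands for infinity. -/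
def T (i : Fin 5) (x : Fin 6) : Fin 6 :=
  if (x : ℕ) = 5 then ⟨i, by omega⟩
  else if (x : ℕ) = i then 5
  else ⟨(2 * i.val + 5 - x.val) % 5, by omega⟩

/-- The transitive subgroup of index six: the stabiliser of the five involutions `T i`. -/
def X0M : Submonoid (Perm (Fin 6)) where
  carrier := {g | ∀ i : Fin 5, ∃ j : Fin 5, ∀ x : Fin 6, g (T i x) = T j (g x)}
  one_mem' := fun i => ⟨i, fun _ => rfl⟩
  mul_mem' := fun {g h} hg hh i => by
    obtain ⟨j, hj⟩ := hh i
    obtain ⟨k, hk⟩ := hg j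
    exact ⟨k, fun x => by simp [Perm.mul_apply, hj, hk]⟩

/-- The transitive subgroup of index six. -/
def X0 : Subgroup (Perm (Fin 6)) :=
  { X0M with
    inv_mem' := fun {g} hg => by
      have h : g⁻¹ = g ^ (orderOf g - 1) := inv_eq_of_mul_eq_one_right (by
        rw [← pow_succ', Nat.sub_add_cancel (orderOf_pos g), pow_orderOf_eq_one])
      rw [h]
      exact X0M.pow_mem hg _ }

theorem mem_X0 {g : Perm (Fin 6)} :
    g ∈ X0 ↔ ∀ i : Fin 5, ∃ j : Fin 5, ∀ x : Fin 6, g (T i x) = T j (g x) := Iff.rfl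

instance : DecidablePred (· ∈ X0) := fun _ => decidable_of_iff _ mem_X0.symm

/-- A 5-cycle in `X0`. -/
def c₀ : Perm (Fin 6) := ⟨![1, 2, 3, 4, 0, 5], ![4, 0, 1, 2, 3, 5], by decide, by decide⟩

/-- An element of `X0` moving `5`. -/
def d₀ : Perm (Fin 6) := ⟨![0, 1, 3, 4, 5, 2], ![0, 1, 5, 2, 3, 4], by decide, by decide⟩

theorem c₀_mem : c₀ ∈ X0 := by decide +kernel
theorem d₀_mem : d₀ ∈ X0 := by decide +kernel

theorem swap_mul_mem_unique :
    ∀ i j : Fin 6, i ≠ j → (swap 5 i)⁻¹ * swap 5 j ∉ X0 := by decide +kernel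

theorem swap_step :
    ∀ (k : Fin 5) (i : Fin 6), ∃ j : Fin 6,
      (swap 5 j)⁻¹ * (swap k.castSucc k.succ * swap 5 i) ∈ X0 := by decide +kernel

theorem exists_coset (g : Perm (Fin 6)) : ∃ i : Fin 6, (swap 5 i)⁻¹ * g ∈ X0 := by
  have hg : g ∈ Submonoid.closure (Set.range fun i : Fin 5 ↦ swap i.castSucc i.succ) := by
    rw [mclosure_swap_castSucc_succ]; exact Submonoid.mem_top _
  have key : ∀ i : Fin 6, ∃ j : Fin 6, (swap 5 j)⁻¹ * (g * swap 5 i) ∈ X0 := by
    induction hg using Submonoid.closure_induction with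
    | mem s hs => obtain ⟨k, rfl⟩ := hs; exact swap_step k
    | one => exact fun i => ⟨i, by rw [one_mul, inv_mul_cancel]; exact one_mem _⟩
    | mul u v _ _ hu hv =>
      intro i
      obtain ⟨j, hj⟩ := hv i
      obtain ⟨l, hl⟩ := hu j
      refine ⟨l, ?_⟩
      have := X0.mul_mem hl hj
      rwa [show (swap 5 l)⁻¹ * (u * swap 5 j) * ((swap 5 j)⁻¹ * (v * swap 5 i)) =
        (swap 5 l)⁻¹ * (u * v * swap 5 i) by group] at this
  obtain ⟨j, hj⟩ := key 5
  rw [swap_self] at hj
  exact ⟨j, by rwa [show (g * Equiv.refl (Fin 6)) = g from mul_one g] at hj⟩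

theorem index_X0 : X0.index = 6 := by
  have hb : Function.Bijective fun i : Fin 6 => (QuotientGroup.mk (swap 5 i) : Perm (Fin 6) ⧸ X0) := by
    refine ⟨fun i j h => ?_, fun q => ?_⟩
    · by_contra hne
      exact swap_mul_mem_unique i j hne (QuotientGroup.eq.1 h)
    · obtain ⟨g, rfl⟩ := QuotientGroup.mk_surjective q
      obtain ⟨i, hi⟩ := exists_coset g
      exact ⟨i, QuotientGroup.eq.2 hi⟩
  rw [Subgroup.index, ← Nat.card_eq_of_bijective _ hb, Nat.card_eq_fintype_card, Fintype.card_fin]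

theorem index_stab (a : Fin 6) : (stabilizer (Perm (Fin 6)) a).index = 6 := by
  rw [index_stabilizer_of_transitive, Nat.card_eq_fintype_card, Fintype.card_fin]

theorem involution_cases :
    ∀ t : Perm (Fin 6), t * t = 1 → (c₀ * t) ^ 4 = 1 → (c₀ * t * c₀⁻¹ * t) ^ 3 = 1 →
      t 5 = 5 ∨ t ∈ X0 := by decide +kernel

theorem eq_of_le_index {H K : Subgroup (Perm (Fin 6))} (h : H ≤ K) (hH : H.index = 6)
    (hK : K.index = 6) : H = K := by
  refine Subgroup.eq_of_le_of_card_ge h (le_of_eq ?_)
  have h1 := K.card_mul_index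
  rw [hK, ← H.card_mul_index, hH] at h1
  omega

/-- Every subgroup of index six is the isomorphic image of the symmetric group of degree five. -/
theorem exists_hom {Ω : Type*} [Fintype Ω] [DecidableEq Ω] (h6 : Fintype.card Ω = 6)
    (H : Subgroup (Perm Ω)) (hH : H.index = 6) :
    ∃ ι : Perm (Fin 5) →* Perm Ω, Function.Injective ι ∧ ι.range = H := by
  classical
  haveI : Fintype (Perm Ω ⧸ H) := Fintype.ofFinite _
  have hq : Fintype.card (Perm Ω ⧸ H) = Fintype.card (Fin 6) := by
    rw [← Nat.card_eq_fintype_card, ← Subgroup.index, hH, Fintype.card_fin]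
  let q₀ : Perm Ω ⧸ H := QuotientGroup.mk 1
  let e₀ := Fintype.equivOfCardEq hq
  let e := e₀.trans (swap (e₀ q₀) 5)
  have he : e q₀ = 5 := by simp [e]
  let φ : Perm Ω →* Perm (Fin 6) :=
    e.permCongrHom.toMonoidHom.comp (toPermHom (Perm Ω) (Perm Ω ⧸ H))
  have hφ : ∀ (g : Perm Ω) q, φ g (e q) = e (g • q) := fun g q => by
    simp [φ, Equiv.permCongr_apply]
  have hker : φ.ker = ⊥ := by
    by_contra hne
    haveI : Nontrivial φ.ker := (Subgroup.nontrivial_iff_ne_bot _).2 hne
    have hle := alternatingGroup_le_of_normal (α := Ω)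
      (by rw [Nat.card_eq_fintype_card]; omega) (N := φ.ker) inferInstance
    have hH' : alternatingGroup Ω ≤ H := fun g hg => by
      have h2 := hφ g q₀
      rw [MonoidHom.mem_ker.1 (hle hg), Perm.one_apply] at h2
      have h3 := (e.injective h2).symm
      rw [Quotient.smul_mk, smul_eq_mul, mul_one, QuotientGroup.eq, mul_one] at h3
      simpa using h3
    haveI : Nontrivial Ω := Fintype.one_lt_card_iff_nontrivial.1 (by omega)
    have := Subgroup.index_dvd_of_le hH'
    rw [hH, alternatingGroup.index_eq_two] at this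
    exact absurd (Nat.le_of_dvd two_pos this) (by omega)
  have hinj : Function.Injective φ := (MonoidHom.ker_eq_bot_iff _).1 hker
  have hbij : Function.Bijective φ := hinj.bijective_of_nat_card_le (le_of_eq (by
    rw [Nat.card_perm, Nat.card_perm, Nat.card_eq_fintype_card, Nat.card_eq_fintype_card, h6,
      Fintype.card_fin]))
  let Φ := MulEquiv.ofBijective φ hbij
  have hmem : ∀ g, g ∈ H ↔ φ g 5 = 5 := fun g => by
    rw [← he, hφ, e.injective.eq_iff, Quotient.smul_mk, smul_eq_mul, mul_one, QuotientGroup.eq,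
      mul_one, inv_mem_iff]
  let f : Fin 5 ≃ {x : Fin 6 // x ≠ 5} :=
    (finSuccAboveEquiv (5 : Fin 6)).trans (Equiv.subtypeEquivRight fun _ => Iff.rfl)
  let x : Perm (Fin 5) →* Perm (Fin 6) := extendDomainHom f
  have hxle : x.range ≤ stabilizer (Perm (Fin 6)) (5 : Fin 6) := by
    rintro _ ⟨g, rfl⟩
    exact extendDomain_apply_not_subtype _ _ (by simp)
  have hxinj : Function.Injective x := extendDomainHom_injective f
  have hx : x.range = stabilizer (Perm (Fin 6)) (5 : Fin 6) := by
    refine Subgroup.eq_of_le_of_card_ge hxle (le_of_eq ?_)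
    have h1 := (stabilizer (Perm (Fin 6)) (5 : Fin 6)).card_mul_index
    rw [index_stab, Nat.card_perm, Nat.card_eq_fintype_card (α := Fin 6), Fintype.card_fin,
      show Nat.factorial 6 = 720 from rfl] at h1
    rw [← Nat.card_congr (MonoidHom.ofInjective hxinj).toEquiv, Nat.card_perm,
      Nat.card_eq_fintype_card (α := Fin 5), Fintype.card_fin, show Nat.factorial 5 = 120 from rfl]
    omega
  refine ⟨Φ.symm.toMonoidHom.comp x, Φ.symm.injective.comp hxinj, ?_⟩
  ext g
  rw [hmem]
  change _ ↔ φ g ∈ stabilizer (Perm (Fin 6)) (5 : Fin 6)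
  rw [← hx]
  constructor
  · rintro ⟨s, rfl⟩
    exact ⟨s, (Φ.apply_symm_apply (x s)).symm⟩
  · rintro ⟨s, hs⟩
    exact ⟨s, by
      show Φ.symm (x s) = g
      rw [hs]
      exact Φ.symm_apply_apply g⟩

/-- Up to conjugacy there are two subgroups of index six. -/
theorem exists_conj (H : Subgroup (Perm (Fin 6))) (hH : H.index = 6) :
    ∃ g : Perm (Fin 6), H.map (MulAut.conj g).toMonoidHom = stabilizer (Perm (Fin 6)) (5 : Fin 6) ∨
      H.map (MulAut.conj g).toMonoidHom = X0 := by
  classical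
  obtain ⟨ι, hι, rfl⟩ := exists_hom (Fintype.card_fin 6) H hH
  have hc5 : orderOf (finRotate 5) = 5 := by
    rw [← lcm_cycleType, cycleType_finRotate]; rfl
  have hct : ∀ c : Perm (Fin 6), orderOf c = 5 → c.cycleType = {5} := by
    intro c hc
    obtain ⟨m, hm⟩ := cycleType_prime_order (σ := c) (by rw [hc]; norm_num)
    have h1 := c.support.card_le_univ
    rw [← sum_cycleType, hm, hc, Multiset.sum_replicate, smul_eq_mul, Fintype.card_fin] at h1
    rw [hm, hc, show m = 0 by omega]
    rfl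
  obtain ⟨g, hg⟩ := isConj_iff.1 (isConj_iff_cycleType_eq.2
    ((hct _ (by rw [orderOf_injective ι hι, hc5])).trans
      (hct c₀ (orderOf_eq_prime (hp := ⟨by norm_num⟩) (by decide +kernel) (by decide +kernel))).symm))
  set ψ : Perm (Fin 5) →* Perm (Fin 6) := (MulAut.conj g).toMonoidHom.comp ι with hψ
  have hψc : ψ (finRotate 5) = c₀ := by simpa [hψ] using hg
  set t := ψ (swap 0 1)
  have h1 : t * t = 1 := by rw [← map_mul, swap_mul_self, map_one]
  have h2 : (c₀ * t) ^ 4 = 1 := by
    rw [← hψc, ← map_mul, ← map_pow,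
      show (finRotate 5 * swap (0 : Fin 5) 1) ^ 4 = 1 by decide +kernel, map_one]
  have h3 : (c₀ * t * c₀⁻¹ * t) ^ 3 = 1 := by
    rw [← hψc, ← map_inv, ← map_mul, ← map_mul, ← map_mul, ← map_pow,
      show (finRotate 5 * swap (0 : Fin 5) 1 * (finRotate 5)⁻¹ * swap 0 1) ^ 3 = 1 by decide +kernel,
      map_one]
  have hgen : ι.range.map (MulAut.conj g).toMonoidHom = Subgroup.closure {c₀, t} := by
    have htop : Subgroup.closure {finRotate 5, swap (0 : Fin 5) 1} = ⊤ := by
      have := closure_cycle_adjacent_swap (isCycle_finRotate (n := 3)) (support_finRotate (n := 3))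
        (0 : Fin 5)
      simpa using this
    rw [MonoidHom.map_range, ← hψ, MonoidHom.range_eq_map, ← htop, MonoidHom.map_closure,
      Set.image_pair, hψc]
  have hidx : (ι.range.map (MulAut.conj g).toMonoidHom).index = 6 := by
    rw [Subgroup.index_map_of_bijective (f := (MulAut.conj g).toMonoidHom) (MulAut.conj g).bijective]
    exact hH
  rcases involution_cases t h1 h2 h3 with h | h
  · refine ⟨g, Or.inl (eq_of_le_index ?_ hidx (index_stab 5))⟩
    rw [hgen, Subgroup.closure_le]
    rintro _ (rfl | rfl)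
    · exact (by decide +kernel : c₀ 5 = 5)
    · exact h
  · refine ⟨g, Or.inr (eq_of_le_index ?_ hidx index_X0)⟩
    rw [hgen, Subgroup.closure_le]
    rintro _ (rfl | rfl)
    · exact c₀_mem
    · exact h

/-- `X0` fixes no point. -/
theorem X0_ne_stab (a : Fin 6) : X0 ≠ stabilizer (Perm (Fin 6)) a := by
  intro h
  have hc : c₀ a = a := (h ▸ c₀_mem : c₀ ∈ stabilizer (Perm (Fin 6)) a)
  have hd : d₀ a = a := (h ▸ d₀_mem : d₀ ∈ stabilizer (Perm (Fin 6)) a)
  clear h
  revert hc hd
  revert a
  decide +kernel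

theorem map_conj_stab {Ω : Type*} (g : Perm Ω) (a : Ω) :
    (stabilizer (Perm Ω) a).map (MulAut.conj g).toMonoidHom = stabilizer (Perm Ω) (g a) :=
  (stabilizer_smul_eq_stabilizer_map_conj g a).symm

theorem map_conj_stab_ne_X0 (g : Perm (Fin 6)) (a : Fin 6) :
    (stabilizer (Perm (Fin 6)) a).map (MulAut.conj g).toMonoidHom ≠ X0 := by
  rw [map_conj_stab]
  exact fun h => X0_ne_stab _ h.symm

theorem conj_X0_distinct :
    ∀ i j : Fin 6, i ≠ j →
      ((swap 5 i)⁻¹ * swap 5 j) * c₀ * ((swap 5 i)⁻¹ * swap 5 j)⁻¹ ∉ X0 := by decide +kernel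

end CfsgLib.KnownA.Six
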