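import Cfsg.Agent.Lib.KnownA.ThreeGen

/-!
# Transvections as elements of `SL`, transitivity, stabilised lines and full transvection groups

Preparations for the smallest index of a proper subgroup of `SL_n`.
-/

set_option autoImplicit false

namespace CfsgLib.KnownA.MinIndex

open Matrix CfsgLib.KnownA

variable {F : Type*} [Field F] {n : ℕ}

/-- The transvection `1 + a φ`. -/
def tS (a φ : Fin n → F) (h : φ ⬝ᵥ a = 0) : SpecialLinearGroup (Fin n) F :=
  ⟨1 + vecMulVec a φ, by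
    rw [vecMulVec_eq Unit, det_one_add_replicateCol_mul_replicateRow, h, add_zero]⟩

theorem tS_mulVec (a φ : Fin n → F) (h : φ ⬝ᵥ a = 0) (x : Fin n → F) :
    (tS a φ h).1 *ᵥ x = x + (φ ⬝ᵥ x) • a := by
  show (1 + vecMulVec a φ) *ᵥ x = _
  rw [add_mulVec, one_mulVec, vecMulVec_mulVec, op_smul_eq_smul]

theorem tS_vecMul (a φ : Fin n → F) (h : φ ⬝ᵥ a = 0) (x : Fin n → F) :
    x ᵥ* (tS a φ h).1 = x + (x ⬝ᵥ a) • φ := by
  show x ᵥ* (1 + vecMulVec a φ) = _
  rw [vecMul_add, vecMul_one, vecMul_vecMulVec]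

theorem sl_ext {g k : SpecialLinearGroup (Fin n) F} (h : ∀ x, g.1 *ᵥ x = k.1 *ᵥ x) : g = k :=
  Subtype.ext (Matrix.ext_iff_mulVec.2 h)

theorem val_mul (g k : SpecialLinearGroup (Fin n) F) : (g * k).1 = g.1 * k.1 := rfl

theorem val_one : (1 : SpecialLinearGroup (Fin n) F).1 = 1 := rfl

theorem sl_mul_mulVec (g k : SpecialLinearGroup (Fin n) F) (x : Fin n → F) :
    (g * k).1 *ᵥ x = g.1 *ᵥ (k.1 *ᵥ x) := by
  rw [mulVec_mulVec, val_mul]

theorem sl_inv_mulVec (g : SpecialLinearGroup (Fin n) F) (x : Fin n → F) :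
    (g⁻¹).1 *ᵥ (g.1 *ᵥ x) = x := by
  rw [← sl_mul_mulVec, inv_mul_cancel, val_one, one_mulVec]

theorem sl_mulVec_inv (g : SpecialLinearGroup (Fin n) F) (x : Fin n → F) :
    g.1 *ᵥ ((g⁻¹).1 *ᵥ x) = x := by
  rw [← sl_mul_mulVec, mul_inv_cancel, val_one, one_mulVec]

/-- Conjugate of a transvection. -/
theorem conj_tS (g : SpecialLinearGroup (Fin n) F) (a φ : Fin n → F) (h : φ ⬝ᵥ a = 0)
    (b ψ : Fin n → F) (h' : ψ ⬝ᵥ b = 0) (hb : g.1 *ᵥ a = b) (hψ : ψ ᵥ* g.1 = φ) :
    g * tS a φ h = tS b ψ h' * g := by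
  refine sl_ext fun x => ?_
  rw [sl_mul_mulVec, sl_mul_mulVec, tS_mulVec, tS_mulVec, mulVec_add, mulVec_smul, hb,
    dotProduct_mulVec, hψ]

theorem inT_iff {G : Subgroup (SpecialLinearGroup (Fin n) F)} {a φ : Fin n → F} :
    InT G a φ ↔ ∃ h : φ ⬝ᵥ a = 0, tS a φ h ∈ G := by
  constructor
  · rintro ⟨h, g, hg, hge⟩
    exact ⟨h, (Subtype.ext hge : g = tS a φ h) ▸ hg⟩
  · rintro ⟨h, hg⟩
    exact ⟨h, _, hg, rfl⟩

theorem exists_functional (W : Submodule F (Fin n → F)) {x : Fin n → F} (hx : x ∉ W) :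
    ∃ φ : Fin n → F, φ ⬝ᵥ x = 1 ∧ ∀ w ∈ W, φ ⬝ᵥ w = 0 := by
  obtain ⟨f, hfx, hf⟩ := Submodule.exists_le_ker_of_notMem hx
  have key : ∀ y, (fun i => (f x)⁻¹ * f (Pi.single i 1)) ⬝ᵥ y = (f x)⁻¹ * f y := by
    intro y
    conv_rhs => rw [pi_eq_sum_univ' y, map_sum]
    rw [dotProduct, Finset.mul_sum]
    refine Finset.sum_congr rfl fun i _ => ?_
    rw [map_smul, smul_eq_mul]
    ring
  exact ⟨fun i => (f x)⁻¹ * f (Pi.single i 1), by rw [key, inv_mul_cancel₀ hfx],
    fun w hw => by rw [key, LinearMap.mem_ker.mp (hf hw), mul_zero]⟩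

/-- `SL` moves any non-zero vector to any other. -/
theorem exists_map (hn : 2 ≤ n) {x y : Fin n → F} (hx : x ≠ 0) (hy : y ≠ 0) :
    ∃ g : SpecialLinearGroup (Fin n) F, g.1 *ᵥ x = y := by
  have step : ∀ {u v : Fin n → F}, u ≠ 0 → v ∉ Submodule.span F {u} →
      ∃ g : SpecialLinearGroup (Fin n) F, g.1 *ᵥ u = v := by
    intro u v hu hv
    have hu' : u ∉ Submodule.span F {v - u} := by
      intro h
      obtain ⟨c, hc⟩ := Submodule.mem_span_singleton.mp h
      rcases eq_or_ne c 0 with rfl | hc0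
      · exact hu (by rw [← hc, zero_smul])
      · apply hv
        refine Submodule.mem_span_singleton.mpr ⟨c⁻¹ + 1, ?_⟩
        have h1 : c⁻¹ • u = v - u := by
          conv_lhs => rw [← hc]
          rw [smul_smul, inv_mul_cancel₀ hc0, one_smul]
        rw [add_smul, one_smul, h1, sub_add_cancel]
    obtain ⟨φ, hφu, hφ⟩ := exists_functional _ hu'
    refine ⟨tS (v - u) φ (hφ _ (Submodule.subset_span rfl)), ?_⟩
    rw [tS_mulVec, hφu, one_smul, add_sub_cancel]
  by_cases h : y ∈ Submodule.span F {x}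
  · obtain ⟨c, rfl⟩ := Submodule.mem_span_singleton.mp h
    have hc : c ≠ 0 := by rintro rfl; simp at hy
    have hne : Submodule.span F {x} ≠ ⊤ := by
      intro ht
      have h1 := finrank_span_singleton (K := F) hx
      rw [ht, finrank_top, Module.finrank_fin_fun] at h1
      omega
    obtain ⟨z, hz⟩ : ∃ z, z ∉ Submodule.span F {x} := by
      by_contra hc'
      push Not at hc'
      exact hne (eq_top_iff.2 fun z _ => hc' z)
    have hz0 : z ≠ 0 := fun h0 => hz (h0 ▸ Submodule.zero_mem _)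
    obtain ⟨g, hg⟩ := step hx hz
    have h' : c • x ∉ Submodule.span F {z} := by
      intro h'
      obtain ⟨d, hd⟩ := Submodule.mem_span_singleton.mp h'
      rcases eq_or_ne d 0 with rfl | hd0
      · rw [zero_smul] at hd; exact hy hd.symm
      · exact hz (Submodule.mem_span_singleton.mpr ⟨d⁻¹ * c, by
          rw [mul_smul, ← hd, smul_smul, inv_mul_cancel₀ hd0, one_smul]⟩)
    obtain ⟨g', hg'⟩ := step hz0 h'
    exact ⟨g' * g, by rw [sl_mul_mulVec, hg, hg']⟩
  · exact step hx h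

theorem exists_map_row (hn : 2 ≤ n) {x y : Fin n → F} (hx : x ≠ 0) (hy : y ≠ 0) :
    ∃ g : SpecialLinearGroup (Fin n) F, x ᵥ* g.1 = y := by
  obtain ⟨g, hg⟩ := exists_map hn hx hy
  exact ⟨⟨g.1ᵀ, by rw [det_transpose]; exact g.2⟩, by rw [vecMul_transpose, hg]⟩

/-- A subgroup fixing a line has index at least the number of lines. -/
theorem index_bound_of_line [Finite F] (hn : 2 ≤ n) (H : Subgroup (SpecialLinearGroup (Fin n) F))
    {v : Fin n → F} (hv : v ≠ 0) (h : ∀ g ∈ H, ∃ c : F, g.1 *ᵥ v = c • v) :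
    Nat.card F ^ n - 1 ≤ H.index * (Nat.card F - 1) := by
  classical
  have := Fintype.ofFinite F
  let f : (SpecialLinearGroup (Fin n) F ⧸ H) × Fˣ → {w : Fin n → F // w ≠ 0} :=
    fun p => ⟨(p.2 : F) • (p.1.out.1 *ᵥ v), smul_ne_zero p.2.ne_zero fun h0 => hv (by
      rw [← sl_inv_mulVec p.1.out v, h0, mulVec_zero])⟩
  have hf : Function.Surjective f := by
    rintro ⟨w, hw⟩
    obtain ⟨g, hg⟩ := exists_map hn hv hw
    obtain ⟨k, hk⟩ := QuotientGroup.mk_out_eq_mul H g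
    obtain ⟨c, hc⟩ := h k k.2
    have hc0 : c ≠ 0 := by
      rintro rfl
      rw [zero_smul] at hc
      exact hv (by rw [← sl_inv_mulVec (k : SpecialLinearGroup (Fin n) F) v, hc, mulVec_zero])
    refine ⟨(QuotientGroup.mk g, (Units.mk0 c hc0)⁻¹), Subtype.ext ?_⟩
    show ((Units.mk0 c hc0)⁻¹ : Fˣ).val • ((QuotientGroup.mk g : _ ⧸ H).out.1 *ᵥ v) = w
    rw [hk, sl_mul_mulVec, hc, mulVec_smul, hg, smul_smul, Units.val_inv_eq_inv_val,
      Units.val_mk0, inv_mul_cancel₀ hc0, one_smul]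
  have h1 := Nat.card_le_card_of_surjective f hf
  rw [Nat.card_prod, Nat.card_units, ← Subgroup.index_eq_card] at h1
  have h2 : Nat.card {w : Fin n → F // w ≠ 0} = Nat.card F ^ n - 1 := by
    rw [Nat.card_eq_fintype_card, Fintype.card_subtype_compl, Fintype.card_subtype_eq,
      Fintype.card_fun, Fintype.card_fin, Nat.card_eq_fintype_card]
  rwa [h2] at h1

/-- The same for a line of functionals. -/
theorem index_bound_of_hyperplane [Finite F] (hn : 2 ≤ n) (H : Subgroup (SpecialLinearGroup (Fin n) F))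
    {φ : Fin n → F} (hφ : φ ≠ 0) (h : ∀ g ∈ H, ∃ c : F, φ ᵥ* g.1 = c • φ) :
    Nat.card F ^ n - 1 ≤ H.index * (Nat.card F - 1) := by
  classical
  have := Fintype.ofFinite F
  let f : (SpecialLinearGroup (Fin n) F ⧸ H) × Fˣ → {w : Fin n → F // w ≠ 0} :=
    fun p => ⟨(p.2 : F) • (φ ᵥ* (p.1.out⁻¹).1), smul_ne_zero p.2.ne_zero fun h0 => hφ (by
      have h1 := congrArg (fun z => z ᵥ* p.1.out.1) h0
      simp only [vecMul_vecMul, ← val_mul, inv_mul_cancel, val_one,
        vecMul_one, zero_vecMul] at h1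
      exact h1)⟩
  have hf : Function.Surjective f := by
    rintro ⟨w, hw⟩
    obtain ⟨g, hg⟩ := exists_map_row hn hφ hw
    obtain ⟨k, hk⟩ := QuotientGroup.mk_out_eq_mul H g⁻¹
    obtain ⟨c, hc⟩ := h _ (inv_mem k.2)
    have hc0 : c ≠ 0 := by
      rintro rfl
      rw [zero_smul] at hc
      apply hφ
      have h1 := congrArg (fun z => z ᵥ* (k : SpecialLinearGroup (Fin n) F).1) hc
      simp only [vecMul_vecMul, ← val_mul, inv_mul_cancel, val_one,
        vecMul_one, zero_vecMul] at h1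
      exact h1
    refine ⟨(QuotientGroup.mk g⁻¹, (Units.mk0 c hc0)⁻¹), Subtype.ext ?_⟩
    show ((Units.mk0 c hc0)⁻¹ : Fˣ).val • (φ ᵥ* ((QuotientGroup.mk g⁻¹ : _ ⧸ H).out⁻¹).1) = w
    rw [hk, _root_.mul_inv_rev, inv_inv, val_mul, ← vecMul_vecMul, hc,
      smul_vecMul, hg, smul_smul, Units.val_inv_eq_inv_val, Units.val_mk0, inv_mul_cancel₀ hc0,
      one_smul]
  have h1 := Nat.card_le_card_of_surjective f hf
  rw [Nat.card_prod, Nat.card_units, ← Subgroup.index_eq_card] at h1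
  have h2 : Nat.card {w : Fin n → F // w ≠ 0} = Nat.card F ^ n - 1 := by
    rw [Nat.card_eq_fintype_card, Fintype.card_subtype_compl, Fintype.card_subtype_eq,
      Fintype.card_fun, Fintype.card_fin, Nat.card_eq_fintype_card]
  rwa [h2] at h1

theorem InT.smul_swap {G : Subgroup (SpecialLinearGroup (Fin n) F)} {v φ : Fin n → F} (c : F)
    (h : InT G v (c • φ)) (hc : φ ⬝ᵥ v = 0) : InT G (c • v) φ := by
  obtain ⟨-, g, hg, hge⟩ := h
  exact ⟨by rw [dotProduct_smul, hc, smul_zero], g, hg, by rw [hge, vecMulVec_smul, smul_vecMulVec]⟩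

/-- A proper subgroup containing all transvections with a given centre stabilises a proper subspace. -/
theorem exists_invariant_subspace (hn : 2 ≤ n) (H : Subgroup (SpecialLinearGroup (Fin n) F)) (hH : H ≠ ⊤)
    {v : Fin n → F} (hv : v ≠ 0) (hfull : ∀ φ, φ ⬝ᵥ v = 0 → InT H v φ) :
    ∃ W : Submodule F (Fin n → F), W ≠ ⊥ ∧ W ≠ ⊤ ∧ ∀ g ∈ H, ∀ w ∈ W, g.1 *ᵥ w ∈ W := by
  let W : Submodule F (Fin n → F) :=
    { carrier := {w | ∀ φ, φ ⬝ᵥ w = 0 → InT H w φ}
      zero_mem' := fun φ _ => ⟨dotProduct_zero φ, 1, one_mem H, by simp⟩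
      smul_mem' := by
        intro c w hw φ hφ
        rcases eq_or_ne c 0 with rfl | hc
        · exact ⟨hφ, 1, one_mem H, by simp⟩
        have h0 : φ ⬝ᵥ w = 0 := by
          rw [dotProduct_smul, smul_eq_mul, mul_eq_zero] at hφ
          exact hφ.resolve_left hc
        exact InT.smul_swap c (hw _ (by rw [smul_dotProduct, h0, smul_zero])) h0
      add_mem' := by
        intro x y hx hy φ hφ
        rcases eq_or_ne x 0 with rfl | hx0
        · rw [zero_add] at hφ ⊢; exact hy φ hφ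
        by_cases hyx : y ∈ Submodule.span F {x}
        · obtain ⟨c, rfl⟩ := Submodule.mem_span_singleton.mp hyx
          rw [show x + c • x = (1 + c) • x by rw [add_smul, one_smul]] at hφ ⊢
          rcases eq_or_ne (1 + c) 0 with hc | hc
          · exact ⟨hφ, 1, one_mem H, by rw [hc]; simp⟩
          have h0 : φ ⬝ᵥ x = 0 := by
            rw [dotProduct_smul, smul_eq_mul, mul_eq_zero] at hφ
            exact hφ.resolve_left hc
          exact InT.smul_swap _ (hx _ (by rw [smul_dotProduct, h0, smul_zero])) h0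
        · obtain ⟨χ, hχy, hχ⟩ := exists_functional _ hyx
          obtain ⟨-, g, hg, hge⟩ := hx χ (hχ x (Submodule.subset_span rfl))
          have hgy : g.1 *ᵥ y = x + y := by
            rw [hge, add_mulVec, one_mulVec, vecMulVec_mulVec, op_smul_eq_smul, hχy, one_smul, add_comm]
          have hψ : (φ ᵥ* g.1) ⬝ᵥ y = 0 := by rw [← dotProduct_mulVec, hgy, hφ]
          exact ((hy _ hψ).conj hg rfl).cast hgy rfl }
  refine ⟨W, fun h => hv ?_, fun h => hH ?_, ?_⟩
  · have h1 : v ∈ W := hfull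
    rw [h] at h1
    exact (Submodule.mem_bot F).mp h1
  · refine CfsgLib.Classical.eq_top_of_transvection_mem H fun i j hij c => InE.mem hij ?_
    have h1 : Pi.single i (1 : F) ∈ W := h ▸ Submodule.mem_top
    exact h1 _ (by simp [hij])
  · intro g hg w hw φ hφ
    exact (hw (φ ᵥ* g.1) (by rw [← dotProduct_mulVec, hφ])).conj hg rfl

end CfsgLib.KnownA.MinIndex
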