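import Cfsg.Agent.Lib.KnownA.MinIndexBase

/-!
# Orbits of a transvection group in a small permutation representation

If `SL_{m+1}(q)` acts on fewer than `(q^{m+1}-1)/(q-1)` points, then the orbits of the group of
transvections with a fixed centre have a very restricted shape.
-/

set_option autoImplicit false

namespace CfsgLib.KnownA.MinIndex

open Matrix CfsgLib.KnownA

variable {F : Type*} [Field F] {m : ℕ}

theorem cons_add (a b : Fin m → F) :
    (Fin.cons 0 (a + b) : Fin (m + 1) → F) = Fin.cons 0 a + Fin.cons 0 b := by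
  funext i; refine Fin.cases ?_ (fun j => ?_) i <;> simp

theorem cons_smul (c : F) (a : Fin m → F) :
    (Fin.cons 0 (c • a) : Fin (m + 1) → F) = c • Fin.cons 0 a := by
  funext i; refine Fin.cases ?_ (fun j => ?_) i <;> simp

theorem cons_dot (a b : Fin m → F) :
    (Fin.cons 0 a : Fin (m + 1) → F) ⬝ᵥ Fin.cons 0 b = a ⬝ᵥ b := by
  simp [dotProduct, Fin.sum_univ_succ]

theorem cons_dot_e (a : Fin m → F) :
    (Fin.cons 0 a : Fin (m + 1) → F) ⬝ᵥ Pi.single 0 1 = 0 := by simp

/-- The transvection `1 + e₀ (0,a)`. -/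
def qe (a : Fin m → F) : SpecialLinearGroup (Fin (m + 1)) F :=
  tS (Pi.single 0 1) (Fin.cons 0 a) (cons_dot_e a)

/-- The transvection `1 + (0,b) (0,ψ)`. -/
def tv0 (b ψ : Fin m → F) (h : ψ ⬝ᵥ b = 0) : SpecialLinearGroup (Fin (m + 1)) F :=
  tS (Fin.cons 0 b) (Fin.cons 0 ψ) (by rw [cons_dot, h])

theorem qe_add (a b : Fin m → F) : qe (a + b) = qe a * qe b := by
  refine sl_ext fun x => ?_
  simp only [qe, sl_mul_mulVec, tS_mulVec, cons_add, add_dotProduct, dotProduct_add, dotProduct_smul,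
    cons_dot_e]
  module

theorem qe_zero : qe (0 : Fin m → F) = 1 := by
  have h := qe_add (0 : Fin m → F) 0
  rw [add_zero] at h
  exact left_eq_mul.mp h

theorem qe_neg (a : Fin m → F) : qe (-a) = (qe a)⁻¹ := by
  rw [eq_inv_iff_mul_eq_one, ← qe_add, neg_add_cancel, qe_zero]

theorem tv0_mul_qe (b ψ : Fin m → F) (h : ψ ⬝ᵥ b = 0) (a : Fin m → F) :
    tv0 b ψ h * qe a = qe (a - (a ⬝ᵥ b) • ψ) * tv0 b ψ h := by
  refine conj_tS _ _ _ _ _ _ _ ?_ ?_
  · rw [tv0, tS_mulVec, cons_dot_e, zero_smul, add_zero]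
  · rw [tv0, tS_vecMul, cons_dot, sub_dotProduct, smul_dotProduct, h, smul_zero, sub_zero, ← cons_smul,
      ← cons_add, sub_add_cancel]

/-- All non-trivial `qe a` are conjugate. -/
theorem exists_conj (hm : 2 ≤ m) {a a' : Fin m → F} (ha : a ≠ 0) (ha' : a' ≠ 0) :
    ∃ g : SpecialLinearGroup (Fin (m + 1)) F, g * qe a = qe a' * g := by
  have step : ∀ {u v : Fin m → F}, u ≠ 0 → v ∉ Submodule.span F {u} →
      ∃ g : SpecialLinearGroup (Fin (m + 1)) F, g * qe u = qe v * g := by
    intro u v hu hv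
    have hu' : u ∉ Submodule.span F {u - v} := by
      intro h
      obtain ⟨c, hc⟩ := Submodule.mem_span_singleton.mp h
      rcases eq_or_ne c 0 with rfl | hc0
      · exact hu (by rw [← hc, zero_smul])
      · apply hv
        refine Submodule.mem_span_singleton.mpr ⟨1 - c⁻¹, ?_⟩
        have h1 : c⁻¹ • u = u - v := by
          conv_lhs => rw [← hc]
          rw [smul_smul, inv_mul_cancel₀ hc0, one_smul]
        rw [sub_smul, one_smul, h1, sub_sub_cancel]
    obtain ⟨b, hbu, hb⟩ := exists_functional _ hu'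
    have h0 : (u - v) ⬝ᵥ b = 0 := by rw [dotProduct_comm]; exact hb _ (Submodule.subset_span rfl)
    refine ⟨tv0 b (u - v) h0, ?_⟩
    rw [tv0_mul_qe, dotProduct_comm u b, hbu, one_smul, sub_sub_cancel]
  obtain ⟨z, hz1, hz2⟩ : ∃ z, z ∉ Submodule.span F {a} ∧ z ∉ Submodule.span F {a'} := by
    have hne : ∀ x : Fin m → F, ∃ z, z ∉ Submodule.span F {x} := by
      intro x
      by_contra hc
      push Not at hc
      have ht : Submodule.span F {x} = ⊤ := eq_top_iff.2 fun z _ => hc z
      have h1 := finrank_span_le_card (R := F) ({x} : Set (Fin m → F))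
      rw [ht, finrank_top, Module.finrank_fin_fun] at h1
      simp at h1
      omega
    obtain ⟨z, hz⟩ := hne a
    obtain ⟨w, hw⟩ := hne a'
    by_cases h1 : z ∈ Submodule.span F {a'}
    · by_cases h2 : w ∈ Submodule.span F {a}
      · refine ⟨z + w, fun h => hz ?_, fun h => hw ?_⟩
        · simpa using Submodule.sub_mem _ h h2
        · simpa using Submodule.sub_mem _ h h1
      · exact ⟨w, h2, hw⟩
    · exact ⟨z, hz, h1⟩
  have hz0 : z ≠ 0 := fun h => hz1 (h ▸ Submodule.zero_mem _)
  obtain ⟨g, hg⟩ := step ha hz1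
  have : a' ∉ Submodule.span F {z} := by
    intro h
    obtain ⟨c, hc⟩ := Submodule.mem_span_singleton.mp h
    rcases eq_or_ne c 0 with rfl | hc0
    · exact ha' (by rw [← hc, zero_smul])
    · exact hz2 (Submodule.mem_span_singleton.mpr ⟨c⁻¹, by
        rw [← hc, smul_smul, inv_mul_cancel₀ hc0, one_smul]⟩)
  obtain ⟨g', hg'⟩ := step hz0 this
  exact ⟨g' * g, by rw [mul_assoc, hg, ← mul_assoc, hg', mul_assoc]⟩

section Action

variable {Ω : Type*} [MulAction (SpecialLinearGroup (Fin (m + 1)) F) Ω]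

/-- The stabiliser of a point in the parameters. -/
def fixA (ω : Ω) : AddSubgroup (Fin m → F) where
  carrier := {a | qe a • ω = ω}
  add_mem' {a b} ha hb := by
    show qe (a + b) • ω = ω
    rw [qe_add, mul_smul, (show qe b • ω = ω from hb), (show qe a • ω = ω from ha)]
  zero_mem' := by
    show qe (0 : Fin m → F) • ω = ω
    rw [qe_zero, one_smul]
  neg_mem' {a} ha := by
    show qe (-a) • ω = ω
    rw [qe_neg, inv_smul_eq_iff]
    exact ha.symm

theorem mem_fixA {ω : Ω} {a : Fin m → F} :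
    a ∈ fixA ω ↔ qe a • ω = ω := Iff.rfl

theorem fixA_qe (ω : Ω) (a : Fin m → F) : fixA (F := F) (m := m) (qe a • ω) = fixA ω := by
  ext b
  rw [mem_fixA, mem_fixA, smul_smul, ← qe_add, add_comm b a, qe_add, mul_smul, smul_left_cancel_iff]

/-- Lying in one orbit of the transvection group. -/
def orbSetoid (F : Type*) [Field F] (m : ℕ) (Ω : Type*)
    [MulAction (SpecialLinearGroup (Fin (m + 1)) F) Ω] : Setoid Ω where
  r ω ω' := ∃ a : Fin m → F, qe a • ω = ω'
  iseqv :=
    { refl := fun ω => ⟨0, by rw [qe_zero, one_smul]⟩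
      symm := fun {ω ω'} ⟨a, ha⟩ => ⟨-a, by rw [← ha, smul_smul, ← qe_add, neg_add_cancel, qe_zero, one_smul]⟩
      trans := fun {ω ω' ω''} ⟨a, ha⟩ ⟨b, hb⟩ => ⟨b + a, by rw [qe_add, mul_smul, ha, hb]⟩ }

theorem card_orbit_mul [Finite F] (ω : Ω) :
    Nat.card {ω' : Ω // ∃ a : Fin m → F, qe a • ω = ω'} * Nat.card (fixA (F := F) (m := m) ω) =
      Nat.card F ^ m := by
  have hwd : ∀ a b : Fin m → F,
      qe a • ω = qe b • ω ↔ (QuotientAddGroup.mk a : (Fin m → F) ⧸ fixA ω) = QuotientAddGroup.mk b := by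
    intro a b
    rw [QuotientAddGroup.eq, mem_fixA, qe_add, mul_smul, qe_neg, inv_smul_eq_iff, eq_comm]
  let f : (Fin m → F) ⧸ fixA (F := F) (m := m) ω → {ω' : Ω // ∃ a : Fin m → F, qe a • ω = ω'} :=
    fun c => ⟨qe c.out • ω, c.out, rfl⟩
  have hf : Function.Bijective f := by
    refine ⟨fun c d h => ?_, ?_⟩
    · have := (hwd _ _).mp (congrArg Subtype.val h)
      rwa [QuotientAddGroup.out_eq', QuotientAddGroup.out_eq'] at this
    · rintro ⟨_, a, rfl⟩
      exact ⟨QuotientAddGroup.mk a, Subtype.ext ((hwd _ _).mpr (QuotientAddGroup.out_eq' _))⟩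
  rw [← Nat.card_congr (Equiv.ofBijective f hf), ← AddSubgroup.card_eq_card_quotient_mul_card_addSubgroup,
    Nat.card_fun, Nat.card_fin]

/-- Scalar product as an additive map. -/
def dotHom (l : Fin m → F) : (Fin m → F) →+ F :=
  AddMonoidHom.mk' (fun a => l ⬝ᵥ a) fun a b => dotProduct_add l a b

theorem exists_scalar_ne (ψ : AddChar F ℂ) (hψ : ψ ≠ 1) {x : F} (hx : x ≠ 0) : ∃ c : F, ψ (c * x) ≠ 1 := by
  by_contra hc
  push Not at hc
  apply hψ
  refine DFunLike.ext _ _ fun t => ?_
  rw [AddChar.one_apply]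
  simpa [hx] using hc (t / x)

/-- `l` is trivial on the stabiliser of `ω`. -/
def Bmem (ψ : AddChar F ℂ) (ω : Ω) (l : Fin m → F) : Prop := ∀ a ∈ fixA ω, ψ (l ⬝ᵥ a) = 1

theorem Bmem.add {ψ : AddChar F ℂ} {ω : Ω} {l l' : Fin m → F} (h : Bmem ψ ω l) (h' : Bmem ψ ω l') :
    Bmem ψ ω (l + l') := fun a ha => by
  rw [add_dotProduct, AddChar.map_add_eq_mul, h a ha, h' a ha, one_mul]

theorem Bmem.sub {ψ : AddChar F ℂ} {ω : Ω} {l l' : Fin m → F} (h : Bmem ψ ω l) (h' : Bmem ψ ω l') :
    Bmem ψ ω (l - l') := fun a ha => by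
  have h1 := AddChar.map_add_eq_mul ψ ((l - l') ⬝ᵥ a) (l' ⬝ᵥ a)
  rw [← add_dotProduct, sub_add_cancel, h a ha, h' a ha, mul_one] at h1
  exact h1.symm

variable [Fintype F] [Fintype Ω]

theorem card_Bmem_mul [DecidableEq F] (ψ : AddChar F ℂ) (hψ : ψ ≠ 1) (ω : Ω) :
    Nat.card {l : Fin m → F // Bmem ψ ω l} * Nat.card (fixA (F := F) (m := m) ω) = Nat.card F ^ m := by
  classical
  let A := fixA (F := F) (m := m) ω
  let χ : (Fin m → F) → AddChar A ℂ := fun l => ψ.compAddMonoidHom ((dotHom l).comp A.subtype)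
  let η : (Fin m → F) → AddChar (Fin m → F) ℂ := fun a => ψ.compAddMonoidHom (dotHom a)
  have h1 : ∀ l, ∑ a : A, ψ (l ⬝ᵥ (a : Fin m → F)) = if Bmem ψ ω l then (Fintype.card A : ℂ) else 0 := by
    intro l
    have h0 := AddChar.sum_eq_ite (χ l)
    have hiff : χ l = 0 ↔ Bmem ψ ω l := by
      rw [← AddChar.one_eq_zero]
      constructor
      · intro h a ha
        have := congrArg (fun e : AddChar A ℂ => e ⟨a, ha⟩) h
        simpa [χ, dotHom] using this
      · intro h
        refine DFunLike.ext _ _ fun a => ?_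
        rw [AddChar.one_apply]
        exact h a a.2
    simp only [hiff] at h0
    simpa [χ, dotHom] using h0
  have h2 : ∀ a : A, ∑ l : Fin m → F, ψ (l ⬝ᵥ (a : Fin m → F)) =
      if a = 0 then (Fintype.card (Fin m → F) : ℂ) else 0 := by
    intro a
    have h0 := AddChar.sum_eq_ite (η (a : Fin m → F))
    have hiff : η (a : Fin m → F) = 0 ↔ a = 0 := by
      rw [← AddChar.one_eq_zero]
      constructor
      · intro h
        by_contra ha
        have ha' : (a : Fin m → F) ≠ 0 := fun e => ha (Subtype.ext e)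
        obtain ⟨i, hi⟩ := Function.ne_iff.mp ha'
        obtain ⟨c, hc⟩ := exists_scalar_ne ψ hψ hi
        apply hc
        have := congrArg (fun e : AddChar (Fin m → F) ℂ => e (Pi.single i c)) h
        simpa [η, dotHom, mul_comm] using this
      · rintro rfl
        refine DFunLike.ext _ _ fun x => ?_
        simp [η, dotHom]
    simp only [hiff] at h0
    rw [← h0]
    refine Finset.sum_congr rfl fun l _ => ?_
    simp [η, dotHom, dotProduct_comm]
  have h3 : ∑ l : Fin m → F, ∑ a : A, ψ (l ⬝ᵥ (a : Fin m → F)) =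
      ∑ a : A, ∑ l : Fin m → F, ψ (l ⬝ᵥ (a : Fin m → F)) := Finset.sum_comm
  simp only [h1, h2] at h3
  rw [Finset.sum_ite_eq' Finset.univ (0 : A), if_pos (Finset.mem_univ _), ← Finset.sum_filter,
    Finset.sum_const, nsmul_eq_mul, ← Nat.cast_mul, Nat.cast_inj, Fintype.card_fun, Fintype.card_fin] at h3
  rw [Nat.card_eq_fintype_card, Nat.card_eq_fintype_card, Nat.card_eq_fintype_card, Fintype.card_subtype]
  exact h3

open _root_.Classical in
theorem sum_fix_identity (hm : 2 ≤ m) (ψ : AddChar F ℂ) (hψ : ψ ≠ 1) {a₀ : Fin m → F} (ha₀ : a₀ ≠ 0)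
    {l : Fin m → F} (hl : l ≠ 0) :
    (∑ ω ∈ Finset.univ.filter (fun ω : Ω => Bmem ψ ω l), Nat.card (fixA (F := F) (m := m) ω)) +
      Nat.card {ω : Ω // qe a₀ • ω = ω} = Fintype.card Ω := by
  have hconst : ∀ a : Fin m → F, a ≠ 0 →
      Nat.card {ω : Ω // qe a • ω = ω} = Nat.card {ω : Ω // qe a₀ • ω = ω} := by
    intro a ha
    obtain ⟨g, hg⟩ := exists_conj hm ha ha₀
    refine Nat.card_congr ((MulAction.toPerm g).subtypeEquiv fun ω => ?_)
    rw [MulAction.toPerm_apply, smul_smul, ← hg, mul_smul, smul_left_cancel_iff]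
  let η : AddChar (Fin m → F) ℂ := ψ.compAddMonoidHom (dotHom l)
  have hη : ∑ a : Fin m → F, η a = 0 := by
    refine (AddChar.sum_eq_zero_iff_ne_zero).mpr ?_
    rw [← AddChar.one_eq_zero]
    intro h
    obtain ⟨i, hi⟩ := Function.ne_iff.mp hl
    obtain ⟨c, hc⟩ := exists_scalar_ne ψ hψ hi
    apply hc
    have := congrArg (fun e : AddChar (Fin m → F) ℂ => e (Pi.single i c)) h
    simpa [η, dotHom, mul_comm] using this
  have h1 : ∀ ω : Ω, (∑ a : Fin m → F, if qe a • ω = ω then η a else 0) =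
      if Bmem ψ ω l then (Nat.card (fixA (F := F) (m := m) ω) : ℂ) else 0 := by
    intro ω
    rw [← Finset.sum_filter]
    have h0 := AddChar.sum_eq_ite (η.compAddMonoidHom (fixA (F := F) (m := m) ω).subtype)
    have hiff : η.compAddMonoidHom (fixA (F := F) (m := m) ω).subtype = 0 ↔ Bmem ψ ω l := by
      rw [← AddChar.one_eq_zero]
      constructor
      · intro h a ha
        have := congrArg (fun e : AddChar (fixA (F := F) (m := m) ω) ℂ => e ⟨a, ha⟩) h
        simpa [η, dotHom] using this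
      · intro h
        refine DFunLike.ext _ _ fun a => ?_
        rw [AddChar.one_apply]
        exact h a a.2
    simp only [hiff] at h0
    rw [Nat.card_eq_fintype_card, ← h0]
    exact (Finset.sum_subtype _ (fun a => by simp [mem_fixA]) _)
  have h2 : ∑ ω : Ω, ∑ a : Fin m → F, (if qe a • ω = ω then η a else 0) =
      ∑ a : Fin m → F, (Nat.card {ω : Ω // qe a • ω = ω} : ℂ) * η a := by
    rw [Finset.sum_comm]
    refine Finset.sum_congr rfl fun a _ => ?_
    rw [← Finset.sum_filter, Finset.sum_const, nsmul_eq_mul, Nat.card_eq_fintype_card, Fintype.card_subtype]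
  simp only [h1] at h2
  rw [← Finset.sum_filter, ← Finset.add_sum_erase _ _ (Finset.mem_univ (0 : Fin m → F))] at h2
  have h3 : ∑ a ∈ Finset.univ.erase (0 : Fin m → F), (Nat.card {ω : Ω // qe a • ω = ω} : ℂ) * η a =
      (Nat.card {ω : Ω // qe a₀ • ω = ω} : ℂ) * (-1) := by
    rw [Finset.sum_congr rfl (fun a ha => by rw [hconst a (Finset.ne_of_mem_erase ha)]), ← Finset.mul_sum]
    congr 1
    rw [← Finset.add_sum_erase _ _ (Finset.mem_univ (0 : Fin m → F)), AddChar.map_zero_eq_one] at hη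
    linear_combination hη
  have h4 : Nat.card {ω : Ω // qe (0 : Fin m → F) • ω = ω} = Fintype.card Ω := by
    rw [← Nat.card_eq_fintype_card]
    exact Nat.card_congr (Equiv.subtypeUnivEquiv fun ω => by rw [qe_zero, one_smul])
  rw [h3, h4, AddChar.map_zero_eq_one] at h2
  apply Nat.cast_injective (R := ℂ)
  push_cast
  linear_combination h2

theorem orbit_dichotomy (hm : 2 ≤ m) (hmove : ∃ (ω : Ω) (a : Fin m → F), qe a • ω ≠ ω)
    (hsmall : Fintype.card Ω * (Fintype.card F - 1) < Fintype.card F ^ (m + 1) - 1) :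
    (∃ ω₁ : Ω, (∀ a : Fin m → F, qe a • ω₁ = ω₁ → a = 0) ∧
      ∀ ω, (∀ a : Fin m → F, qe a • ω = ω) ∨ ∃ a : Fin m → F, qe a • ω₁ = ω) ∨
    (∀ ω : Ω, ∃ u : Fin m → F, u ≠ 0 ∧ ∀ a, qe a • ω = ω ↔ u ⬝ᵥ a = 0) := by
  classical
  obtain ⟨q, hq⟩ : ∃ q, q = Fintype.card F := ⟨_, rfl⟩
  have hq2 : 2 ≤ q := hq ▸ Fintype.one_lt_card
  obtain ⟨ψ, hψ⟩ : ∃ ψ : AddChar F ℂ, ψ ≠ 1 := by
    have : Nontrivial (AddChar F ℂ) := Fintype.one_lt_card_iff_nontrivial.mp (by
      rw [AddChar.card_eq]; exact Fintype.one_lt_card)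
    exact exists_ne 1
  obtain ⟨ω₀, a₀, ha₀m⟩ := hmove
  have ha₀ : a₀ ≠ 0 := by rintro rfl; exact ha₀m (by rw [qe_zero, one_smul])
  obtain ⟨f, hf⟩ : ∃ f, f = Nat.card {ω : Ω // qe a₀ • ω = ω} := ⟨_, rfl⟩
  have hfk : f < Fintype.card Ω := by
    rw [hf, Nat.card_eq_fintype_card]
    exact Fintype.card_subtype_lt (x := ω₀) ha₀m
  -- the orbit of a point of `S l` already accounts for `q ^ m`
  have horb : ∀ (ω : Ω), ∑ ω' ∈ Finset.univ.filter (fun ω' => ∃ a : Fin m → F, qe a • ω = ω'),
      Nat.card (fixA (F := F) (m := m) ω') = q ^ m := by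
    intro ω
    rw [Finset.sum_congr rfl (g := fun _ => Nat.card (fixA (F := F) (m := m) ω)) (fun ω' hω' => by
      obtain ⟨a, rfl⟩ := (Finset.mem_filter.mp hω').2
      rw [fixA_qe]), Finset.sum_const, smul_eq_mul, ← Fintype.card_subtype, ← Nat.card_eq_fintype_card,
      card_orbit_mul, Nat.card_eq_fintype_card, hq]
  have hBq : ∀ (ω : Ω) (a l : Fin m → F), Bmem ψ (qe a • ω) l ↔ Bmem ψ ω l := by
    intro ω a l; simp [Bmem, fixA_qe]
  have hne : ∀ l : Fin m → F, l ≠ 0 → ∃ ω : Ω, Bmem ψ ω l := by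
    intro l hl
    by_contra hc
    push Not at hc
    have := sum_fix_identity (Ω := Ω) hm ψ hψ ha₀ hl
    rw [Finset.filter_false_of_mem (fun ω _ => hc ω), Finset.sum_empty, ← hf] at this
    omega
  have huniq : ∀ l : Fin m → F, l ≠ 0 → ∀ ω ω' : Ω, Bmem ψ ω l → Bmem ψ ω' l →
      ∃ a : Fin m → F, qe a • ω = ω' := by
    intro l hl ω ω' hω hω'
    by_contra hc
    have h1 := sum_fix_identity (Ω := Ω) hm ψ hψ ha₀ hl
    have hsub : Finset.univ.filter (fun z => ∃ a : Fin m → F, qe a • ω = z) ∪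
        Finset.univ.filter (fun z => ∃ a : Fin m → F, qe a • ω' = z) ⊆
        Finset.univ.filter (fun z : Ω => Bmem ψ z l) := by
      intro z hz
      simp only [Finset.mem_union, Finset.mem_filter, Finset.mem_univ, true_and] at hz ⊢
      rcases hz with ⟨a, rfl⟩ | ⟨a, rfl⟩
      · exact (hBq _ _ _).mpr hω
      · exact (hBq _ _ _).mpr hω'
    have hdis : Disjoint (Finset.univ.filter (fun z => ∃ a : Fin m → F, qe a • ω = z))
        (Finset.univ.filter (fun z => ∃ a : Fin m → F, qe a • ω' = z)) := by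
      rw [Finset.disjoint_left]
      intro z hz hz'
      obtain ⟨a, ha⟩ := (Finset.mem_filter.mp hz).2
      obtain ⟨b, hb⟩ := (Finset.mem_filter.mp hz').2
      exact hc ⟨-b + a, by rw [qe_add, mul_smul, ha, ← hb, smul_smul, ← qe_add, neg_add_cancel, qe_zero, one_smul]⟩
    have h2 := Finset.sum_le_sum_of_subset hsub (f := fun z => Nat.card (fixA (F := F) (m := m) z))
    rw [Finset.sum_union hdis, horb, horb] at h2
    have h3 : 2 * q ^ m ≤ Fintype.card Ω := by omega
    have h5 := Nat.mul_le_mul_right (q - 1) h3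
    rw [← hq, pow_succ] at hsmall
    obtain ⟨p, rfl⟩ : ∃ p, q = p + 2 := ⟨q - 2, by omega⟩
    rw [show p + 2 - 1 = p + 1 from rfl] at h5 hsmall
    have h6 : (p + 2) ^ m * (p + 2) - 1 + 1 = (p + 2) ^ m * (p + 2) :=
      Nat.sub_add_cancel (Nat.one_le_iff_ne_zero.mpr (by positivity))
    nlinarith
  -- invariance of `Bmem` under transvections fixing a member
  have hinv : ∀ (ω : Ω) (l x : Fin m → F), l ≠ 0 → Bmem ψ ω l → Bmem ψ ω x →
      ∀ b : Fin m → F, x ∉ Submodule.span F {l, b} → Bmem ψ ω (x + b) := by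
    intro ω l x hl hlB hxB b hxspan
    obtain ⟨φ, hφx, hφ⟩ := exists_functional _ hxspan
    have hφl : φ ⬝ᵥ l = 0 := hφ l (Submodule.subset_span (by simp))
    have hφb : φ ⬝ᵥ b = 0 := hφ b (Submodule.subset_span (by simp))
    set g := tv0 b φ hφb with hg
    have hgl : Bmem ψ (g • ω) l := by
      intro a ha
      rw [mem_fixA] at ha
      have h1 : g * qe (a + (a ⬝ᵥ b) • φ) = qe a * g := by
        rw [hg, tv0_mul_qe, add_dotProduct, smul_dotProduct, hφb, smul_zero, add_zero, add_sub_cancel_right]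
      have h2 : qe (a + (a ⬝ᵥ b) • φ) • ω = ω := by
        rwa [smul_smul, ← h1, mul_smul, smul_left_cancel_iff] at ha
      have := hlB _ (mem_fixA.mpr h2)
      rwa [dotProduct_add, dotProduct_smul, dotProduct_comm l φ, hφl, smul_zero, add_zero] at this
    obtain ⟨c, hc⟩ := huniq l hl ω (g • ω) hlB hgl
    intro a ha
    have h1 : a + (a ⬝ᵥ b) • φ ∈ fixA ω := by
      have hA : fixA (F := F) (m := m) (g • ω) = fixA ω := by rw [← hc, fixA_qe]
      have ha' : a ∈ fixA (F := F) (m := m) (g • ω) := hA ▸ ha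
      rw [mem_fixA] at ha' ⊢
      have h3 : g * qe (a + (a ⬝ᵥ b) • φ) = qe a * g := by
        rw [hg, tv0_mul_qe, add_dotProduct, smul_dotProduct, hφb, smul_zero, add_zero, add_sub_cancel_right]
      rwa [smul_smul, ← h3, mul_smul, smul_left_cancel_iff] at ha'
    have h2 := hxB _ h1
    rwa [dotProduct_add, dotProduct_smul, dotProduct_comm x φ, hφx, smul_eq_mul, mul_one,
      dotProduct_comm a b, ← add_dotProduct] at h2
  -- either a regular orbit, or every class is contained in a line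
  by_cases hall : ∃ ω : Ω, ∀ l : Fin m → F, Bmem ψ ω l
  · left
    obtain ⟨ω₁, hω₁⟩ := hall
    refine ⟨ω₁, fun a ha => ?_, fun ω => ?_⟩
    · by_contra h0
      obtain ⟨i, hi⟩ := Function.ne_iff.mp h0
      obtain ⟨c, hc⟩ := exists_scalar_ne ψ hψ hi
      exact hc (by simpa using hω₁ (Pi.single i c) a (mem_fixA.mpr ha))
    · by_cases hB : ∃ l : Fin m → F, l ≠ 0 ∧ Bmem ψ ω l
      · obtain ⟨l, hl, hlB⟩ := hB
        exact Or.inr (huniq l hl ω₁ ω (hω₁ l) hlB)
      · left
        push Not at hB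
        intro a
        have h1 := card_Bmem_mul (m := m) ψ hψ ω
        have h2 : Nat.card {l : Fin m → F // Bmem ψ ω l} = 1 := by
          rw [Nat.card_eq_one_iff_exists]
          refine ⟨⟨0, fun b _ => by rw [zero_dotProduct, AddChar.map_zero_eq_one]⟩, fun l => Subtype.ext ?_⟩
          by_contra hl
          exact hB l.1 hl l.2
        rw [h2, one_mul] at h1
        have h3 : fixA (F := F) (m := m) ω = ⊤ :=
          AddSubgroup.eq_top_of_card_eq _ (by rw [h1, Nat.card_fun, Nat.card_fin])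
        exact mem_fixA.mp (h3 ▸ AddSubgroup.mem_top a)
  right
  push Not at hall
  have hline : ∀ (ω : Ω) (l x : Fin m → F), l ≠ 0 → Bmem ψ ω l → Bmem ψ ω x →
      x ∈ Submodule.span F {l} := by
    intro ω l x hl hlB hxB
    by_contra hx
    obtain ⟨y, hy⟩ := hall ω
    apply hy
    -- every vector outside `span {x}` or outside `span {l}` is reached
    have hstep : ∀ (l x : Fin m → F), l ≠ 0 → Bmem ψ ω l → Bmem ψ ω x → x ∉ Submodule.span F {l} →
        ∀ u, x ∉ Submodule.span F {l, u} → Bmem ψ ω u := by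
      intro l x hl hlB hxB _ u hu
      simpa using (hinv ω l x hl hlB hxB u hu).sub hxB
    have hlx : ∀ c : F, Bmem ψ ω (c • l) := by
      intro c
      refine hstep l x hl hlB hxB hx _ fun h => hx ?_
      obtain ⟨u, v, huv⟩ := Submodule.mem_span_pair.mp h
      exact Submodule.mem_span_singleton.mpr ⟨u + v * c, by rw [add_smul, mul_smul, huv]⟩
    have hx0 : x ≠ 0 := fun h => hx (h ▸ Submodule.zero_mem _)
    have hlx' : l ∉ Submodule.span F {x} := by
      intro h
      obtain ⟨c, hc⟩ := Submodule.mem_span_singleton.mp h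
      rcases eq_or_ne c 0 with rfl | hc0
      · exact hl (by rw [← hc, zero_smul])
      · exact hx (Submodule.mem_span_singleton.mpr ⟨c⁻¹, by
          rw [← hc, smul_smul, inv_mul_cancel₀ hc0, one_smul]⟩)
    have hxx : ∀ c : F, Bmem ψ ω (c • x) := by
      intro c
      refine hstep x l hx0 hxB hlB hlx' _ fun h => hlx' ?_
      obtain ⟨u, v, huv⟩ := Submodule.mem_span_pair.mp h
      exact Submodule.mem_span_singleton.mpr ⟨u + v * c, by rw [add_smul, mul_smul, huv]⟩
    by_cases hyx : x ∈ Submodule.span F {l, y}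
    · obtain ⟨u, v, huv⟩ := Submodule.mem_span_pair.mp hyx
      have hv : v ≠ 0 := by
        rintro rfl
        exact hx (Submodule.mem_span_singleton.mpr ⟨u, by simpa using huv⟩)
      have hy' : y = v⁻¹ • x - (v⁻¹ * u) • l := by
        rw [← huv, smul_add, smul_smul, smul_smul, inv_mul_cancel₀ hv, one_smul]; abel
      rw [hy']
      exact (hxx _).sub (hlx _)
    · exact hstep l x hl hlB hxB hx _ hyx
  -- counting
  let s := orbSetoid F m Ω
  let O : {l : Fin m → F // l ≠ 0} → Quotient s := fun l => Quotient.mk s (hne l.1 l.2).choose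
  have hO : ∀ (l : {l : Fin m → F // l ≠ 0}) (c : Quotient s), O l = c ↔ Bmem ψ c.out l.1 := by
    intro l c
    constructor
    · rintro rfl
      obtain ⟨a, ha⟩ := Quotient.mk_out (s := s) (hne l.1 l.2).choose
      have h1 := (hne l.1 l.2).choose_spec
      rw [← ha, hBq] at h1
      exact h1
    · intro h
      rw [← Quotient.out_eq c]
      exact Quotient.sound (huniq l.1 l.2 _ _ (hne l.1 l.2).choose_spec h)
  let cnt : Quotient s → ℕ := fun c => (Finset.univ.filter fun l => O l = c).card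
  have hB1 : ∀ c : Quotient s, Nat.card {l : Fin m → F // Bmem ψ c.out l} = cnt c + 1 := by
    intro c
    have h0 : Bmem ψ c.out (0 : Fin m → F) := fun b _ => by rw [zero_dotProduct, AddChar.map_zero_eq_one]
    rw [Nat.card_eq_fintype_card, Fintype.card_subtype,
      ← Finset.card_erase_add_one (a := (0 : Fin m → F)) (by simp [h0])]
    congr 1
    refine (Finset.card_bij (fun l _ => l.1) ?_ ?_ ?_).symm
    · intro l hl
      simp only [Finset.mem_filter, Finset.mem_univ, true_and, hO] at hl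
      simp [hl, l.2]
    · intro a _ b _ h; exact Subtype.ext h
    · intro l hl
      simp only [Finset.mem_erase, Finset.mem_filter, Finset.mem_univ, true_and] at hl
      exact ⟨⟨l, hl.1⟩, by simp [hO, hl.2], rfl⟩
  have horbB : ∀ c : Quotient s,
      (Finset.univ.filter fun ω : Ω => Quotient.mk s ω = c).card = cnt c + 1 := by
    intro c
    rw [← hB1]
    have hApos : 0 < Nat.card (fixA (F := F) (m := m) c.out) := Nat.card_pos
    apply Nat.eq_of_mul_eq_mul_right hApos
    rw [card_Bmem_mul (m := m) ψ hψ, ← card_orbit_mul (F := F) (m := m) c.out, Nat.card_eq_fintype_card (α := {ω' : Ω // _}),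
      Fintype.card_subtype]
    congr 2
    ext ω
    simp only [Finset.mem_filter, Finset.mem_univ, true_and]
    constructor
    · intro h
      exact (Quotient.exact ((Quotient.out_eq c).trans h.symm) : ∃ a : Fin m → F, qe a • c.out = ω)
    · intro h
      rw [← Quotient.out_eq c]
      exact (Quotient.sound (s := s) h).symm
  have hk : Fintype.card Ω = Fintype.card (Quotient s) + (q ^ m - 1) := by
    have h1 := Finset.card_eq_sum_card_fiberwise (f := fun ω : Ω => Quotient.mk s ω)
      (s := Finset.univ) (t := Finset.univ) (fun _ _ => Finset.mem_univ _)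
    have h2 := Finset.card_eq_sum_card_fiberwise (f := O)
      (s := Finset.univ) (t := Finset.univ) (fun _ _ => Finset.mem_univ _)
    rw [Finset.card_univ] at h1 h2
    rw [h1, Finset.sum_congr rfl fun c _ => horbB c, Finset.sum_add_distrib, Finset.sum_const,
      Finset.card_univ, smul_eq_mul, mul_one, ← h2, Fintype.card_subtype_compl, Fintype.card_subtype_eq,
      Fintype.card_fun, Fintype.card_fin, hq, add_comm]
  have hle : ∀ c : Quotient s, cnt c ≤ q - 1 := by
    intro c
    by_contra hc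
    have hpos : 0 < cnt c := by omega
    obtain ⟨l, hl⟩ := Finset.card_pos.mp hpos
    simp only [Finset.mem_filter, Finset.mem_univ, true_and, hO] at hl
    have h1 : Nat.card {x : Fin m → F // Bmem ψ c.out x} ≤ Nat.card F :=
      Nat.card_le_card_of_injective
        (fun x => (Submodule.mem_span_singleton.mp (hline c.out l.1 x.1 l.2 hl x.2)).choose) (by
          intro x y h
          apply Subtype.ext
          rw [← (Submodule.mem_span_singleton.mp (hline c.out l.1 x.1 l.2 hl x.2)).choose_spec,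
            ← (Submodule.mem_span_singleton.mp (hline c.out l.1 y.1 l.2 hl y.2)).choose_spec]
          exact congrArg (· • l.1) h)
    rw [hB1, Nat.card_eq_fintype_card, ← hq] at h1
    omega
  have heq : ∀ c : Quotient s, cnt c = q - 1 := by
    by_contra hc
    push Not at hc
    obtain ⟨c₀, hc₀⟩ := hc
    have h2 := Finset.card_eq_sum_card_fiberwise (f := O)
      (s := Finset.univ) (t := Finset.univ) (fun _ _ => Finset.mem_univ _)
    rw [Finset.card_univ, Fintype.card_subtype_compl, Fintype.card_subtype_eq, Fintype.card_fun,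
      Fintype.card_fin, ← hq] at h2
    have h3 : q ^ m - 1 < Fintype.card (Quotient s) * (q - 1) := by
      rw [h2, ← Finset.card_univ, ← smul_eq_mul, ← Finset.sum_const]
      exact Finset.sum_lt_sum (fun c _ => hle c) ⟨c₀, Finset.mem_univ _, lt_of_le_of_ne (hle c₀) hc₀⟩
    obtain ⟨G, hG⟩ : (q - 1) ∣ q ^ m - 1 := by simpa using Nat.sub_dvd_pow_sub_pow q 1 m
    rw [← hq, hk, hG] at hsmall
    rw [hG, mul_comm] at h3
    have h4 : G + 1 ≤ Fintype.card (Quotient s) := Nat.lt_of_mul_lt_mul_right h3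
    have h5 : q ^ (m + 1) - 1 = (q - 1) * G * q + (q - 1) := by
      have hqm : (q - 1) * G + 1 = q ^ m := by
        rw [← hG]; exact Nat.sub_add_cancel (Nat.one_le_pow _ _ (by omega))
      rw [pow_succ, ← hqm, add_mul, one_mul]
      omega
    rw [h5] at hsmall
    obtain ⟨p, rfl⟩ : ∃ p, q = p + 2 := ⟨q - 2, by omega⟩
    rw [show p + 2 - 1 = p + 1 from rfl] at hsmall
    nlinarith
  intro ω
  set c := Quotient.mk s ω with hc
  obtain ⟨a, ha⟩ := Quotient.mk_out (s := s) ω
  rw [← hc] at ha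
  have hpos : 0 < cnt c := by have := heq c; omega
  obtain ⟨l, hl⟩ := Finset.card_pos.mp hpos
  simp only [Finset.mem_filter, Finset.mem_univ, true_and, hO] at hl
  refine ⟨l.1, l.2, fun b => ?_⟩
  have hA : fixA (F := F) (m := m) c.out = fixA ω := by
    conv_rhs => rw [← ha, fixA_qe]
  rw [← mem_fixA, ← hA]
  -- `Bmem` is the whole line of `l`
  have hcount : Nat.card {x : Fin m → F // Bmem ψ c.out x} = q := by rw [hB1, heq]; omega
  let fl : {x : Fin m → F // Bmem ψ c.out x} → F :=
    fun x => (Submodule.mem_span_singleton.mp (hline c.out l.1 x.1 l.2 hl x.2)).choose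
  have hfl : ∀ x, fl x • l.1 = x.1 := fun x =>
    (Submodule.mem_span_singleton.mp (hline c.out l.1 x.1 l.2 hl x.2)).choose_spec
  have hinj : Function.Injective fl := fun x y h => Subtype.ext (by rw [← hfl x, ← hfl y, h])
  have hall' : ∀ r : F, Bmem ψ c.out (r • l.1) := by
    intro r
    obtain ⟨x, hx⟩ := ((Nat.bijective_iff_injective_and_card fl).mpr
      ⟨hinj, by rw [hcount, hq, Nat.card_eq_fintype_card]⟩).2 r
    rw [← hx, hfl]
    exact x.2
  constructor
  · intro hb
    by_contra h0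
    obtain ⟨r, hr⟩ := exists_scalar_ne ψ hψ h0
    exact hr (by simpa [smul_dotProduct] using hall' r b hb)
  · intro hb
    by_contra hbA
    -- the kernel of `l` has at most the size of the stabiliser
    have h1 := card_Bmem_mul (m := m) ψ hψ c.out
    rw [hcount] at h1
    have hker : Nat.card (dotHom l.1).ker * q = q ^ m := by
      have hsurj : Function.Surjective (dotHom l.1) := by
        intro t
        obtain ⟨i, hi⟩ := Function.ne_iff.mp l.2
        exact ⟨Pi.single i (t / l.1 i), by simp [dotHom, mul_div_cancel₀ _ hi]⟩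
      have h2 := (dotHom l.1).ker.card_mul_index
      rw [AddSubgroup.index_ker, AddMonoidHom.range_eq_top.mpr hsurj, AddSubgroup.card_top,
        Nat.card_fun, Nat.card_fin, Nat.card_eq_fintype_card (α := F), ← hq] at h2
      exact h2
    have hle' : fixA (F := F) (m := m) c.out ≤ (dotHom l.1).ker := by
      intro z hz
      rw [AddMonoidHom.mem_ker]
      by_contra h0
      obtain ⟨r, hr⟩ := exists_scalar_ne ψ hψ h0
      exact hr (by simpa [dotHom, smul_dotProduct] using hall' r z hz)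
    have heq' : fixA (F := F) (m := m) c.out = (dotHom l.1).ker := by
      refine AddSubgroup.eq_of_le_of_card_ge hle' (le_of_eq ?_)
      apply Nat.eq_of_mul_eq_mul_right (show 0 < q by omega)
      rw [hker, mul_comm]
      rw [Nat.card_eq_fintype_card (α := F), ← hq] at h1
      exact h1.symm
    exact hbA (heq' ▸ (AddMonoidHom.mem_ker.mpr hb))

end Action

end CfsgLib.KnownA.MinIndex
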