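import Cfsg.Agent.Lib.KnownA.MinIndexBase
import Cfsg.Agent.Lib.KnownA.MinIndexOrbits

/-!
# The two exceptional configurations

No system of planes through all points exists, and a complement-like subgroup without transvections
exists only in `SL_4(2)`.
-/

set_option autoImplicit false

namespace CfsgLib.KnownA.MinIndex

open Matrix CfsgLib.KnownA

variable {F : Type*} [Field F]

/-- There is no subgroup meeting every point group in the transvections killing a plane. -/
theorem planes_contra {n : ℕ} (hn : 3 ≤ n) (H : Subgroup (SpecialLinearGroup (Fin n) F))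
    (h : ∀ v : Fin n → F, v ≠ 0 → ∃ u, u ∉ Submodule.span F {v} ∧
      ∀ φ, φ ⬝ᵥ v = 0 → (InT H v φ ↔ φ ⬝ᵥ u = 0)) : False := by
  classical
  choose u hu hiff using h
  let L : ∀ v : Fin n → F, v ≠ 0 → Submodule F (Fin n → F) := fun v hv => Submodule.span F {v, u v hv}
  have hvL : ∀ v hv, v ∈ L v hv := fun v hv => Submodule.subset_span (by simp)
  have hdim : ∀ v hv, Module.finrank F (L v hv) = 2 := by
    intro v hv
    have hli : LinearIndependent F ![v, u v hv] := by
      rw [LinearIndependent.pair_iff]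
      intro a b hab
      rcases eq_or_ne b 0 with rfl | hb
      · rw [zero_smul, add_zero] at hab
        exact ⟨(smul_eq_zero.mp hab).resolve_right hv, rfl⟩
      · exfalso
        apply hu v hv
        refine Submodule.mem_span_singleton.mpr ⟨-(b⁻¹ * a), ?_⟩
        have e : u v hv = b⁻¹ • (b • u v hv) := by rw [smul_smul, inv_mul_cancel₀ hb, one_smul]
        rw [e, eq_neg_of_add_eq_zero_right hab]
        module
    have h1 := finrank_span_eq_card hli
    rw [Matrix.range_cons_cons_empty, Fintype.card_fin] at h1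
    exact h1
  -- `InT H v φ` iff `φ` kills the plane of `v`
  have hT : ∀ v hv φ, InT H v φ ↔ ∀ x ∈ L v hv, φ ⬝ᵥ x = 0 := by
    intro v hv φ
    constructor
    · intro h x hx
      obtain ⟨a, b, rfl⟩ := Submodule.mem_span_pair.mp hx
      rw [dotProduct_add, dotProduct_smul, dotProduct_smul, h.1, (hiff v hv φ h.1).mp h, smul_zero,
        smul_zero, add_zero]
    · intro h
      exact (hiff v hv φ (h v (hvL v hv))).mpr (h _ (Submodule.subset_span (by simp)))
  -- the commutator step
  have hstep : ∀ v hv w hw, w ∉ L v hv → L v hv ≤ L w hw ⊔ Submodule.span F {v} := by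
    intro v hv w hw hwv x hx
    obtain ⟨φ, hφw, hφ⟩ := exists_functional _ hwv
    by_contra hxn
    obtain ⟨ψ, hψx, hψ⟩ := exists_functional _ hxn
    have h1 : InT H v φ := (hT v hv φ).mpr hφ
    have h2 : InT H w ψ := (hT w hw ψ).mpr fun z hz => hψ z (Submodule.mem_sup_left hz)
    have h3 := h1.comm h2 (hψ v (Submodule.mem_sup_right (Submodule.subset_span rfl)))
    rw [hφw, one_smul] at h3
    exact one_ne_zero (hψx ▸ (hT v hv ψ).mp h3 x hx)
  have hmem : ∀ v hv w hw, v ∈ L w hw → L v hv = L w hw := by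
    intro v hv w hw hvw
    by_cases hwv : w ∈ Submodule.span F {v}
    · obtain ⟨c, rfl⟩ := Submodule.mem_span_singleton.mp hwv
      have hc : c ≠ 0 := by rintro rfl; simp at hw
      have key : ∀ φ, InT H v φ → InT H (c • v) (c⁻¹ • φ) := fun φ hφ =>
        InT.smul_swap c (by rw [smul_smul, mul_inv_cancel₀ hc, one_smul]; exact hφ)
          (by rw [smul_dotProduct, hφ.1, smul_zero])
      have hle : L (c • v) hw ≤ L v hv := by
        intro x hx
        by_contra hxn
        obtain ⟨φ, hφx, hφ⟩ := exists_functional _ hxn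
        have h2 := (hT _ hw _).mp (key φ ((hT v hv φ).mpr hφ)) x hx
        rw [smul_dotProduct, hφx, smul_eq_mul, mul_one, inv_eq_zero] at h2
        exact hc h2
      exact (Submodule.eq_of_le_of_finrank_eq hle (by rw [hdim, hdim])).symm
    · have hwL : w ∈ L v hv := by
        by_contra hn'
        have h1 := hstep v hv w hw hn'
        rw [sup_eq_left.mpr ((Submodule.span_singleton_le_iff_mem _ _).mpr hvw)] at h1
        exact hn' ((Submodule.eq_of_le_of_finrank_eq h1 (by rw [hdim, hdim])).symm ▸ hvL w hw)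
      have hli : LinearIndependent F ![v, w] := by
        rw [LinearIndependent.pair_iff]
        intro a b hab
        rcases eq_or_ne b 0 with rfl | hb
        · rw [zero_smul, add_zero] at hab
          exact ⟨(smul_eq_zero.mp hab).resolve_right hv, rfl⟩
        · exfalso
          apply hwv
          refine Submodule.mem_span_singleton.mpr ⟨-(b⁻¹ * a), ?_⟩
          have e : w = b⁻¹ • (b • w) := by rw [smul_smul, inv_mul_cancel₀ hb, one_smul]
          conv_rhs => rw [e, eq_neg_of_add_eq_zero_right hab]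
          module
      have h1 := finrank_span_eq_card hli
      rw [Matrix.range_cons_cons_empty, Fintype.card_fin] at h1
      have h2 : Submodule.span F {v, w} ≤ L v hv := Submodule.span_le.mpr (Set.insert_subset (hvL v hv)
        (Set.singleton_subset_iff.mpr hwL))
      have h3 : Submodule.span F {v, w} ≤ L w hw := Submodule.span_le.mpr (Set.insert_subset hvw
        (Set.singleton_subset_iff.mpr (hvL w hw)))
      rw [← Submodule.eq_of_le_of_finrank_eq h2 (by rw [h1, hdim]),
        Submodule.eq_of_le_of_finrank_eq h3 (by rw [h1, hdim])]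
  have hv0 : (Pi.single ⟨0, by omega⟩ 1 : Fin n → F) ≠ 0 := by simp
  set v : Fin n → F := Pi.single ⟨0, by omega⟩ 1
  obtain ⟨w, hw⟩ : ∃ w, w ∉ L v hv0 := by
    by_contra hc
    push Not at hc
    have ht : L v hv0 = ⊤ := eq_top_iff.2 fun z _ => hc z
    have h1 := hdim v hv0
    rw [ht, finrank_top, Module.finrank_fin_fun] at h1
    omega
  have hw0 : w ≠ 0 := fun h0 => hw (h0 ▸ Submodule.zero_mem _)
  have h1 := hstep v hv0 w hw0 hw
  have h2 : Module.finrank F ↥(L w hw0 ⊔ Submodule.span F {v}) ≤ 3 := by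
    refine le_trans (Submodule.finrank_add_le_finrank_add_finrank _ _) ?_
    rw [hdim, finrank_span_singleton hv0]
  have h3 := Submodule.finrank_mono (sup_le h1 (le_sup_left : L w hw0 ≤ _ ⊔ Submodule.span F {v}))
  have h4 := Submodule.finrank_sup_add_finrank_inf_eq (L v hv0) (L w hw0)
  rw [hdim, hdim] at h4
  have hne : L v hv0 ⊓ L w hw0 ≠ ⊥ := by
    intro hb
    rw [hb, finrank_bot] at h4
    omega
  obtain ⟨p, ⟨hp1, hp2⟩, hp0⟩ := Submodule.exists_mem_ne_zero_of_ne_bot hne
  rw [← hmem p hp0 v hv0 hp1, hmem p hp0 w hw0 hp2] at hw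
  exact hw (hvL w hw0)

variable {m : ℕ}

theorem qe_mul_tv0_eq (c s : F) {i j : Fin m} (hij : i ≠ j) :
    qe (c • Pi.single j 1) * tv0 (s • Pi.single i 1) (Pi.single j 1) (by simp [hij]) =
      tS (c • Pi.single 0 1 + Fin.cons 0 (s • Pi.single i 1)) (Fin.cons 0 (Pi.single j 1))
        (by rw [dotProduct_add, dotProduct_smul, cons_dot_e, cons_dot]; simp [hij]) := by
  refine sl_ext fun x => ?_
  simp only [qe, tv0, sl_mul_mulVec, tS_mulVec, cons_smul, dotProduct_add, dotProduct_smul, cons_dot,
    smul_dotProduct, smul_eq_mul]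
  have : (Pi.single j 1 : Fin m → F) ⬝ᵥ Pi.single i 1 = 0 := by simp [hij]
  rw [this]
  module

/-- The elementary element of the Levi part. -/
def xe (i j : Fin m) (hij : i ≠ j) (s : F) : SpecialLinearGroup (Fin (m + 1)) F :=
  tv0 (s • Pi.single i 1) (Pi.single j 1) (by simp [hij])

theorem xe_mul_qe (i j : Fin m) (hij : i ≠ j) (s : F) (a : Fin m → F) :
    xe i j hij s * qe a = qe (a - (a i * s) • Pi.single j 1) * xe i j hij s := by
  rw [xe, tv0_mul_qe]
  congr 3
  simp [mul_comm]

theorem xe_comm (i j k l : Fin m) (hij : i ≠ j) (hkl : k ≠ l) (hjk : j ≠ k) (hli : l ≠ i) (s t : F) :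
    xe i j hij s * xe k l hkl t = xe k l hkl t * xe i j hij s := by
  refine sl_ext fun x => ?_
  have h1 : (Pi.single j 1 : Fin m → F) ⬝ᵥ Pi.single k 1 = 0 := by simp [hjk]
  have h2 : (Pi.single l 1 : Fin m → F) ⬝ᵥ Pi.single i 1 = 0 := by simp [hli]
  simp only [xe, tv0, sl_mul_mulVec, tS_mulVec, cons_smul, dotProduct_add, dotProduct_smul, cons_dot, h1, h2]
  module

theorem xe_zero (i j : Fin m) (hij : i ≠ j) : xe i j hij (0 : F) = 1 := by
  refine sl_ext fun x => ?_
  rw [val_one, one_mulVec, xe, tv0, tS_mulVec, zero_smul]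
  have : (Fin.cons 0 0 : Fin (m + 1) → F) = 0 := by
    funext i; refine Fin.cases ?_ (fun j => ?_) i <;> simp
  rw [this, smul_zero, add_zero]

theorem xe_mul_self (i j : Fin m) (hij : i ≠ j) (s : F) :
    xe i j hij s * xe i j hij s = xe i j hij (s + s) := by
  refine sl_ext fun x => ?_
  have h0 : (Pi.single j 1 : Fin m → F) ⬝ᵥ Pi.single i 1 = 0 := by simp [hij]
  simp only [xe, tv0, sl_mul_mulVec, tS_mulVec, cons_smul, dotProduct_add, dotProduct_smul, cons_dot, h0]
  module

theorem xe_commutator (i j k : Fin m) (hij : i ≠ j) (hjk : j ≠ k) (hik : i ≠ k) :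
    xe i j hij (1 : F) * xe j k hjk 1 = xe i k hik 1 * xe j k hjk 1 * xe i j hij 1 := by
  refine sl_ext fun x => ?_
  have h1 : (Pi.single j 1 : Fin m → F) ⬝ᵥ Pi.single i 1 = 0 := by simp [hij]
  have h2 : (Pi.single k 1 : Fin m → F) ⬝ᵥ Pi.single j 1 = 0 := by simp [hjk]
  have h3 : (Pi.single j 1 : Fin m → F) ⬝ᵥ Pi.single j 1 = 1 := by simp
  have h4 : (Pi.single k 1 : Fin m → F) ⬝ᵥ Pi.single i 1 = 0 := by simp [hik]
  simp only [xe, tv0, sl_mul_mulVec, tS_mulVec, one_smul, dotProduct_add, dotProduct_smul, cons_dot, h1,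
    h2, h3, h4]
  module

/-- The diagonal element `diag(1, d)`. -/
def de (d : Fin m → F) (hd : ∏ i, d i = 1) : SpecialLinearGroup (Fin (m + 1)) F :=
  ⟨diagonal (Fin.cons 1 d), by rw [det_diagonal, Fin.prod_univ_succ]; simp [hd]⟩

theorem de_mul_qe (d : Fin m → F) (hd : ∏ i, d i = 1) (a : Fin m → F) :
    de d hd * qe a = qe (fun i => a i / d i) * de d hd := by
  have hd0 : ∀ i, d i ≠ 0 := fun i h0 => by
    rw [Finset.prod_eq_zero (Finset.mem_univ i) h0] at hd; exact zero_ne_one hd
  refine conj_tS _ _ _ _ _ _ _ ?_ ?_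
  · show diagonal (Fin.cons 1 d) *ᵥ Pi.single 0 1 = _
    funext x
    rw [mulVec_diagonal]
    refine Fin.cases ?_ (fun y => ?_) x <;> simp
  · show Fin.cons 0 (fun i => a i / d i) ᵥ* diagonal (Fin.cons 1 d) = _
    funext x
    rw [vecMul_diagonal]
    refine Fin.cases ?_ (fun y => ?_) x
    · simp
    · simp [div_mul_cancel₀ _ (hd0 y)]

theorem de_mul_xe (d : Fin m → F) (hd : ∏ i, d i = 1) (i j : Fin m) (hij : i ≠ j) (s : F) :
    de d hd * xe i j hij s = xe i j hij (d i * s / d j) * de d hd := by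
  have hd0 : ∀ i, d i ≠ 0 := fun i h0 => by
    rw [Finset.prod_eq_zero (Finset.mem_univ i) h0] at hd; exact zero_ne_one hd
  refine sl_ext fun x => ?_
  have hde : ∀ y, (de d hd).1 *ᵥ y = diagonal (Fin.cons 1 d) *ᵥ y := fun y => rfl
  simp only [sl_mul_mulVec, xe, tv0, tS_mulVec, hde, cons_smul]
  funext z
  refine Fin.cases ?_ (fun y => ?_) z
  · simp [mulVec_diagonal]
  · simp only [mulVec_diagonal, Pi.add_apply, Pi.smul_apply, Fin.cons_succ, smul_eq_mul, dotProduct,
      Fin.sum_univ_succ, Fin.cons_zero, zero_mul, zero_add, Pi.single_apply]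
    simp [Finset.sum_ite_eq', mul_comm, mul_left_comm]
    split_ifs with hy
    · subst hy
      field_simp [hd0 j]
    · simp

/-- A subgroup covering `G` modulo the point group and free of transvections exists only in `SL_4(2)`. -/
theorem regular_contra [Finite F] (hm : 2 ≤ m) (hexc : ¬ (m = 3 ∧ Nat.card F = 2))
    (H : Subgroup (SpecialLinearGroup (Fin (m + 1)) F))
    (htf : ∀ v φ : Fin (m + 1) → F, v ≠ 0 → φ ≠ 0 → ¬ InT H v φ)
    (hcov : ∀ g, ∃ a : Fin m → F, qe a * g ∈ H) : False := by
  classical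
  have huniq : ∀ g (a b : Fin m → F), qe a * g ∈ H → qe b * g ∈ H → a = b := by
    intro g a b ha hb
    have h1 : qe (a - b) ∈ H := by
      have h2 := H.mul_mem ha (H.inv_mem hb)
      rwa [_root_.mul_inv_rev, ← mul_assoc, mul_inv_cancel_right, ← qe_neg, ← qe_add,
        ← sub_eq_add_neg] at h2
    by_contra hne
    refine htf (Pi.single 0 1) (Fin.cons 0 (a - b)) (by simp) ?_ (inT_iff.mpr ⟨_, h1⟩)
    intro h0
    apply hne
    funext i
    simpa [sub_eq_zero] using congrFun h0 i.succ
  choose R hR using hcov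
  let r : Fin m → Fin m → F → (Fin m → F) := fun i j s =>
    if hij : i ≠ j then R (xe i j hij s) else 0
  have hr : ∀ i j (hij : i ≠ j) s, qe (r i j s) * xe i j hij s ∈ H := by
    intro i j hij s
    simp only [r, dif_pos hij]
    exact hR _
  -- some coordinate away from `j` is non-zero
  have hnz : ∀ i j (_ : i ≠ j) (s : F), s ≠ 0 → ¬ (∀ k, k ≠ j → r i j s k = 0) := by
    intro i j hij s hs h
    have h1 := hr i j hij s
    have e : r i j s = r i j s j • Pi.single j 1 := by
      funext k
      rcases eq_or_ne k j with rfl | hk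
      · simp
      · simp [h k hk, Pi.single_apply, hk]
    rw [e, xe, qe_mul_tv0_eq _ _ hij] at h1
    refine htf _ _ ?_ ?_ (inT_iff.mpr ⟨_, h1⟩)
    · intro h0
      have := congrFun h0 i.succ
      simp at this
      exact hs this
    · intro h0
      have := congrFun h0 j.succ
      simp at this
  have hcomm : ∀ i j k l (_ : i ≠ j) (_ : k ≠ l), j ≠ k → l ≠ i → ∀ s t : F,
      (r k l t i * s) • (Pi.single j 1 : Fin m → F) = (r i j s k * t) • Pi.single l 1 := by
    intro i j k l hij hkl hjk hli s t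
    have h1 := H.mul_mem (hr i j hij s) (hr k l hkl t)
    have h2 := H.mul_mem (hr k l hkl t) (hr i j hij s)
    rw [mul_assoc, ← mul_assoc (xe i j hij s), xe_mul_qe, mul_assoc, ← mul_assoc, ← qe_add] at h1
    rw [mul_assoc, ← mul_assoc (xe k l hkl t), xe_mul_qe, mul_assoc, ← mul_assoc, ← qe_add,
      ← xe_comm i j k l hij hkl hjk hli] at h2
    have h3 := huniq _ _ _ h1 h2
    have h4 : r i j s + r k l t - (r k l t i * s) • (Pi.single j 1 : Fin m → F) =
        r i j s + r k l t - (r i j s k * t) • Pi.single l 1 := by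
      rw [add_sub_assoc, h3]; abel
    exact sub_right_injective h4
  have hzero : ∀ i j (_ : i ≠ j) (s : F) (k l : Fin m), k ≠ j → k ≠ l → l ≠ i → l ≠ j → r i j s k = 0 := by
    intro i j hij s k l hkj hkl hli hlj
    have := congrFun (hcomm i j k l hij hkl hkj.symm hli s 1) l
    simpa [Pi.single_apply, hlj] using this.symm
  rcases Nat.lt_or_ge m 4 with hm4 | hm4
  swap
  · obtain ⟨i, j, hij⟩ : ∃ i j : Fin m, i ≠ j := ⟨⟨0, by omega⟩, ⟨1, by omega⟩, by simp [Fin.ext_iff]⟩
    refine hnz i j hij 1 one_ne_zero fun k hk => ?_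
    obtain ⟨l, hl⟩ : ∃ l, l ∉ ({i, j, k} : Finset (Fin m)) := by
      by_contra hc
      push Not at hc
      have h1 := Finset.card_le_card (fun x _ => hc x : (Finset.univ : Finset (Fin m)) ⊆ {i, j, k})
      have h2 : ({i, j, k} : Finset (Fin m)).card ≤ 3 := Finset.card_le_three
      simp at h1
      omega
    simp only [Finset.mem_insert, Finset.mem_singleton, not_or] at hl
    exact hzero i j hij 1 k l hk (Ne.symm hl.2.2) hl.1 hl.2.1
  -- the torus relation
  have htor : ∀ (d : Fin m → F) (hd : ∏ x, d x = 1) i j (_ : i ≠ j) (s : F) (k : Fin m), k ≠ j →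
      r i j (d i * s / d j) k = r i j s k / d k := by
    intro d hd i j hij s k hk
    have h1 := H.mul_mem (hR (de d hd)) (hr i j hij s)
    have h2 := H.mul_mem (hr i j hij (d i * s / d j)) (hR (de d hd))
    rw [mul_assoc, ← mul_assoc (de d hd), de_mul_qe, mul_assoc, ← mul_assoc, ← qe_add, de_mul_xe d hd i j hij]
      at h1
    rw [mul_assoc, ← mul_assoc (xe i j hij (d i * s / d j)), xe_mul_qe, mul_assoc, ← mul_assoc, ← qe_add] at h2
    have h3 := congrFun (huniq _ _ _ h1 h2) k
    simp [Pi.single_apply, hk] at h3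
    linear_combination -h3
  rcases Nat.lt_or_ge m 3 with hm3 | hm3
  · -- `n = 3`
    obtain rfl : m = 2 := by omega
    have hij : (0 : Fin 2) ≠ 1 := by decide
    apply hnz 0 1 hij 1 one_ne_zero
    intro k hk
    obtain rfl : k = 0 := by omega
    have hlin : ∀ s : F, r 0 1 s 0 = r 0 1 1 0 * s := by
      intro s
      have := congrFun (hcomm 0 1 0 1 hij hij hij.symm hij.symm s 1) 1
      simp at this
      exact this.symm
    rcases eq_or_ne (2 : F) 0 with h2 | h2
    · have h1 := H.mul_mem (hr 0 1 hij 1) (hr 0 1 hij 1)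
      rw [mul_assoc, ← mul_assoc (xe 0 1 hij 1), xe_mul_qe, mul_assoc, ← mul_assoc, ← qe_add, xe_mul_self,
        show (1 : F) + 1 = 0 by rw [one_add_one_eq_two, h2], xe_zero] at h1
      have h0 : qe (0 : Fin 2 → F) * (1 : SpecialLinearGroup (Fin 3) F) ∈ H := by
        rw [qe_zero, one_mul]; exact H.one_mem
      have h3 := congrFun (huniq _ _ _ h1 h0) 1
      simp at h3
      linear_combination (r 0 1 1 1) * h2 - h3
    · have h3 := htor ![-1, -1] (by simp [Fin.prod_univ_two]) 0 1 hij 1 0 hk
      rw [hlin] at h3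
      simp at h3
      have h4 : (2 : F) * r 0 1 1 0 = 0 := by linear_combination h3
      exact (mul_eq_zero.mp h4).resolve_left h2
  -- `n = 4`
  obtain rfl : m = 3 := by omega
  have key : ∀ i j k : Fin 3, ∀ (_ : i ≠ j) (_ : k ≠ j), i ≠ k → ∀ s : F,
      r i j s k = r k j 1 i * s := by
    intro i j k hij hkj hik s
    have := congrFun (hcomm i j k j hij hkj hkj.symm hij.symm s 1) j
    simp at this
    exact this.symm
  have hi0 : ∀ i j k : Fin 3, i ≠ j → k ≠ j → k ≠ i → ∀ s : F, r i j s i = 0 := by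
    intro i j k hij hkj hki s
    exact hzero i j hij s i k hij hki.symm hki hkj
  suffices hk0 : ∀ i j k : Fin 3, ∀ (_ : i ≠ j) (_ : k ≠ j), i ≠ k → r i j 1 k = 0 by
    apply hnz 0 1 (by decide) 1 one_ne_zero
    intro x hx
    rcases (by omega : x = 0 ∨ x = 2) with rfl | rfl
    · exact hi0 0 1 2 (by decide) (by decide) (by decide) 1
    · exact hk0 0 1 2 (by decide) (by decide) (by decide)
  rcases eq_or_ne (2 : F) 0 with h2 | h2
  · have hF : 2 < Nat.card F := by
      have := Finite.one_lt_card (α := F)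
      by_contra hc
      exact hexc ⟨rfl, by omega⟩
    obtain ⟨c, hc0, hc1⟩ : ∃ c : F, c ≠ 0 ∧ c ≠ 1 := by
      by_contra hc
      push Not at hc
      have := Fintype.ofFinite F
      have hsub : (Finset.univ : Finset F) ⊆ {0, 1} := fun x _ => by
        by_cases h : x = 0
        · simp [h]
        · simp [hc x h]
      have h1 := Finset.card_le_card hsub
      have h3 := Finset.card_le_two (a := (0 : F)) (b := 1)
      rw [Finset.card_univ, ← Nat.card_eq_fintype_card] at h1
      omega
    intro i j k hij hkj hik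
    let d : Fin 3 → F := fun x => if x = i then 1 else if x = j then c else c⁻¹
    have hd : ∏ x, d x = 1 := by
      have hu : (Finset.univ : Finset (Fin 3)) = {i, j, k} := by
        revert i j k; decide
      rw [hu, Finset.prod_insert (by simp [hij, hik]), Finset.prod_insert (by simp [hkj.symm]),
        Finset.prod_singleton]
      simp [d, hij.symm, hik.symm, hkj, mul_inv_cancel₀ hc0]
    have h3 := htor d hd i j hij 1 k hkj
    rw [key i j k hij hkj hik, key i j k hij hkj hik 1] at h3
    have hdi : d i = 1 := by simp [d]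
    have hdj : d j = c := by simp [d, hij.symm]
    have hdk : d k = c⁻¹ := by simp [d, hik.symm, hkj]
    rw [hdi, hdj, hdk] at h3
    rw [key i j k hij hkj hik 1, mul_one]
    field_simp at h3
    have h4 : r k j 1 i * (c - 1) * (c + 1) = 0 := by linear_combination -h3
    have hc1' : c + 1 ≠ 0 := fun h => hc1 (by linear_combination h - h2)
    exact (mul_eq_zero.mp ((mul_eq_zero.mp h4).resolve_right hc1')).resolve_right (sub_ne_zero.mpr hc1)
  · intro i j k hij hkj hik
    have hxy := xe_commutator (F := F) k i j hik.symm hij hkj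
    have h1 := H.mul_mem (hr k i hik.symm 1) (hr i j hij 1)
    have h4 := H.mul_mem (H.mul_mem (hr k j hkj 1) (hr i j hij 1)) (hr k i hik.symm 1)
    rw [mul_assoc, ← mul_assoc (xe k i hik.symm 1), xe_mul_qe, mul_assoc, ← mul_assoc, ← qe_add, hxy] at h1
    have e2 : qe (r k j 1) * xe k j hkj 1 * (qe (r i j 1) * xe i j hij 1) * (qe (r k i 1) * xe k i hik.symm 1) =
        qe (r k j 1 + (r i j 1 - (r i j 1 k * 1) • Pi.single j 1) +
          (r k i 1 - (r k i 1 i * 1) • Pi.single j 1
            - ((r k i 1 - (r k i 1 i * 1) • (Pi.single j 1 : Fin 3 → F)) k * 1) • Pi.single j 1)) *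
          (xe k j hkj 1 * xe i j hij 1 * xe k i hik.symm 1) := by
      calc qe (r k j 1) * xe k j hkj 1 * (qe (r i j 1) * xe i j hij 1) * (qe (r k i 1) * xe k i hik.symm 1)
          = qe (r k j 1) * (xe k j hkj 1 * qe (r i j 1)) * ((xe i j hij 1 * qe (r k i 1)) * xe k i hik.symm 1) := by
            simp only [mul_assoc]
        _ = qe (r k j 1) * qe (r i j 1 - (r i j 1 k * 1) • Pi.single j 1) *
            (xe k j hkj 1 * qe (r k i 1 - (r k i 1 i * 1) • Pi.single j 1)) *
            (xe i j hij 1 * xe k i hik.symm 1) := by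
            rw [xe_mul_qe, xe_mul_qe]; simp only [mul_assoc]
        _ = _ := by rw [xe_mul_qe, qe_add, qe_add]; simp only [mul_assoc]
    rw [e2] at h4
    have h5 := congrFun (huniq _ _ _ h1 h4) i
    simp [Pi.single_apply, hij, hik] at h5
    have e3 := key k j i hkj hij hik.symm 1
    rw [mul_one] at e3
    have h6 : (2 : F) * r i j 1 k = 0 := by linear_combination -h5 - e3
    exact (mul_eq_zero.mp h6).resolve_left h2

end CfsgLib.KnownA.MinIndex
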