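import Cfsg.Agent.Lib.KnownA.MinIndexCases

/-!
# The smallest index of a proper subgroup of `SL_n`
-/

set_option autoImplicit false

namespace CfsgLib.KnownA.MinIndex

open Matrix CfsgLib.KnownA

variable {F : Type*} [Field F] {m : ℕ}

theorem cons_tail_eq {x : Fin (m + 1) → F} (h : x 0 = 0) : (Fin.cons 0 (Fin.tail x) : Fin (m + 1) → F) = x := by
  rw [← h, Fin.cons_self_tail]

theorem vecMul_zero_coord (g : SpecialLinearGroup (Fin (m + 1)) F) (φ : Fin (m + 1) → F) :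
    (φ ᵥ* g.1) 0 = φ ⬝ᵥ (g.1 *ᵥ Pi.single 0 1) := by
  rw [dotProduct_mulVec, dotProduct_single, mul_one]

theorem fix_iff (K : Subgroup (SpecialLinearGroup (Fin (m + 1)) F))
    (g : SpecialLinearGroup (Fin (m + 1)) F) {v φ : Fin (m + 1) → F}
    (hg : g.1 *ᵥ Pi.single 0 1 = v) (hφ : φ ⬝ᵥ v = 0) (a : Fin m → F)
    (ha : φ ᵥ* g.1 = Fin.cons 0 a) :
    qe a • (QuotientGroup.mk g⁻¹ : SpecialLinearGroup (Fin (m + 1)) F ⧸ K) = QuotientGroup.mk g⁻¹ ↔
      InT K v φ := by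
  rw [MulAction.Quotient.smul_mk, smul_eq_mul, QuotientGroup.eq, inT_iff]
  have h1 : g * qe a = tS v φ hφ * g := conj_tS g _ _ _ v φ hφ hg ha
  have h2 : (qe a * g⁻¹)⁻¹ * g⁻¹ = (tS v φ hφ)⁻¹ := by
    have h3 : tS v φ hφ = g * qe a * g⁻¹ := by rw [h1, mul_inv_cancel_right]
    rw [h3]; group
  rw [h2, inv_mem_iff]
  exact ⟨fun h => ⟨hφ, h⟩, fun ⟨_, h⟩ => h⟩

theorem inT_iff_subspace {n : ℕ} {K : Subgroup (SpecialLinearGroup (Fin n) F)}
    {W : Submodule F (Fin n → F)} (hK : ∀ g, g ∈ K ↔ ∀ w, g.1 *ᵥ w ∈ W ↔ w ∈ W)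
    {v φ : Fin n → F} (hv : v ∉ W) (hφ : φ ⬝ᵥ v = 0) :
    InT K v φ ↔ ∀ w ∈ W, φ ⬝ᵥ w = 0 := by
  rw [inT_iff]
  constructor
  · rintro ⟨h, hmem⟩ w hw
    have h1 := ((hK _).mp hmem w).mpr hw
    rw [tS_mulVec] at h1
    have h2 : (φ ⬝ᵥ w) • v ∈ W := by simpa using W.sub_mem h1 hw
    by_contra h0
    exact hv (by simpa [smul_smul, inv_mul_cancel₀ h0] using W.smul_mem (φ ⬝ᵥ w)⁻¹ h2)
  · intro h
    refine ⟨hφ, (hK _).mpr fun w => ?_⟩
    rw [tS_mulVec]
    constructor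
    · intro hw
      have h1 := h _ hw
      rw [dotProduct_add, dotProduct_smul, hφ, smul_zero, add_zero] at h1
      rwa [h1, zero_smul, add_zero] at hw
    · intro hw
      rwa [h w hw, zero_smul, add_zero]

variable [Fintype F]

/-- The stabiliser of a subspace of middle dimension has large index. -/
theorem subspace_bound (hm : 2 ≤ m) (H : Subgroup (SpecialLinearGroup (Fin (m + 1)) F))
    (W : Submodule F (Fin (m + 1) → F)) (hbot : W ≠ ⊥) (htop : W ≠ ⊤)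
    (hW : ∀ g ∈ H, ∀ w ∈ W, g.1 *ᵥ w ∈ W) :
    Fintype.card F ^ (m + 1) - 1 ≤ H.index * (Fintype.card F - 1) := by
  classical
  obtain ⟨w₁, hw₁, hw₁0⟩ := Submodule.exists_mem_ne_zero_of_ne_bot hbot
  by_cases hline : W ≤ Submodule.span F {w₁}
  · have h := index_bound_of_line (by omega) H hw₁0 (fun g hg => by
      obtain ⟨c, hc⟩ := Submodule.mem_span_singleton.mp (hline (hW g hg w₁ hw₁))
      exact ⟨c, hc.symm⟩)
    simpa [Nat.card_eq_fintype_card] using h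
  obtain ⟨w₂, hw₂, hw₂'⟩ := SetLike.not_le_iff_exists.mp hline
  obtain ⟨v, hv⟩ : ∃ v, v ∉ W := by
    by_contra hc
    push Not at hc
    exact htop (eq_top_iff.2 fun z _ => hc z)
  by_cases hhyp : W ⊔ Submodule.span F {v} = ⊤
  · obtain ⟨φ, hφv, hφ⟩ := exists_functional W hv
    have h := index_bound_of_hyperplane (by omega) H (φ := φ) (by rintro rfl; simp at hφv) (fun g hg => by
      refine ⟨(φ ᵥ* g.1) ⬝ᵥ v, ?_⟩
      refine dotProduct_eq _ _ fun x => ?_
      obtain ⟨w, hw, z, hz, rfl⟩ := Submodule.mem_sup.mp (hhyp ▸ (Submodule.mem_top : x ∈ ⊤))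
      obtain ⟨c, rfl⟩ := Submodule.mem_span_singleton.mp hz
      simp [dotProduct_add, dotProduct_smul, hφ w hw, hφv, ← dotProduct_mulVec, hφ _ (hW g hg w hw),
        mul_comm])
    simpa [Nat.card_eq_fintype_card] using h
  obtain ⟨x, hx⟩ : ∃ x, x ∉ W ⊔ Submodule.span F {v} := by
    by_contra hc
    push Not at hc
    exact hhyp (eq_top_iff.2 fun z _ => hc z)
  obtain ⟨χ, hχx, hχ⟩ := exists_functional _ hx
  have hχv : χ ⬝ᵥ v = 0 := hχ v (Submodule.mem_sup_right (Submodule.subset_span rfl))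
  obtain ⟨g, hg⟩ := exists_map (by omega : 2 ≤ m + 1) (x := (Pi.single 0 1 : Fin (m + 1) → F)) (y := v)
    (by simp) (fun h0 => hv (h0 ▸ W.zero_mem))
  let K : Subgroup (SpecialLinearGroup (Fin (m + 1)) F) :=
    { carrier := {k | ∀ w, k.1 *ᵥ w ∈ W ↔ w ∈ W}
      one_mem' := fun w => by rw [val_one, one_mulVec]
      mul_mem' := fun {a b} ha hb w => by rw [sl_mul_mulVec, ha, hb]
      inv_mem' := fun {a} ha w => by rw [← ha, sl_mulVec_inv] }
  have hHK : H ≤ K := fun k hk w => ⟨fun h => by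
      have h' := hW _ (inv_mem hk) _ h
      rwa [sl_inv_mulVec] at h',
    fun h => hW k hk w h⟩
  refine le_trans ?_ (Nat.mul_le_mul_right _ (Nat.le_of_dvd (Nat.pos_of_ne_zero
    Subgroup.index_ne_zero_of_finite) (Subgroup.index_dvd_of_le hHK)))
  by_contra hlt
  let G := SpecialLinearGroup (Fin (m + 1)) F
  have := Fintype.ofFinite (G ⧸ K)
  rw [Subgroup.index_eq_card, Nat.card_eq_fintype_card] at hlt
  let ω : G ⧸ K := QuotientGroup.mk g⁻¹
  -- the stabiliser of `ω`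
  have hA : ∀ a : Fin m → F, qe a • ω = ω ↔ ∀ w ∈ W, a ⬝ᵥ Fin.tail ((g⁻¹).1 *ᵥ w) = 0 := by
    intro a
    let φ : Fin (m + 1) → F := Fin.cons 0 a ᵥ* (g⁻¹).1
    have hφg : φ ᵥ* g.1 = Fin.cons 0 a := by
      rw [vecMul_vecMul, ← val_mul, inv_mul_cancel, val_one, vecMul_one]
    have hφv : φ ⬝ᵥ v = 0 := by
      rw [← hg, dotProduct_mulVec, hφg]; simp
    rw [fix_iff K g hg hφv a hφg, inT_iff_subspace (fun _ => Iff.rfl) hv hφv]
    refine forall₂_congr fun w _ => ?_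
    rw [← dotProduct_mulVec]
    simp [dotProduct, Fin.sum_univ_succ, Fin.tail]
  let u₁ := Fin.tail ((g⁻¹).1 *ᵥ w₁)
  let u₂ := Fin.tail ((g⁻¹).1 *ᵥ w₂)
  have hindep : ∀ a b : F, a • u₁ + b • u₂ = 0 → a • w₁ + b • w₂ = 0 := by
    intro a b hab
    have h1 : (g⁻¹).1 *ᵥ (a • w₁ + b • w₂) =
        ((g⁻¹).1 *ᵥ (a • w₁ + b • w₂)) 0 • (Pi.single 0 1 : Fin (m + 1) → F) := by
      funext z
      refine Fin.cases ?_ (fun y => ?_) z
      · simp
      · have := congrFun hab y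
        simp [u₁, u₂, Fin.tail] at this
        simp [mulVec_add, mulVec_smul, this]
    have h2 := congrArg (g.1 *ᵥ ·) h1
    simp only [sl_mulVec_inv, mulVec_smul, hg] at h2
    by_contra h0
    apply hv
    have hmem : a • w₁ + b • w₂ ∈ W := W.add_mem (W.smul_mem _ hw₁) (W.smul_mem _ hw₂)
    rw [h2] at hmem h0
    have hc : ((g⁻¹).1 *ᵥ (a • w₁ + b • w₂)) 0 ≠ 0 := by
      intro hc; rw [hc, zero_smul] at h0; exact h0 rfl
    have h3 := W.smul_mem (((g⁻¹).1 *ᵥ (a • w₁ + b • w₂)) 0)⁻¹ hmem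
    rwa [smul_smul, inv_mul_cancel₀ hc, one_smul] at h3
  have hu₁ : u₁ ≠ 0 := by
    intro h0
    have := hindep 1 0 (by simp [h0])
    simp at this
    exact hw₁0 this
  obtain ⟨i, hi⟩ := Function.ne_iff.mp hu₁
  have hmoved : ∃ (ω' : G ⧸ K) (a : Fin m → F), qe a • ω' ≠ ω' := ⟨ω, Pi.single i 1, fun h => hi (by
    simpa [u₁] using (hA _).mp h w₁ hw₁)⟩
  rcases orbit_dichotomy hm hmoved (lt_of_not_ge hlt) with ⟨ω₁, hω₁, hall⟩ | hl
  · rcases hall ω with h | ⟨c, hc⟩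
    · exact hi (by simpa [u₁] using (hA (Pi.single i 1)).mp (h _) w₁ hw₁)
    · have hχ0 : (χ ᵥ* g.1) 0 = 0 := by rw [vecMul_zero_coord, hg, hχv]
      have hcons := cons_tail_eq hχ0
      have hfix : qe (Fin.tail (χ ᵥ* g.1)) • ω = ω := (fix_iff K g hg hχv _ hcons.symm).mpr
        ((inT_iff_subspace (fun _ => Iff.rfl) hv hχv).mpr fun w hw => hχ w (Submodule.mem_sup_left hw))
      rw [← hc, smul_smul, ← qe_add, add_comm (_ : Fin m → F) c, qe_add, mul_smul, smul_left_cancel_iff] at hfix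
      have h0 := hω₁ _ hfix
      rw [h0] at hcons
      have hz : χ ᵥ* g.1 = 0 := by
        rw [← hcons]
        funext z
        refine Fin.cases ?_ (fun y => ?_) z <;> simp
      have hχ0' : χ = 0 := by
        have h1 := congrArg (fun z => z ᵥ* (g⁻¹).1) hz
        simp only [vecMul_vecMul, ← val_mul, mul_inv_cancel, val_one, vecMul_one, zero_vecMul] at h1
        exact h1
      rw [hχ0'] at hχx
      simp at hχx
  · obtain ⟨u, -, hu⟩ := hl ω
    have key : ∀ w ∈ W, Fin.tail ((g⁻¹).1 *ᵥ w) ∈ Submodule.span F {u} := by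
      intro w hw
      by_contra hn
      obtain ⟨a, ha1, ha⟩ := exists_functional _ hn
      have h0 : u ⬝ᵥ a = 0 := by rw [dotProduct_comm]; exact ha u (Submodule.subset_span rfl)
      rw [(hA a).mp ((hu a).mpr h0) w hw] at ha1
      exact zero_ne_one ha1
    obtain ⟨c₁, hc₁⟩ := Submodule.mem_span_singleton.mp (key w₁ hw₁)
    obtain ⟨c₂, hc₂⟩ := Submodule.mem_span_singleton.mp (key w₂ hw₂)
    have hc₁0 : c₁ ≠ 0 := by
      rintro rfl
      exact hu₁ (hc₁.symm.trans (zero_smul F u))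
    have h := hindep c₂ (-c₁) (by
      show c₂ • u₁ + -c₁ • u₂ = 0
      rw [show u₁ = c₁ • u from hc₁.symm, show u₂ = c₂ • u from hc₂.symm]; module)
    apply hw₂'
    refine Submodule.mem_span_singleton.mpr ⟨c₁⁻¹ * c₂, ?_⟩
    have h' : c₂ • w₁ = c₁ • w₂ := by rw [neg_smul, add_neg_eq_zero] at h; exact h
    rw [mul_smul, h', smul_smul, inv_mul_cancel₀ hc₁0, one_smul]

/-- **The index bound.** -/
theorem index_bound (hm : 2 ≤ m) (hexc : ¬ (m = 3 ∧ Fintype.card F = 2))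
    (H : Subgroup (SpecialLinearGroup (Fin (m + 1)) F)) (hH : H ≠ ⊤) :
    Fintype.card F ^ (m + 1) - 1 ≤ H.index * (Fintype.card F - 1) := by
  classical
  by_contra hlt
  have full : ∀ v : Fin (m + 1) → F, v ≠ 0 → (∀ φ, φ ⬝ᵥ v = 0 → InT H v φ) → False := by
    intro v hv hv'
    obtain ⟨W, hbot, htop, hW⟩ := exists_invariant_subspace (by omega) H hH hv hv'
    exact hlt (subspace_bound hm H W hbot htop hW)
  let G := SpecialLinearGroup (Fin (m + 1)) F
  have := Fintype.ofFinite (G ⧸ H)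
  have hsmall : Fintype.card (G ⧸ H) * (Fintype.card F - 1) < Fintype.card F ^ (m + 1) - 1 := by
    rw [← Nat.card_eq_fintype_card (α := G ⧸ H), ← Subgroup.index_eq_card]
    exact lt_of_not_ge hlt
  have nofix : ∀ ω : G ⧸ H, ¬ ∀ a : Fin m → F, qe a • ω = ω := by
    intro ω hω
    obtain ⟨g, rfl⟩ := QuotientGroup.mk_surjective ω
    refine full ((g⁻¹).1 *ᵥ Pi.single 0 1) (fun h0 => ?_) fun φ hφ => ?_
    · have h1 : g.1 *ᵥ ((g⁻¹).1 *ᵥ (Pi.single 0 1 : Fin (m + 1) → F)) = g.1 *ᵥ 0 := congrArg (g.1 *ᵥ ·) h0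
      rw [sl_mulVec_inv, mulVec_zero] at h1
      exact one_ne_zero (Pi.single_eq_zero_iff.mp h1)
    · have h0 : (φ ᵥ* (g⁻¹).1) 0 = 0 := by rw [vecMul_zero_coord, hφ]
      have h1 := (fix_iff H g⁻¹ rfl hφ _ (cons_tail_eq h0).symm).mp
      rw [inv_inv] at h1
      exact h1 (hω _)
  have hmove : ∃ (ω : G ⧸ H) (a : Fin m → F), qe a • ω ≠ ω := by
    by_contra hc
    push Not at hc
    exact nofix (QuotientGroup.mk 1) (fun a => hc _ a)
  rcases orbit_dichotomy hm hmove hsmall with ⟨ω₁, hω₁, hall⟩ | hlines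
  · have horb : ∀ ω, ∃ a : Fin m → F, qe a • ω₁ = ω := fun ω => (hall ω).resolve_left (nofix ω)
    refine regular_contra hm (fun h => hexc ⟨h.1, by rw [← Nat.card_eq_fintype_card]; exact h.2⟩) H ?_ ?_
    · intro v φ hv hφ0 hT
      obtain ⟨g, hg⟩ := exists_map (by omega : 2 ≤ m + 1) (x := (Pi.single 0 1 : Fin (m + 1) → F)) (y := v)
        (by simp) hv
      have h0 : (φ ᵥ* g.1) 0 = 0 := by rw [vecMul_zero_coord, hg, hT.1]
      have hfix := (fix_iff H g hg hT.1 _ (cons_tail_eq h0).symm).mpr hT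
      obtain ⟨c, hc⟩ := horb (QuotientGroup.mk g⁻¹)
      rw [← hc, smul_smul, ← qe_add, add_comm (_ : Fin m → F) c, qe_add, mul_smul, smul_left_cancel_iff] at hfix
      have h2 := hω₁ _ hfix
      have hz : φ ᵥ* g.1 = 0 := by
        rw [← cons_tail_eq h0, h2]
        funext z
        refine Fin.cases ?_ (fun y => ?_) z <;> simp
      apply hφ0
      have h1 := congrArg (fun z => z ᵥ* (g⁻¹).1) hz
      simp only [vecMul_vecMul, ← val_mul, mul_inv_cancel, val_one, vecMul_one, zero_vecMul] at h1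
      exact h1
    · intro g
      obtain ⟨a, ha⟩ := horb (QuotientGroup.mk g)
      obtain ⟨b, hb⟩ := horb (QuotientGroup.mk 1)
      refine ⟨b - a, ?_⟩
      have h1 : qe (b - a) • (QuotientGroup.mk g : G ⧸ H) = QuotientGroup.mk 1 := by
        rw [← ha, smul_smul, ← qe_add, sub_add_cancel, hb]
      rw [MulAction.Quotient.smul_mk, smul_eq_mul, QuotientGroup.eq, mul_one, inv_mem_iff] at h1
      exact h1
  · refine planes_contra (by omega) H fun v hv => ?_
    obtain ⟨g, hg⟩ := exists_map (by omega : 2 ≤ m + 1) (x := (Pi.single 0 1 : Fin (m + 1) → F)) (y := v)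
      (by simp) hv
    obtain ⟨u, hu0, hu⟩ := hlines (QuotientGroup.mk g⁻¹)
    refine ⟨g.1 *ᵥ Fin.cons 0 u, ?_, fun φ hφ => ?_⟩
    · intro h
      obtain ⟨c, hc⟩ := Submodule.mem_span_singleton.mp h
      rw [← hg, ← mulVec_smul] at hc
      have h1 := congrArg ((g⁻¹).1 *ᵥ ·) hc
      simp only [sl_inv_mulVec] at h1
      apply hu0
      funext y
      simpa using (congrFun h1 y.succ).symm
    · have h0 : (φ ᵥ* g.1) 0 = 0 := by rw [vecMul_zero_coord, hg, hφ]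
      rw [← fix_iff H g hg hφ _ (cons_tail_eq h0).symm, hu, dotProduct_mulVec]
      conv_rhs => rw [← cons_tail_eq h0, cons_dot, dotProduct_comm]

end CfsgLib.KnownA.MinIndex
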