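import Cfsg.Prelude.Def_LieTypeChar
import Cfsg.Agent.S0243
import Cfsg.Agent.S0280
import Cfsg.Agent.S0292
import Cfsg.Agent.S0293
import Cfsg.Agent.S0294
import Cfsg.Agent.S1059
import Cfsg.Agent.S1062
import Cfsg.Agent.S1063
import Cfsg.Agent.S1064
import Cfsg.Agent.S1065
import Cfsg.Agent.S1066
import Cfsg.Agent.S1067
import Cfsg.Agent.S1068
import Cfsg.Agent.S1069
import Cfsg.Agent.Lib.Classical.SympSimple
import Cfsg.Agent.Lib.Classical.SympOrder
import Cfsg.Agent.Lib.KnownA.Suzuki.Basic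

/-!
The order of a group of Lie type is bounded by its defining-characteristic part.
-/

set_option autoImplicit false

namespace CfsgLib.KnownA.OrderBound

open Finset

/-- The two conclusions. -/
def Concl (p : ℕ) (G : Type*) [Group G] : Prop :=
  Nat.card G < p ^ (3 * (Nat.card G).factorization p) ∧
    ((¬ ∃ (F : Type) (_ : Field F) (_ : Fintype F), Fintype.card F = p ^ (Nat.card G).factorization p ∧
        Nonempty (G ≃* Matrix.ProjectiveSpecialLinearGroup (Fin 2) F)) →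
      Nat.card G ^ 3 < p ^ (8 * (Nat.card G).factorization p))

theorem exists_pow_of_charP {F : Type*} [Field F] [Fintype F] {p : ℕ} [CharP F p] :
    p.Prime ∧ ∃ f : ℕ, 0 < f ∧ Fintype.card F = p ^ f := by
  obtain ⟨f, hp, hf⟩ := FiniteField.card F p
  exact ⟨hp, f, f.pos, hf⟩

theorem exists_pow_of_card {p q k f : ℕ} (hp : p.Prime) (hk : k ≠ 0) (hf : 0 < f) (h : p ^ f = q ^ k) :
    ∃ a : ℕ, 0 < a ∧ q = p ^ a := by
  obtain ⟨a, -, ha⟩ := (Nat.dvd_prime_pow hp).1 (h ▸ dvd_pow_self q hk)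
  refine ⟨a, Nat.pos_of_ne_zero ?_, ha⟩
  rintro rfl
  rw [pow_zero] at ha
  rw [ha, one_pow] at h
  exact hp.one_lt.ne' ((Nat.pow_eq_one.1 h).resolve_right hf.ne')

theorem not_dvd_sub_one {p f a : ℕ} (hp : p.Prime) (hf : 0 < f) (ha : 0 < a) :
    ¬ p ∣ (p ^ f) ^ a - 1 := by
  intro h
  have h2 : p ∣ (p ^ f) ^ a := dvd_pow (dvd_pow_self p hf.ne') ha.ne'
  have h1 : 1 ≤ (p ^ f) ^ a := Nat.one_le_pow _ _ (pow_pos hp.pos f)
  exact hp.one_lt.ne' (Nat.dvd_one.1 (Nat.sub_sub_self h1 ▸ Nat.dvd_sub h2 h))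

theorem not_dvd_add_one {p f a : ℕ} (hp : p.Prime) (hf : 0 < f) (ha : 0 < a) :
    ¬ p ∣ (p ^ f) ^ a + 1 := by
  intro h
  have h2 : p ∣ (p ^ f) ^ a := dvd_pow (dvd_pow_self p hf.ne') ha.ne'
  exact hp.one_lt.ne' (Nat.dvd_one.1 ((Nat.dvd_add_right h2).1 h))

/-- The order formula gives the exact `p`-part and both bounds. -/
theorem concl_of_formula {G : Type*} [Group G] [Finite G] {p q f d N M S : ℕ} (hp : p.Prime)
    (hf : 0 < f) (hq : q = p ^ f) (hd : ¬ p ∣ d) (hM : ¬ p ∣ M)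
    (h : d * Nat.card G = q ^ N * M) (hS : M < q ^ S) (h3 : 3 * S ≤ 5 * N) : Concl p G := by
  have hd0 : d ≠ 0 := by rintro rfl; exact hd (dvd_zero p)
  have hM0 : M ≠ 0 := by rintro rfl; exact hM (dvd_zero p)
  have hk : (Nat.card G).factorization p = f * N := by
    have h' := congrArg (fun n => n.factorization p) h
    simp only [Nat.factorization_mul hd0 Nat.card_pos.ne',
      Nat.factorization_mul (pow_ne_zero _ (hq ▸ pow_ne_zero _ hp.ne_zero)) hM0, Finsupp.add_apply,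
      Nat.factorization_eq_zero_of_not_dvd hd, Nat.factorization_eq_zero_of_not_dvd hM] at h'
    rw [hq, ← pow_mul, hp.factorization_pow, Finsupp.single_eq_same, zero_add, add_zero] at h'
    exact h'
  have hq1 : 1 < q := hq ▸ Nat.one_lt_pow hf.ne' hp.one_lt
  have hle : Nat.card G ≤ q ^ N * M := h ▸ Nat.le_mul_of_pos_left _ (Nat.pos_of_ne_zero hd0)
  rw [Concl, hk, show 3 * (f * N) = f * (3 * N) by ring, show 8 * (f * N) = f * (8 * N) by ring,
    pow_mul p f (3 * N), pow_mul p f (8 * N), ← hq]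
  refine ⟨?_, fun _ => ?_⟩
  · calc Nat.card G ≤ q ^ N * M := hle
      _ < q ^ N * q ^ S := Nat.mul_lt_mul_of_pos_left hS (pow_pos (by omega) N)
      _ ≤ q ^ (3 * N) := by rw [← pow_add]; exact Nat.pow_le_pow_right (by omega) (by omega)
  · calc Nat.card G ^ 3 ≤ (q ^ N * M) ^ 3 := Nat.pow_le_pow_left hle 3
      _ < (q ^ N * q ^ S) ^ 3 :=
        Nat.pow_lt_pow_left (Nat.mul_lt_mul_of_pos_left hS (pow_pos (by omega) N)) (by omega)
      _ ≤ q ^ (8 * N) := by rw [← pow_add, ← pow_mul]; exact Nat.pow_le_pow_right (by omega) (by omega)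

theorem sub_one_lt {q a : ℕ} (hq : 2 ≤ q) : q ^ a - 1 < q ^ a := by
  have := Nat.one_le_pow a q (by omega)
  omega

theorem add_one_le {q a : ℕ} (hq : 2 ≤ q) : q ^ a + 1 ≤ q ^ (a + 1) := by
  have h1 := Nat.one_le_pow a q (by omega)
  rw [pow_succ]
  nlinarith

/-- `(q^a - 1)(q^b + 1) < q^(a+b)` for `a ≤ b`. -/
theorem pair_lt {q a b : ℕ} (hq : 2 ≤ q) (hab : a ≤ b) : (q ^ a - 1) * (q ^ b + 1) < q ^ (a + b) := by
  have h1 := Nat.one_le_pow a q (by omega)
  have h2 : q ^ a ≤ q ^ b := Nat.pow_le_pow_right (by omega) hab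
  obtain ⟨A, hA⟩ : ∃ A, q ^ a = A + 1 := ⟨q ^ a - 1, by omega⟩
  rw [pow_add, hA, Nat.add_sub_cancel]
  nlinarith

theorem prod_sub_one_lt {q : ℕ} (hq : 2 ≤ q) (g : ℕ → ℕ) :
    ∀ k, 0 < k → ∏ i ∈ range k, (q ^ g i - 1) < q ^ (∑ i ∈ range k, g i) := by
  intro k hk
  induction k with
  | zero => omega
  | succ k ih =>
    rw [prod_range_succ, sum_range_succ, pow_add]
    rcases k.eq_zero_or_pos with rfl | hk'
    · simpa using sub_one_lt (a := g 0) hq
    · exact Nat.mul_lt_mul'' (ih hk') (sub_one_lt hq)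

theorem two_mul_sum_succ_succ : ∀ k, 2 * ∑ i ∈ range k, (i + 2) = k * (k + 3)
  | 0 => rfl
  | k + 1 => by rw [sum_range_succ, mul_add, two_mul_sum_succ_succ k]; ring

theorem sum_two_mul : ∀ k, ∑ i ∈ range k, 2 * (i + 1) = k * (k + 1)
  | 0 => rfl
  | k + 1 => by rw [sum_range_succ, sum_two_mul k]; ring

/-- The unitary product. -/
theorem prod_unitary_lt {q : ℕ} (hq : 2 ≤ q) : ∀ k, 0 < k →
    ∏ i ∈ range k, (if Even (i + 1) then q ^ (i + 2) + 1 else q ^ (i + 2) - 1) <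
      q ^ (∑ i ∈ range k, (i + 2))
  | 0, h => absurd h (by omega)
  | 1, _ => by simpa using sub_one_lt (a := 2) hq
  | k + 2, _ => by
    by_cases hk : Even (k + 1 + 1)
    · -- the last pair has signs minus, plus
      rw [prod_range_succ _ (k + 1), prod_range_succ _ k, sum_range_succ _ (k + 1), sum_range_succ _ k,
        if_pos hk, if_neg (show ¬ Even (k + 1) by grind), mul_assoc, add_assoc (∑ i ∈ range k, (i + 2)),
        pow_add q (∑ i ∈ range k, (i + 2))]
      rcases k.eq_zero_or_pos with rfl | hk'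
      · simpa using pair_lt (a := 2) (b := 3) hq (by omega)
      · exact Nat.mul_lt_mul'' (prod_unitary_lt hq k hk') (pair_lt hq (by omega))
    · rw [prod_range_succ _ (k + 1), sum_range_succ _ (k + 1), if_neg hk,
        pow_add q (∑ i ∈ range (k + 1), (i + 2))]
      exact Nat.mul_lt_mul'' (prod_unitary_lt hq (k + 1) (by omega)) (sub_one_lt hq)

theorem prime_not_dvd_prod {p k : ℕ} (hp : p.Prime) {g : ℕ → ℕ} (h : ∀ i, i < k → ¬ p ∣ g i) :
    ¬ p ∣ ∏ i ∈ range k, g i := fun hd => by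
  obtain ⟨i, hi, hd'⟩ := (hp.prime.dvd_finset_prod_iff _).1 hd
  exact h i (mem_range.1 hi) hd'

theorem not_dvd_gcd {p a b : ℕ} (h : ¬ p ∣ b) : ¬ p ∣ Nat.gcd a b :=
  fun hd => h (hd.trans (Nat.gcd_dvd_right a b))

theorem not_dvd_mul' {p a b : ℕ} (hp : p.Prime) (ha : ¬ p ∣ a) (hb : ¬ p ∣ b) : ¬ p ∣ a * b :=
  fun h => (hp.dvd_mul.1 h).elim ha hb

variable {G : Type*} [Group G] [Finite G] {p : ℕ}

set_option maxHeartbeats 1000000 in
theorem psl (hG : Cfsg.IsPSLChar p G) : Concl p G := by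
  obtain ⟨F, iF, iFF, _, n, hn, h2, ⟨φ⟩⟩ := hG
  obtain ⟨hp, f, hf, hF⟩ := exists_pow_of_charP (F := F) (p := p)
  obtain ⟨k, rfl⟩ : ∃ k, n = k + 2 := ⟨n - 2, by omega⟩
  have h := Cfsg.Agent.S0243.result (F := F) hF (k + 2) hn
  rw [← Nat.card_congr φ.toEquiv] at h
  set q := p ^ f with hq
  have hq2 : 2 ≤ q := hq ▸ Nat.one_lt_pow hf.ne' hp.one_lt
  have hsplit : ∀ n, ∏ i : Fin n, (q ^ n - q ^ (i : ℕ)) =
      q ^ (∑ i ∈ range n, i) * ∏ i ∈ range n, (q ^ (i + 1) - 1) := by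
    intro n
    rw [Fin.prod_univ_eq_prod_range (fun i => q ^ n - q ^ i), ← prod_pow_eq_pow_sum,
      ← prod_range_reflect (fun i => q ^ (i + 1) - 1) n, ← prod_mul_distrib]
    refine prod_congr rfl fun i hi => ?_
    rw [mem_range] at hi
    rw [Nat.mul_sub, mul_one, ← pow_add]
    congr 2
    omega
  rw [hsplit, prod_range_succ' _ (k + 1), zero_add, pow_one, ← mul_assoc _ _ (q - 1), ← mul_assoc,
    mul_right_comm] at h
  have h' : Nat.gcd (k + 2) (q - 1) * Nat.card G =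
      q ^ (∑ i ∈ range (k + 2), i) * ∏ i ∈ range (k + 1), (q ^ (i + 1 + 1) - 1) :=
    Nat.eq_of_mul_eq_mul_right (show 0 < q - 1 by omega) h
  have hd : ¬ p ∣ Nat.gcd (k + 2) (q - 1) := not_dvd_gcd (by
    have := not_dvd_sub_one (a := 1) hp hf one_pos
    rwa [← hq, pow_one] at this)
  have hM : ¬ p ∣ ∏ i ∈ range (k + 1), (q ^ (i + 1 + 1) - 1) :=
    prime_not_dvd_prod hp fun i _ => not_dvd_sub_one hp hf (by omega)
  have hS := prod_sub_one_lt hq2 (fun i => i + 1 + 1) (k + 1) (by omega)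
  rcases k.eq_zero_or_pos with rfl | hk
  · have hk' : (Nat.card G).factorization p = f := by
      have hd0 : Nat.gcd (0 + 2) (q - 1) ≠ 0 := by simp
      have hM0 : q ^ 2 - 1 ≠ 0 := by
        have := Nat.pow_le_pow_left hq2 2
        omega
      simp [sum_range_succ] at h'
      have hnd : ¬ p ∣ q ^ 2 - 1 := by rw [hq]; exact not_dvd_sub_one hp hf two_pos
      have h'' := congrArg (fun n => n.factorization p) h'
      simp only [Nat.factorization_mul (show Nat.gcd 2 (q - 1) ≠ 0 by simp) Nat.card_pos.ne',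
        Nat.factorization_mul (show q ≠ 0 by omega) hM0, Finsupp.add_apply,
        Nat.factorization_eq_zero_of_not_dvd (show ¬ p ∣ Nat.gcd 2 (q - 1) by simpa using hd),
        Nat.factorization_eq_zero_of_not_dvd hnd] at h''
      rw [hq, hp.factorization_pow, Finsupp.single_eq_same] at h''
      simpa using h''
    refine ⟨?_, fun hno => absurd ⟨F, iF, iFF, by rw [hk', hF], ⟨φ⟩⟩ hno⟩
    simp [sum_range_succ] at h' hS
    rw [hk', mul_comm, pow_mul, ← hq, pow_succ']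
    calc Nat.card G ≤ Nat.gcd 2 (q - 1) * Nat.card G := Nat.le_mul_of_pos_left _ (by simp)
      _ = q * (q ^ 2 - 1) := h'
      _ < q * q ^ 2 := Nat.mul_lt_mul_of_pos_left (sub_one_lt hq2) (by omega)
  · refine concl_of_formula hp hf rfl hd hM h' hS ?_
    have h1 := two_mul_sum_succ_succ (k + 1)
    have h2 := Finset.sum_range_id_mul_two (k + 2)
    rw [show k + 2 - 1 = k + 1 by omega] at h2
    simp only [add_assoc, Nat.reduceAdd] at h1 ⊢
    nlinarith

theorem psp (hG : Cfsg.IsPSpChar p G) : Concl p G := by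
  obtain ⟨F, _, _, _, m, hm, h2, ⟨φ⟩⟩ := hG
  obtain ⟨hp, f, hf, hF⟩ := exists_pow_of_charP (F := F) (p := p)
  haveI : Nonempty (Fin m) := ⟨⟨0, by omega⟩⟩
  have h := CfsgLib.Classical.card_symplecticGroup (F := F) (l := Fin m)
  rw [Subgroup.card_eq_card_quotient_mul_card_subgroup (Subgroup.center _),
    CfsgLib.Classical.card_center_sp, ← Nat.card_congr φ.toEquiv, mul_comm, Fintype.card_fin,
    Nat.card_eq_fintype_card (α := F), hF] at h
  have hq2 : 2 ≤ p ^ f := Nat.one_lt_pow hf.ne' hp.one_lt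
  refine concl_of_formula hp hf rfl (not_dvd_gcd (by simpa using not_dvd_sub_one (a := 1) hp hf one_pos))
    (prime_not_dvd_prod hp fun i _ => not_dvd_sub_one hp hf (by omega)) h
    (prod_sub_one_lt hq2 (fun i => 2 * (i + 1)) m (by omega)) ?_
  rw [sum_two_mul]
  nlinarith

theorem psu (hG : Cfsg.IsPSUChar p G) : Concl p G := by
  obtain ⟨F, _, _, _, n, q, hq, hn, h32, ⟨φ⟩⟩ := hG
  obtain ⟨hp, f', hf', hF⟩ := exists_pow_of_charP (F := F) (p := p)
  obtain ⟨f, hf, rfl⟩ := exists_pow_of_card hp two_ne_zero hf' (hF.symm.trans hq)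
  obtain ⟨k, rfl⟩ : ∃ k, n = k + 1 := ⟨n - 1, by omega⟩
  have h := Cfsg.Agent.S0280.result (F := F) hq (k + 1) (by omega)
  rw [← Nat.card_congr φ.toEquiv, prod_range_succ', if_pos (by exact ⟨0, rfl⟩), zero_add, pow_one,
    ← mul_assoc _ _ (p ^ f + 1), ← mul_assoc, mul_right_comm] at h
  have h' := Nat.eq_of_mul_eq_mul_right (show 0 < p ^ f + 1 by omega) h
  have hq2 : 2 ≤ p ^ f := Nat.one_lt_pow hf.ne' hp.one_lt
  refine concl_of_formula hp hf rfl (not_dvd_gcd (by simpa using not_dvd_add_one (a := 1) hp hf one_pos))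
    (prime_not_dvd_prod hp fun i _ => ?_) h' (prod_unitary_lt hq2 k (by omega)) ?_
  · split
    · exact not_dvd_add_one hp hf (by omega)
    · exact not_dvd_sub_one hp hf (by omega)
  · have h1 := two_mul_sum_succ_succ k
    have h3 : (k + 1) * (k + 1 - 1) / 2 * 2 = (k + 1) * (k + 1 - 1) :=
      Nat.div_mul_cancel (Nat.two_dvd_mul_sub_one _)
    rw [Nat.add_sub_cancel] at h3 ⊢
    nlinarith

theorem pomega_odd (hG : Cfsg.IsPOmegaOddChar p G) : Concl p G := by
  obtain ⟨F, _, _, _, m, hm, hodd, ⟨φ⟩⟩ := hG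
  obtain ⟨hp, f, hf, hF⟩ := exists_pow_of_charP (F := F) (p := p)
  have h := Cfsg.Agent.S0292.result (F := F) hF (hF ▸ hodd) m hm
  rw [← Nat.card_congr φ.toEquiv] at h
  have hq2 : 2 ≤ p ^ f := Nat.one_lt_pow hf.ne' hp.one_lt
  refine concl_of_formula hp hf rfl (fun h2 => ?_)
    (prime_not_dvd_prod hp fun i _ => not_dvd_sub_one hp hf (by omega)) h
    (prod_sub_one_lt hq2 (fun i => 2 * (i + 1)) m (by omega)) ?_
  · have := (Nat.prime_dvd_prime_iff_eq hp Nat.prime_two).1 h2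
    rw [hF, this] at hodd
    exact absurd hodd (by simp [parity_simps, hf.ne'])
  · rw [sum_two_mul]
    nlinarith

theorem pomega_plus (hG : Cfsg.IsPOmegaPlusChar p G) : Concl p G := by
  obtain ⟨F, _, _, _, m, hm, ⟨φ⟩⟩ := hG
  obtain ⟨hp, f, hf, hF⟩ := exists_pow_of_charP (F := F) (p := p)
  have h := Cfsg.Agent.S0293.result (F := F) hF m hm
  rw [← Nat.card_congr φ.toEquiv, mul_assoc ((p ^ f) ^ (m * (m - 1)))] at h
  have hq2 : 2 ≤ p ^ f := Nat.one_lt_pow hf.ne' hp.one_lt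
  refine concl_of_formula (S := m + (m - 1) * (m - 1 + 1)) hp hf rfl
    (not_dvd_gcd (not_dvd_sub_one hp hf (by omega)))
    (not_dvd_mul' hp (not_dvd_sub_one hp hf (by omega))
      (prime_not_dvd_prod hp fun i _ => not_dvd_sub_one hp hf (by omega))) h ?_ ?_
  · rw [pow_add, ← sum_two_mul]
    exact Nat.mul_lt_mul'' (sub_one_lt hq2) (prod_sub_one_lt hq2 (fun i => 2 * (i + 1)) _ (by omega))
  · obtain ⟨j, rfl⟩ : ∃ j, m = j + 4 := ⟨m - 4, by omega⟩
    rw [show j + 4 - 1 = j + 3 by omega]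
    nlinarith

theorem pomega_minus (hG : Cfsg.IsPOmegaMinusChar p G) : Concl p G := by
  obtain ⟨F, _, _, _, m, a, b, hm, hab, ⟨φ⟩⟩ := hG
  obtain ⟨hp, f, hf, hF⟩ := exists_pow_of_charP (F := F) (p := p)
  have h := Cfsg.Agent.S0294.result (F := F) hF m hm a b hab
  rw [← Nat.card_congr φ.toEquiv, mul_assoc ((p ^ f) ^ (m * (m - 1)))] at h
  have hq2 : 2 ≤ p ^ f := Nat.one_lt_pow hf.ne' hp.one_lt
  refine concl_of_formula (S := m + 1 + (m - 1) * (m - 1 + 1)) hp hf rfl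
    (not_dvd_gcd (not_dvd_add_one hp hf (by omega)))
    (not_dvd_mul' hp (not_dvd_add_one hp hf (by omega))
      (prime_not_dvd_prod hp fun i _ => not_dvd_sub_one hp hf (by omega))) h ?_ ?_
  · rw [pow_add, ← sum_two_mul]
    exact Nat.mul_lt_mul_of_le_of_lt (add_one_le hq2)
      (prod_sub_one_lt hq2 (fun i => 2 * (i + 1)) _ (by omega)) (pow_pos (by omega) _)
  · obtain ⟨j, rfl⟩ : ∃ j, m = j + 4 := ⟨m - 4, by omega⟩
    rw [show j + 4 - 1 = j + 3 by omega]
    nlinarith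

theorem exceptional (hG : Cfsg.IsExceptionalChevChar p G) : Concl p G := by
  obtain ⟨F, _, _, _, hG⟩ := hG
  obtain ⟨hp, f, hf, hF⟩ := exists_pow_of_charP (F := F) (p := p)
  have hq2 : 2 ≤ p ^ f := Nat.one_lt_pow hf.ne' hp.one_lt
  have hm := fun a => sub_one_lt (a := a) hq2
  have hn : ∀ a, 0 < a → ¬ p ∣ (p ^ f) ^ a - 1 := fun a ha => not_dvd_sub_one hp hf ha
  have hd : ∀ a, ¬ p ∣ Nat.gcd a (p ^ f - 1) := fun a => not_dvd_gcd (by simpa using hn 1 one_pos)
  have h1 : ¬ p ∣ 1 := hp.not_dvd_one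
  rcases hG with ⟨-, ⟨φ⟩⟩ | ⟨⟨φ⟩⟩ | ⟨⟨φ⟩⟩ | ⟨⟨φ⟩⟩ | ⟨⟨φ⟩⟩
  · have h := Cfsg.Agent.S1059.result (F := F) hF
    rw [← Nat.card_congr φ.toEquiv, ← one_mul (Nat.card G)] at h
    simp only [mul_assoc] at h
    refine concl_of_formula (S := 2 + 6) hp hf rfl h1
      (not_dvd_mul' hp (hn 2 (by omega)) (hn 6 (by omega))) h ?_ (by omega)
    rw [pow_add]; exact Nat.mul_lt_mul'' (hm _) (hm _)
  · have h := Cfsg.Agent.S1062.result (F := F) hF
    rw [← Nat.card_congr φ.toEquiv, ← one_mul (Nat.card G)] at h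
    simp only [mul_assoc] at h
    refine concl_of_formula (S := 2 + (6 + (8 + 12))) hp hf rfl h1
      (by repeat' apply not_dvd_mul' hp
          all_goals exact hn _ (by omega)) h ?_ (by omega)
    simp only [pow_add]; repeat' apply Nat.mul_lt_mul''
    all_goals exact hm _
  · have h := Cfsg.Agent.S1063.result (F := F) hF
    rw [← Nat.card_congr φ.toEquiv] at h
    simp only [mul_assoc] at h
    refine concl_of_formula (S := 2 + (5 + (6 + (8 + (9 + 12))))) hp hf rfl (hd 3)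
      (by repeat' apply not_dvd_mul' hp
          all_goals exact hn _ (by omega)) h ?_ (by omega)
    simp only [pow_add]; repeat' apply Nat.mul_lt_mul''
    all_goals exact hm _
  · have h := Cfsg.Agent.S1064.result (F := F) hF
    rw [← Nat.card_congr φ.toEquiv] at h
    simp only [mul_assoc] at h
    refine concl_of_formula (S := 2 + (6 + (8 + (10 + (12 + (14 + 18)))))) hp hf rfl (hd 2)
      (by repeat' apply not_dvd_mul' hp
          all_goals exact hn _ (by omega)) h ?_ (by omega)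
    simp only [pow_add]; repeat' apply Nat.mul_lt_mul''
    all_goals exact hm _
  · have h := Cfsg.Agent.S1065.result (F := F) hF
    rw [← Nat.card_congr φ.toEquiv, ← one_mul (Nat.card G)] at h
    simp only [mul_assoc] at h
    refine concl_of_formula (S := 2 + (8 + (12 + (14 + (18 + (20 + (24 + 30))))))) hp hf rfl h1
      (by repeat' apply not_dvd_mul' hp
          all_goals exact hn _ (by omega)) h ?_ (by omega)
    simp only [pow_add]; repeat' apply Nat.mul_lt_mul''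
    all_goals exact hm _

theorem twisted (hG : Cfsg.IsTwistedE6D4Char p G) : Concl p G := by
  obtain ⟨K, _, _, _, q, hq, hG⟩ := hG
  obtain ⟨hp, f', hf', hF⟩ := exists_pow_of_charP (F := K) (p := p)
  rcases hG with ⟨hK, ⟨φ⟩⟩ | ⟨hK, ⟨φ⟩⟩
  · obtain ⟨f, hf, rfl⟩ := exists_pow_of_card hp (by omega) hf' (hF.symm.trans hK)
    have hq2 : 2 ≤ p ^ f := Nat.one_lt_pow hf.ne' hp.one_lt
    have h := Cfsg.Agent.S1066.result (K := K) hq hK
    rw [← Nat.card_congr φ.toEquiv] at h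
    simp only [mul_assoc] at h
    refine concl_of_formula (S := 2 + (6 + (6 + (8 + (10 + 12))))) hp hf rfl
      (not_dvd_gcd (by simpa using not_dvd_add_one (a := 1) hp hf one_pos))
      (by repeat' apply not_dvd_mul' hp
          all_goals first | exact not_dvd_sub_one hp hf (by omega) | exact not_dvd_add_one hp hf (by omega))
      h ?_ (by omega)
    simp only [pow_add (p ^ f)]
    exact Nat.mul_lt_mul_of_lt_of_le (sub_one_lt hq2)
      (Nat.mul_le_mul (add_one_le hq2) (Nat.mul_le_mul (sub_one_lt hq2).le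
        (Nat.mul_le_mul (sub_one_lt hq2).le (Nat.mul_le_mul (add_one_le hq2) (sub_one_lt hq2).le))))
      (by positivity)
  · obtain ⟨f, hf, rfl⟩ := exists_pow_of_card hp (by omega) hf' (hF.symm.trans hK)
    have hq2 : 2 ≤ p ^ f := Nat.one_lt_pow hf.ne' hp.one_lt
    have h := Cfsg.Agent.S1067.result (K := K) hq hK
    rw [← Nat.card_congr φ.toEquiv, ← one_mul (Nat.card G)] at h
    simp only [mul_assoc] at h
    have h8 : ¬ p ∣ (p ^ f) ^ 8 + (p ^ f) ^ 4 + 1 := fun hd => by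
      have h0 : p ∣ (p ^ f) ^ 8 + (p ^ f) ^ 4 :=
        dvd_add (dvd_pow (dvd_pow_self p hf.ne') (by omega)) (dvd_pow (dvd_pow_self p hf.ne') (by omega))
      exact hp.one_lt.ne' (Nat.dvd_one.1 ((Nat.dvd_add_right h0).1 hd))
    refine concl_of_formula (S := 2 + (6 + 10)) hp hf rfl hp.not_dvd_one
      (not_dvd_mul' hp (not_dvd_sub_one hp hf (by omega))
        (not_dvd_mul' hp (not_dvd_sub_one hp hf (by omega)) h8)) h ?_ (by omega)
    rw [pow_add _ 2, pow_add _ 6]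
    refine Nat.mul_lt_mul_of_lt_of_le (sub_one_lt hq2) (Nat.mul_le_mul (sub_one_lt hq2).le ?_) (by positivity)
    have h4 : (p ^ f) ^ 4 ≤ (p ^ f) ^ 8 := Nat.pow_le_pow_right (by omega) (by omega)
    have h10 : (p ^ f) ^ 8 * 4 ≤ (p ^ f) ^ 10 := by
      rw [show (p ^ f) ^ 10 = (p ^ f) ^ 8 * (p ^ f) ^ 2 by rw [← pow_add]]
      exact Nat.mul_le_mul_left _ (by nlinarith)
    have h1 : 1 ≤ (p ^ f) ^ 8 := Nat.one_le_pow _ _ (by omega)
    omega

theorem suzuki (hG : Cfsg.Lie.IsoSuzuki G) : Concl 2 G := by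
  obtain ⟨F, _, _, m, hm, hF, ⟨φ⟩⟩ := hG
  have h := CfsgLib.KnownA.Suzuki.natCard_Sz (CfsgLib.KnownA.Suzuki.titsField_of_card hF)
  rw [← Nat.card_congr φ.toEquiv, hF] at h
  set f := 2 * m + 1 with hfd
  have hq2 : 2 ≤ (2 : ℕ) ^ f := Nat.one_lt_pow (by omega) one_lt_two
  refine concl_of_formula (d := 1) (N := 2) (S := 1 + 2) (M := ((2 ^ f) ^ 1 - 1) * ((2 ^ f) ^ 2 + 1))
    Nat.prime_two (by omega) rfl Nat.prime_two.not_dvd_one
    (not_dvd_mul' Nat.prime_two (not_dvd_sub_one Nat.prime_two (by omega) one_pos)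
      (not_dvd_add_one Nat.prime_two (by omega) two_pos)) (by rw [one_mul, h, pow_one]; ring)
    (pair_lt hq2 (by omega)) (by omega)

theorem ree_large (hG : Cfsg.Lie.Iso2F4 G) : Concl 2 G := by
  obtain ⟨F, _, _, m, hm, hF, ⟨φ⟩⟩ := hG
  have h := Cfsg.Agent.S1068.result (K := F) hF
  rw [← Nat.card_congr φ.toEquiv, ← one_mul (Nat.card G)] at h
  simp only [mul_assoc] at h
  set f := 2 * m + 1 with hfd
  have hq2 : 2 ≤ (2 : ℕ) ^ f := Nat.one_lt_pow (by omega) one_lt_two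
  have hn : ¬ 2 ∣ 2 ^ f - 1 := by
    simpa using not_dvd_sub_one (a := 1) (f := f) Nat.prime_two (by omega) one_pos
  refine concl_of_formula (S := 1 + (4 + (4 + 7))) Nat.prime_two (by omega) rfl Nat.prime_two.not_dvd_one
    (not_dvd_mul' Nat.prime_two hn (not_dvd_mul' Nat.prime_two
      (not_dvd_add_one Nat.prime_two (by omega) (by omega)) (not_dvd_mul' Nat.prime_two
        (not_dvd_sub_one Nat.prime_two (by omega) (by omega))
        (not_dvd_add_one Nat.prime_two (by omega) (by omega))))) h ?_ (by omega)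
  simp only [pow_add ((2 : ℕ) ^ f), pow_one]
  exact Nat.mul_lt_mul_of_lt_of_le (by omega)
    (Nat.mul_le_mul (add_one_le hq2) (Nat.mul_le_mul (sub_one_lt hq2).le (add_one_le hq2)))
    (by positivity)

theorem ree (hG : Cfsg.Lie.IsoRee G) : Concl 3 G := by
  obtain ⟨F, _, _, m, hm, hF, ⟨φ⟩⟩ := hG
  have h := Cfsg.Agent.S1069.result (K := F) hF
  rw [← Nat.card_congr φ.toEquiv, ← one_mul (Nat.card G)] at h
  simp only [mul_assoc] at h
  set f := 2 * m + 1 with hfd
  have hq2 : 2 ≤ (3 : ℕ) ^ f := Nat.one_lt_pow (by omega) (by omega)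
  refine concl_of_formula (S := 1 + 3) Nat.prime_three (by omega) rfl Nat.prime_three.not_dvd_one
    (not_dvd_mul' Nat.prime_three (by simpa using not_dvd_sub_one (a := 1) (f := f) Nat.prime_three (by omega) one_pos)
      (not_dvd_add_one Nat.prime_three (by omega) (by omega))) h ?_ (by omega)
  simpa using pair_lt (a := 1) (b := 3) hq2 (by omega)

theorem main (hG : Cfsg.IsLieTypeChar p G) : Concl p G := by
  rcases hG with h | h | h | h | h | h | h | h | ⟨rfl, h⟩ | ⟨rfl, h⟩ | ⟨rfl, h⟩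
  exacts [psl h, psp h, psu h, pomega_odd h, pomega_plus h, pomega_minus h, exceptional h, twisted h,
    suzuki h, ree_large h, ree h]

end CfsgLib.KnownA.OrderBound
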