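import Cfsg.Agent.Lib.KnownA.PSpFourThreeSpectrum
import Mathlib.FieldTheory.Finite.GaloisField
import Mathlib.GroupTheory.SemidirectProduct
import Mathlib.GroupTheory.Nilpotent
import Mathlib.GroupTheory.Solvable

/-!
A solvable group with the element orders of `PSp₄(3)`: a Frobenius group of order `20` acting on
a group of exponent `9` given by a monomial algebra with three layers over `GF(81)`.
-/

set_option autoImplicit false
set_option linter.style.haveILetI false

namespace CfsgLib.KnownA.SolvablePSpSpectrum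

/-- The indices. -/
abbrev Idx : Type := (ZMod 5)ˣ

/-- The index `2`. -/
def two : Idx := ⟨2, 3, by decide, by decide⟩

/-- The kernel: two generating layers `u`, `v`, four products of two, one product of three. -/
@[ext]
structure Ker (k : Type) where
  u : Idx → k
  v : Idx → k
  p : Idx → k
  p' : Idx → k
  q : Idx → k
  q' : Idx → k
  r : Idx → k

variable {k : Type} [Field k]

instance : Mul (Ker k) :=
  ⟨fun x y =>
    { u := fun i => x.u i + y.u i
      v := fun i => x.v i + y.v i
      p := fun i => x.p i + y.p i + x.u i * y.u (two * i)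
      p' := fun i => x.p' i + y.p' i - x.u (-i) * y.u (two * i)
      q := fun i => x.q i + y.q i + x.u (two * i) * y.v (-i)
      q' := fun i => x.q' i + y.q' i + x.u (two * i) * y.v i
      r := fun i => x.r i + y.r i + x.u i * y.q i - x.u (-i) * y.q' i + x.p i * y.v (-i) +
        x.p' i * y.v i }⟩

instance : One (Ker k) :=
  ⟨⟨fun _ => 0, fun _ => 0, fun _ => 0, fun _ => 0, fun _ => 0, fun _ => 0, fun _ => 0⟩⟩

instance : Inv (Ker k) :=
  ⟨fun x =>
    { u := fun i => -x.u i
      v := fun i => -x.v i
      p := fun i => -x.p i + x.u i * x.u (two * i)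
      p' := fun i => -x.p' i - x.u (-i) * x.u (two * i)
      q := fun i => -x.q i + x.u (two * i) * x.v (-i)
      q' := fun i => -x.q' i + x.u (two * i) * x.v i
      r := fun i => -x.r i + x.u i * x.q i - x.u (-i) * x.q' i + x.p i * x.v (-i) + x.p' i * x.v i -
        x.u i * x.u (two * i) * x.v (-i) + x.u (-i) * x.u (two * i) * x.v i }⟩

@[simp] theorem one_u : (1 : Ker k).u = fun _ => 0 := rfl
@[simp] theorem one_v : (1 : Ker k).v = fun _ => 0 := rfl
@[simp] theorem one_p : (1 : Ker k).p = fun _ => 0 := rfl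
@[simp] theorem one_p' : (1 : Ker k).p' = fun _ => 0 := rfl
@[simp] theorem one_q : (1 : Ker k).q = fun _ => 0 := rfl
@[simp] theorem one_q' : (1 : Ker k).q' = fun _ => 0 := rfl
@[simp] theorem one_r : (1 : Ker k).r = fun _ => 0 := rfl
@[simp] theorem mul_u (x y : Ker k) (i : Idx) : (x * y).u i = x.u i + y.u i := rfl
@[simp] theorem mul_v (x y : Ker k) (i : Idx) : (x * y).v i = x.v i + y.v i := rfl
@[simp] theorem mul_p (x y : Ker k) (i : Idx) :
    (x * y).p i = x.p i + y.p i + x.u i * y.u (two * i) := rfl
@[simp] theorem mul_p' (x y : Ker k) (i : Idx) :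
    (x * y).p' i = x.p' i + y.p' i - x.u (-i) * y.u (two * i) := rfl
@[simp] theorem mul_q (x y : Ker k) (i : Idx) :
    (x * y).q i = x.q i + y.q i + x.u (two * i) * y.v (-i) := rfl
@[simp] theorem mul_q' (x y : Ker k) (i : Idx) :
    (x * y).q' i = x.q' i + y.q' i + x.u (two * i) * y.v i := rfl
@[simp] theorem mul_r (x y : Ker k) (i : Idx) :
    (x * y).r i = x.r i + y.r i + x.u i * y.q i - x.u (-i) * y.q' i + x.p i * y.v (-i) +
      x.p' i * y.v i := rfl
@[simp] theorem inv_u (x : Ker k) (i : Idx) : x⁻¹.u i = -x.u i := rfl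
@[simp] theorem inv_v (x : Ker k) (i : Idx) : x⁻¹.v i = -x.v i := rfl
@[simp] theorem inv_p (x : Ker k) (i : Idx) : x⁻¹.p i = -x.p i + x.u i * x.u (two * i) := rfl
@[simp] theorem inv_p' (x : Ker k) (i : Idx) :
    x⁻¹.p' i = -x.p' i - x.u (-i) * x.u (two * i) := rfl
@[simp] theorem inv_q (x : Ker k) (i : Idx) :
    x⁻¹.q i = -x.q i + x.u (two * i) * x.v (-i) := rfl
@[simp] theorem inv_q' (x : Ker k) (i : Idx) :
    x⁻¹.q' i = -x.q' i + x.u (two * i) * x.v i := rfl
@[simp] theorem inv_r (x : Ker k) (i : Idx) :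
    x⁻¹.r i = -x.r i + x.u i * x.q i - x.u (-i) * x.q' i + x.p i * x.v (-i) + x.p' i * x.v i -
      x.u i * x.u (two * i) * x.v (-i) + x.u (-i) * x.u (two * i) * x.v i := rfl

instance : Group (Ker k) :=
  Group.ofLeftAxioms (fun x y z => by ext i <;> simp <;> ring)
    (fun x => by ext i <;> simp) (fun x => by ext i <;> simp <;> ring)

instance [Finite k] : Finite (Ker k) :=
  Finite.of_injective (fun x => (x.u, x.v, x.p, x.p', x.q, x.q', x.r)) fun x y h => by
    simp only [Prod.mk.injEq] at h
    obtain ⟨h1, h2, h3, h4, h5, h6, h7⟩ := h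
    ext i <;> simp [*]

/-- The value of the cube map. -/
def cubeVal (x : Ker k) (i : Idx) : k :=
  x.u i * x.u (two * i) * x.v (-i) - x.u (-i) * x.u (two * i) * x.v i

theorem cube_eq [CharP k 3] (x : Ker k) : x ^ 3 = { (1 : Ker k) with r := cubeVal x } := by
  have h3 : (3 : k) = 0 := CharP.cast_eq_zero k 3
  rw [pow_succ, pow_two]
  ext i
  · simp only [mul_u, one_u]; linear_combination x.u i * h3
  · simp only [mul_v, one_v]; linear_combination x.v i * h3
  · simp only [mul_p, mul_u, one_p]; linear_combination (x.p i + x.u i * x.u (two * i)) * h3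
  · simp only [mul_p', mul_u, one_p']; linear_combination (x.p' i - x.u (-i) * x.u (two * i)) * h3
  · simp only [mul_q, mul_u, mul_v, one_q]
    linear_combination (x.q i + x.u (two * i) * x.v (-i)) * h3
  · simp only [mul_q', mul_u, mul_v, one_q']
    linear_combination (x.q' i + x.u (two * i) * x.v i) * h3
  · simp only [mul_r, mul_q, mul_q', mul_p, mul_p', mul_u, mul_v, cubeVal]
    linear_combination (x.r i + x.u i * x.q i - x.u (-i) * x.q' i + x.p i * x.v (-i) +
      x.p' i * x.v i) * h3

theorem pow_nine [CharP k 3] (x : Ker k) : x ^ 9 = 1 := by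
  rw [show (9 : ℕ) = 3 * 3 from rfl, pow_mul, cube_eq (x ^ 3), cube_eq x]
  ext i <;> simp [cubeVal]

theorem two_val : ((two : Idx) : ZMod 5) = 2 := rfl

/-- The twist by the affine map `i ↦ s * i` and the character `χ` of weight `w`. -/
def tw (χ : AddChar (ZMod 5) k) (w m : ZMod 5) (s : Idx) (f : Idx → k) (i : Idx) : k :=
  χ (w * m * i) * f (s * i)

variable (χ : AddChar (ZMod 5) k)

/-- The affine maps act. -/
def twKer (m : ZMod 5) (s : Idx) (x : Ker k) : Ker k where
  u := tw χ 1 m s x.u
  v := tw χ 1 m s x.v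
  p := tw χ 3 m s x.p
  p' := tw χ 1 m s x.p'
  q := tw χ 1 m s x.q
  q' := tw χ 3 m s x.q'
  r := tw χ 2 m s x.r

theorem tw_tw (w m m' : ZMod 5) (s s' : Idx) (f : Idx → k) :
    tw χ w m s (tw χ w m' s' f) = tw χ w (m + s * m') (s * s') f := by
  funext i
  simp only [tw]
  rw [← mul_assoc (χ _), ← AddChar.map_add_eq_mul, ← mul_assoc s' s i, mul_comm s' s,
    Units.val_mul]
  congr 2
  ring

theorem tw_zero (w : ZMod 5) (f : Idx → k) : tw χ w 0 1 f = f := by
  funext i
  simp [tw]

theorem twKer_mul (m : ZMod 5) (s : Idx) (x y : Ker k) :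
    twKer χ m s (x * y) = twKer χ m s x * twKer χ m s y := by
  have h5 : (5 : ZMod 5) = 0 := by decide
  have key : ∀ a b c : ZMod 5, a = b + c → χ a = χ b * χ c := fun a b c h => by
    rw [h, AddChar.map_add_eq_mul]
  ext i <;> simp only [twKer, tw, mul_u, mul_v, mul_p, mul_p', mul_q, mul_q', mul_r,
    mul_left_comm s two i, mul_neg s i, Units.val_mul, Units.val_neg, two_val]
  · ring
  · ring
  · rw [key (3 * m * i) (1 * m * i) (1 * m * (2 * i)) (by ring)]
    ring
  · rw [key (1 * m * i) (1 * m * -(i : ZMod 5)) (1 * m * (2 * i)) (by ring)]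
    ring
  · rw [key (1 * m * i) (1 * m * (2 * i)) (1 * m * -(i : ZMod 5)) (by ring)]
    ring
  · rw [key (3 * m * i) (1 * m * (2 * i)) (1 * m * i) (by ring)]
    ring
  · have e1 : χ (2 * m * i) = χ (1 * m * i) * χ (1 * m * i) := key _ _ _ (by ring)
    have e2 : χ (2 * m * i) = χ (1 * m * -(i : ZMod 5)) * χ (3 * m * i) := key _ _ _ (by ring)
    linear_combination (x.u (s * i) * y.q (s * i) + x.p' (s * i) * y.v (s * i)) * e1 +
      (x.p (s * i) * y.v (-(s * i)) - x.u (-(s * i)) * y.q' (s * i)) * e2

/-- The twist as an automorphism. -/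
def twEquiv (m : ZMod 5) (s : Idx) : MulAut (Ker k) where
  toFun := twKer χ m s
  invFun := twKer χ (-((s⁻¹ : Idx) : ZMod 5) * m) s⁻¹
  left_inv x := by
    ext i <;> simp only [twKer, tw_tw] <;>
      simp [tw]
  right_inv x := by
    ext i <;> simp only [twKer, tw_tw] <;>
      simp [tw]
  map_mul' := twKer_mul χ m s

/-- Multiplication on the translations. -/
def mulAct : Idx →* MulAut (Multiplicative (ZMod 5)) where
  toFun s :=
    { toFun := fun a => Multiplicative.ofAdd ((s : ZMod 5) * Multiplicative.toAdd a)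
      invFun := fun a => Multiplicative.ofAdd (((s⁻¹ : Idx) : ZMod 5) * Multiplicative.toAdd a)
      left_inv := fun a => by simp [← mul_assoc]
      right_inv := fun a => by simp [← mul_assoc]
      map_mul' := fun a b => by simp [mul_add, ofAdd_add] }
  map_one' := by ext a; simp
  map_mul' s t := by ext a; simp [mul_assoc]

/-- The Frobenius group of order `20`. -/
abbrev Top : Type := Multiplicative (ZMod 5) ⋊[mulAct] Idx

instance : Fintype Top := Fintype.ofEquiv _ SemidirectProduct.equivProd.symm

instance : DecidableEq Top := SemidirectProduct.equivProd.decidableEq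

/-- The action on the kernel. -/
def act : Top →* MulAut (Ker k) where
  toFun g := twEquiv χ (Multiplicative.toAdd g.left) g.right
  map_one' := by
    refine MulEquiv.ext fun x => ?_
    show twKer χ 0 1 x = x
    ext i <;> simp [twKer, tw_zero]
  map_mul' g h := by
    refine MulEquiv.ext fun x => ?_
    show twKer χ (Multiplicative.toAdd g.left + g.right * Multiplicative.toAdd h.left)
        (g.right * h.right) x =
      twKer χ (Multiplicative.toAdd g.left) g.right
        (twKer χ (Multiplicative.toAdd h.left) h.right x)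
    simp [twKer, tw_tw]

theorem act_apply (g : Top) (x : Ker k) :
    act χ g x = twKer χ (Multiplicative.toAdd g.left) g.right x := rfl

/-- The group. -/
abbrev Grp : Type := Ker k ⋊[act χ] Top

variable [CharP k 3] {χ}

/-- A power lying in the kernel is fixed. -/
theorem pow_fixed (e : Grp χ) (n : ℕ) (h : e.right ^ n = 1) :
    ∃ N : Ker k, e ^ n = SemidirectProduct.inl N ∧ act χ e.right N = e.left⁻¹ * N * e.left := by
  have hr : (e ^ n).right = 1 := by
    show SemidirectProduct.rightHom (e ^ n) = 1
    rw [map_pow]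
    exact h
  have hN : e ^ n = SemidirectProduct.inl (e ^ n).left :=
    SemidirectProduct.ext rfl (hr.trans rfl)
  refine ⟨(e ^ n).left, hN, ?_⟩
  have hc : e * e ^ n = e ^ n * e := ((Commute.refl e).pow_right n).eq
  rw [hN] at hc
  have := congrArg SemidirectProduct.left hc
  simp only [SemidirectProduct.mul_left, SemidirectProduct.left_inl, SemidirectProduct.right_inl,
    map_one, MulAut.one_apply] at this
  rw [mul_assoc, ← this, ← mul_assoc, inv_mul_cancel, one_mul]

theorem pow_inl (N : Ker k) (n : ℕ) (h : N ^ n = 1) :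
    (SemidirectProduct.inl N : Grp χ) ^ n = 1 := by
  rw [← map_pow, h, map_one]

/-- Conjugation does not change the first layers, so a fixed cube value vanishes. -/
theorem cube_of_fixed (g : Top) (hg : g.right = -1) (N c : Ker k) (h : act χ g N = c⁻¹ * N * c) :
    N ^ 3 = 1 := by
  set m := Multiplicative.toAdd g.left
  have hu : ∀ i : Idx, χ (1 * m * i) * N.u (-i) = N.u i := fun i => by
    have := congrFun (congrArg Ker.u h) i
    simp only [act_apply, twKer, tw, hg, neg_one_mul, mul_u, inv_u] at this
    linear_combination this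
  have hv : ∀ i : Idx, χ (1 * m * i) * N.v (-i) = N.v i := fun i => by
    have := congrFun (congrArg Ker.v h) i
    simp only [act_apply, twKer, tw, hg, neg_one_mul, mul_v, inv_v] at this
    linear_combination this
  rw [cube_eq]
  ext i <;> simp [cubeVal]
  linear_combination (-(N.u (two * i) * N.v (-i))) * hu i + (N.u (-i) * N.u (two * i)) * hv i

/-- The character has trivial kernel. -/
def Faithful (χ : AddChar (ZMod 5) k) : Prop := ∀ a, χ a = 1 → a = 0

/-- A translation fixes no non-trivial element of the kernel up to conjugation. -/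
theorem eq_one_of_fixed (hχ : Faithful χ) (g : Top) (hg : g.right = 1)
    (hm : Multiplicative.toAdd g.left ≠ 0) (N c : Ker k) (h : act χ g N = c⁻¹ * N * c) : N = 1 := by
  set m := Multiplicative.toAdd g.left
  have hne : ∀ (w : ZMod 5) (i : Idx), w ≠ 0 → χ (w * m * i) ≠ 1 := fun w i hw h1 => by
    haveI : Fact (Nat.Prime 5) := ⟨Nat.prime_five⟩
    exact mul_ne_zero (mul_ne_zero hw hm) i.ne_zero (hχ _ h1)
  have z : ∀ (a b : k), a ≠ 1 → a * b = b → b = 0 := fun a b ha hb => by
    by_contra hb0
    exact ha (mul_right_cancel₀ hb0 (by rw [hb, one_mul]))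
  have hu : ∀ i, N.u i = 0 := fun i => by
    have := congrFun (congrArg Ker.u h) i
    simp only [act_apply, twKer, tw, hg, one_mul, mul_u, inv_u] at this
    exact z _ _ (hne 1 i (by decide)) (by rw [one_mul]; linear_combination this)
  have hv : ∀ i, N.v i = 0 := fun i => by
    have := congrFun (congrArg Ker.v h) i
    simp only [act_apply, twKer, tw, hg, one_mul, mul_v, inv_v] at this
    exact z _ _ (hne 1 i (by decide)) (by rw [one_mul]; linear_combination this)
  have hp : ∀ i, N.p i = 0 := fun i => by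
    have := congrFun (congrArg Ker.p h) i
    simp [act_apply, twKer, tw, hg, hu] at this
    exact z _ _ (hne 3 i (by decide)) (by linear_combination this)
  have hp' : ∀ i, N.p' i = 0 := fun i => by
    have := congrFun (congrArg Ker.p' h) i
    simp [act_apply, twKer, tw, hg, hu] at this
    exact z _ _ (hne 1 i (by decide)) (by rw [one_mul]; linear_combination this)
  have hq : ∀ i, N.q i = 0 := fun i => by
    have := congrFun (congrArg Ker.q h) i
    simp [act_apply, twKer, tw, hg, hu, hv] at this
    exact z _ _ (hne 1 i (by decide)) (by rw [one_mul]; linear_combination this)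
  have hq' : ∀ i, N.q' i = 0 := fun i => by
    have := congrFun (congrArg Ker.q' h) i
    simp [act_apply, twKer, tw, hg, hu, hv] at this
    exact z _ _ (hne 3 i (by decide)) (by linear_combination this)
  have hr : ∀ i, N.r i = 0 := fun i => by
    have := congrFun (congrArg Ker.r h) i
    simp [act_apply, twKer, tw, hg, hu, hv, hp, hp', hq, hq'] at this
    exact z _ _ (hne 2 i (by decide)) (by linear_combination this)
  ext i <;> simp [hu, hv, hp, hp', hq, hq', hr]

theorem top_cases : ∀ g : Top, g.right = 1 ∨ (g.right = -1 ∧ g ^ 2 = 1) ∨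
    ((g ^ 2).right = -1 ∧ g ^ 4 = 1) := by
  decide

theorem upper (hχ : Faithful χ) (e : Grp χ) :
    orderOf e ∣ 12 ∨ orderOf e ∣ 9 ∨ orderOf e ∣ 5 := by
  rcases top_cases e.right with h1 | ⟨h1, h2⟩ | ⟨h1, h4⟩
  · by_cases hm : Multiplicative.toAdd e.right.left = 0
    · right; left
      have he : e.right = 1 := SemidirectProduct.ext hm h1
      obtain ⟨N, hN, -⟩ := pow_fixed e 1 (by rw [pow_one, he])
      refine orderOf_dvd_of_pow_eq_one ?_
      rw [show (9 : ℕ) = 1 * 9 from rfl, pow_mul, hN, pow_inl N 9 (pow_nine N)]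
    · right; right
      have h5 : e.right ^ 5 = 1 := by
        have : ∀ g : Top, g.right = 1 → g ^ 5 = 1 := by decide
        exact this _ h1
      obtain ⟨N, hN, hfix⟩ := pow_fixed e 5 h5
      refine orderOf_dvd_of_pow_eq_one ?_
      rw [hN, eq_one_of_fixed hχ e.right h1 hm N _ hfix, map_one]
  · left
    obtain ⟨N, hN, hfix⟩ := pow_fixed e 2 h2
    refine orderOf_dvd_of_pow_eq_one ?_
    rw [show (12 : ℕ) = 2 * (3 * 2) from rfl, pow_mul, hN,
      pow_inl N (3 * 2) (by rw [pow_mul, cube_of_fixed e.right h1 N _ hfix, one_pow])]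
  · left
    have hr : (e ^ 2).right = e.right ^ 2 := map_pow SemidirectProduct.rightHom e 2
    obtain ⟨N, hN, hfix⟩ := pow_fixed (e ^ 2) 2 (by rw [hr, ← pow_mul]; exact h4)
    rw [hr] at hfix
    refine orderOf_dvd_of_pow_eq_one ?_
    rw [show (12 : ℕ) = 2 * 2 * 3 from rfl, pow_mul, pow_mul, hN,
      pow_inl N 3 (cube_of_fixed (e.right ^ 2) h1 N _ hfix)]

theorem witnesses : (∃ e : Grp χ, orderOf e = 12) ∧ (∃ e : Grp χ, orderOf e = 9) ∧
    ∃ e : Grp χ, orderOf e = 5 := by
  haveI : Fact (Nat.Prime 3) := ⟨Nat.prime_three⟩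
  haveI : Fact (Nat.Prime 5) := ⟨Nat.prime_five⟩
  refine ⟨?_, ?_, ?_⟩
  · let N : Ker k := { (1 : Ker k) with u := fun _ => 1 }
    let g : Top := SemidirectProduct.inr two
    have hg : orderOf g = 4 := by
      rw [orderOf_injective _ SemidirectProduct.inr_injective two]
      exact orderOf_eq_prime_pow (p := 2) (n := 1) (by decide) (by decide)
    have hfix : act χ g N = N := by
      ext i <;> simp [act_apply, twKer, tw, g, N]
    have hc : Commute (SemidirectProduct.inl N : Grp χ) (SemidirectProduct.inr g) := by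
      refine SemidirectProduct.ext ?_ ?_ <;> simp [hfix]
    have hN : orderOf (SemidirectProduct.inl N : Grp χ) = 3 := by
      rw [orderOf_injective _ SemidirectProduct.inl_injective N]
      refine orderOf_eq_prime ?_ ?_
      · rw [cube_eq]
        ext i <;> simp [cubeVal, N]
      · intro h
        exact one_ne_zero (α := k) (congrFun (congrArg Ker.u h) 1)
    refine ⟨SemidirectProduct.inl N * SemidirectProduct.inr g, ?_⟩
    rw [hc.orderOf_mul_eq_mul_orderOf_of_coprime] <;>
      rw [hN, orderOf_injective _ SemidirectProduct.inr_injective g, hg]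
    · decide
  · let N : Ker k :=
      { (1 : Ker k) with u := fun _ => 1, v := fun i => if i = -1 then 1 else 0 }
    refine ⟨SemidirectProduct.inl N, ?_⟩
    rw [orderOf_injective _ SemidirectProduct.inl_injective N]
    refine orderOf_eq_prime_pow (p := 3) (n := 1) ?_ (pow_nine N)
    rw [pow_one, cube_eq]
    intro h
    have h1 := congrFun (congrArg Ker.r h) 1
    simp [cubeVal, N, show (1 : Idx) ≠ -1 by decide] at h1
  · refine ⟨SemidirectProduct.inr (SemidirectProduct.inl (Multiplicative.ofAdd 1)), ?_⟩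
    rw [orderOf_injective _ SemidirectProduct.inr_injective,
      orderOf_injective _ SemidirectProduct.inl_injective]
    rw [orderOf_ofAdd_eq_addOrderOf, ZMod.addOrderOf_one]

theorem solvable [Finite k] : Group.IsSolvable (Grp χ) := by
  haveI : Fact (Nat.Prime 3) := ⟨Nat.prime_three⟩
  have hK : IsPGroup 3 (Ker k) := fun x => ⟨2, pow_nine x⟩
  haveI : Group.IsNilpotent (Ker k) := hK.isNilpotent
  haveI : Group.IsSolvable Top :=
    Group.isSolvable_of_ker_le_range (SemidirectProduct.inl (φ := mulAct))
      (SemidirectProduct.rightHom) SemidirectProduct.range_inl_eq_ker_rightHom.ge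
  exact Group.isSolvable_of_ker_le_range (SemidirectProduct.inl (φ := act χ))
    (SemidirectProduct.rightHom) SemidirectProduct.range_inl_eq_ker_rightHom.ge

end CfsgLib.KnownA.SolvablePSpSpectrum

namespace CfsgLib.KnownA.SolvablePSpSpectrum

theorem exists_group {F : Type*} [Field F] [Fintype F] (hF : Fintype.card F = 3) :
    ∃ (H : Type) (_ : Group H) (_ : Fintype H), Group.IsSolvable H ∧
      Set.range (orderOf : H → ℕ) = Set.range (orderOf : Cfsg.PSp 2 F → ℕ) := by
  haveI : Fact (Nat.Prime 3) := ⟨Nat.prime_three⟩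
  haveI : Fact (Nat.Prime 5) := ⟨Nat.prime_five⟩
  let k := GaloisField 3 4
  obtain ⟨ζ, hζ⟩ : ∃ ζ : kˣ, orderOf ζ = 5 := by
    refine exists_prime_orderOf_dvd_card' 5 ?_
    rw [Nat.card_units, GaloisField.card 3 4 (by norm_num)]
    norm_num
  have hpow : (ζ : k) ^ 5 = 1 := by
    rw [← Units.val_pow_eq_pow_val, ← hζ, pow_orderOf_eq_one, Units.val_one]
  let χ : AddChar (ZMod 5) k := AddChar.zmodChar 5 hpow
  have hχ : Faithful χ := by
    intro a ha
    have h1 : ζ ^ a.val = 1 := Units.ext (by simpa [χ, AddChar.zmodChar_apply] using ha)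
    have h2 := orderOf_dvd_of_pow_eq_one h1
    rw [hζ] at h2
    have := Nat.eq_zero_of_dvd_of_lt h2 a.val_lt
    exact (ZMod.val_eq_zero a).1 this
  haveI : Finite k := Nat.finite_of_card_ne_zero (by rw [GaloisField.card 3 4 (by norm_num)]; norm_num)
  haveI : Finite (Ker k ⋊[act χ] Top) := Finite.of_equiv _ SemidirectProduct.equivProd.symm
  refine ⟨Grp χ, inferInstance, Fintype.ofFinite _, solvable, ?_⟩
  rw [PSpFourThreeSpectrum.range_orderOf_PSp hF]
  obtain ⟨h12, h9, h5⟩ := witnesses (χ := χ)
  exact PSpFourThreeSpectrum.range_orderOf_eq (upper hχ) h12 h9 h5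

end CfsgLib.KnownA.SolvablePSpSpectrum
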