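import Cfsg.Agent.Lib.FgsB.DerivedLength
import Cfsg.Agent.Lib.FgsB.LinearDerivedLength
import Cfsg.Agent.Lib.Classical.SL2Sylow
import Cfsg.Agent.Lib.KnownB.RestrictScalars
import Cfsg.Agent.Lib.Geometry.StdForms

/-!
The derived length of a Sylow `2`-subgroup of `Sp_{2n}(q)`, `q` odd: iterated wreath products of a
quaternion group acting on orthogonal sums of hyperbolic planes.
-/

set_option autoImplicit false
set_option linter.style.haveILetI false

namespace CfsgLib.KnownA.SympSylowLength

universe u v

variable {F : Type v} [Field F]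

/-- An alternating nondegenerate space with an isometric faithful action. -/
structure IsoRep (F : Type v) [Field F] (W : Type v) [Group W] (d : ℕ) where
  V : Type v
  [acg : AddCommGroup V]
  [mod : Module F V]
  [fd : FiniteDimensional F V]
  [nt : Nontrivial V]
  B : LinearMap.BilinForm F V
  alt : B.IsAlt
  nd : ∀ x, (∀ y, B x y = 0) → x = 0
  ρ : W →* (V ≃ₗ[F] V)
  inj : Function.Injective ρ
  inv : ∀ g x y, B (ρ g x) (ρ g y) = B x y
  dim : Module.finrank F V = d

/-- The symplectic plane. -/
def planeForm (F : Type v) [Field F] : LinearMap.BilinForm F (Fin 2 → F) :=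
  LinearMap.mk₂ F (fun x y => x 0 * y 1 - x 1 * y 0)
    (fun x x' y => by simp only [Pi.add_apply]; ring)
    (fun c x y => by simp only [Pi.smul_apply, smul_eq_mul]; ring)
    (fun x y y' => by simp only [Pi.add_apply]; ring)
    (fun c x y => by simp only [Pi.smul_apply, smul_eq_mul]; ring)

theorem planeForm_apply (x y : Fin 2 → F) : planeForm F x y = x 0 * y 1 - x 1 * y 0 := rfl

theorem planeForm_alt : (planeForm F).IsAlt := fun x => by
  rw [planeForm_apply]; ring

theorem planeForm_nd (x : Fin 2 → F) (h : ∀ y, planeForm F x y = 0) : x = 0 := by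
  have h0 := h (Pi.single 0 1)
  have h1 := h (Pi.single 1 1)
  simp [planeForm_apply] at h0 h1
  funext i
  fin_cases i
  · simpa using h1
  · simpa using h0

section Sum

variable {ι : Type} [Fintype ι] {V : Type v} [AddCommGroup V] [Module F V]

/-- Orthogonal sum of copies. -/
def sumForm (B : LinearMap.BilinForm F V) : LinearMap.BilinForm F (ι → V) :=
  LinearMap.mk₂ F (fun x y => ∑ i, B (x i) (y i))
    (fun x x' y => by simp [Finset.sum_add_distrib])
    (fun c x y => by simp [Finset.mul_sum])
    (fun x y y' => by simp [Finset.sum_add_distrib])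
    (fun c x y => by simp [Finset.mul_sum])

theorem sumForm_apply (B : LinearMap.BilinForm F V) (x y : ι → V) :
    sumForm B x y = ∑ i, B (x i) (y i) := rfl

theorem sumForm_alt {B : LinearMap.BilinForm F V} (h : B.IsAlt) :
    (sumForm (ι := ι) B).IsAlt := fun x => by
  rw [sumForm_apply]; exact Finset.sum_eq_zero fun i _ => h _

theorem sumForm_nd [DecidableEq ι] {B : LinearMap.BilinForm F V}
    (h : ∀ x, (∀ y, B x y = 0) → x = 0) (x : ι → V) (hx : ∀ y, sumForm B x y = 0) : x = 0 := by
  funext i
  refine h _ fun y => ?_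
  have := hx (Pi.single i y)
  rw [sumForm_apply, Finset.sum_eq_single i (fun j _ hj => by rw [Pi.single_eq_of_ne hj, map_zero])
    (fun hi => absurd (Finset.mem_univ i) hi), Pi.single_eq_same] at this
  exact this

/-- The wreath action on copies. -/
def wrEquiv {D : Type v} [Group D] {Q : Type} [Group Q] (ρ : D →* (V ≃ₗ[F] V)) :
    D ≀ᵣ Q →* ((Q → V) ≃ₗ[F] (Q → V)) where
  toFun a :=
    { toFun := fun v x => ρ (a.left x) (v (a.right⁻¹ * x))
      map_add' := fun v w => by funext x; simp
      map_smul' := fun c v => by funext x; simp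
      invFun := fun v x => ρ (a.left (a.right * x))⁻¹ (v (a.right * x))
      left_inv := fun v => by
        funext x
        simp
      right_inv := fun v => by
        funext x
        simp }
  map_one' := by
    refine LinearEquiv.ext fun v => funext fun x => ?_
    simp
  map_mul' a b := by
    refine LinearEquiv.ext fun v => funext fun x => ?_
    simp [mul_assoc]

theorem wrEquiv_apply {D : Type v} [Group D] {Q : Type} [Group Q] (ρ : D →* (V ≃ₗ[F] V))
    (a : D ≀ᵣ Q) (v : Q → V) (x : Q) : wrEquiv ρ a v x = ρ (a.left x) (v (a.right⁻¹ * x)) := rfl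

end Sum

/-- The step: a wreath product with a group of order two. -/
theorem step {W : Type v} [Group W] {d : ℕ} (M : IsoRep F W d) :
    Nonempty (IsoRep F (W ≀ᵣ Multiplicative (ZMod 2)) (2 * d)) := by
  classical
  obtain ⟨V, B, alt, nd, ρ, inj, inv, dim⟩ := M
  refine ⟨{
    V := Multiplicative (ZMod 2) → V
    B := sumForm B
    alt := sumForm_alt alt
    nd := sumForm_nd nd
    ρ := wrEquiv ρ
    inj := ?_
    inv := ?_
    dim := ?_ }⟩
  · rw [injective_iff_map_eq_one]
    intro a ha
    obtain ⟨w, hw⟩ := exists_ne (0 : V)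
    have hright : a.right = 1 := by
      by_contra hne
      have h := congrFun (LinearEquiv.congr_fun ha (Pi.single 1 w)) a.right
      rw [wrEquiv_apply, inv_mul_cancel, Pi.single_eq_same] at h
      change ρ (a.left a.right) w = (Pi.single 1 w : Multiplicative (ZMod 2) → V) a.right at h
      rw [Pi.single_eq_of_ne hne] at h
      exact hw ((LinearEquiv.map_eq_zero_iff _).1 h)
    refine RegularWreathProduct.ext (funext fun x => inj (LinearEquiv.ext fun v => ?_)) hright
    have h := congrFun (LinearEquiv.congr_fun ha fun _ => v) x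
    rw [wrEquiv_apply] at h
    change ρ (a.left x) v = v at h
    rw [h]
    simp
  · intro a x y
    rw [sumForm_apply, sumForm_apply]
    simp only [wrEquiv_apply, inv]
    exact Equiv.sum_comp (Equiv.mulLeft a.right⁻¹) fun i => B (x i) (y i)
  · rw [Module.finrank_pi_fintype, Finset.sum_const, Finset.card_univ, smul_eq_mul, dim]
    simp

theorem exists_iter [Fintype F] (hodd : Odd (Fintype.card F)) : ∀ k : ℕ,
    ∃ (W : Type v) (_ : Group W) (_ : Finite W), IsPGroup 2 W ∧
      derivedSeries W (k + 1) ≠ ⊥ ∧ Nonempty (IsoRep F W (2 * 2 ^ k))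
  | 0 => by
    obtain ⟨P⟩ : Nonempty (Sylow 2 (Matrix.SpecialLinearGroup (Fin 2) F)) := inferInstance
    refine ⟨↥(P : Subgroup (Matrix.SpecialLinearGroup (Fin 2) F)), inferInstance, inferInstance, P.2, ?_, ⟨{
      V := Fin 2 → F
      B := planeForm F
      alt := planeForm_alt
      nd := planeForm_nd
      ρ := (Matrix.SpecialLinearGroup.toLin' (n := Fin 2) (R := F)).comp
        (P : Subgroup (Matrix.SpecialLinearGroup (Fin 2) F)).subtype
      inj := ?_
      inv := ?_
      dim := by simp }⟩⟩
    · intro h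
      rw [zero_add, derivedSeries_one, commutator_eq_bot_iff_center_eq_top] at h
      exact CfsgLib.Classical.sylow_two_SL2_not_commutative
        (CfsgLib.Geometry.two_ne_zero_of_odd_card (F := F) rfl hodd) P
        ⟨⟨fun a b => (Subgroup.mem_center_iff.1 (h ▸ Subgroup.mem_top b) a)⟩⟩
    · intro a b h
      exact Subtype.ext (Matrix.SpecialLinearGroup.toLin'_injective h)
    · intro g x y
      simp only [MonoidHom.comp_apply, Matrix.SpecialLinearGroup.toLin'_apply, planeForm_apply,
        Matrix.toLin'_apply, Matrix.mulVec, dotProduct, Fin.sum_univ_two]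
      have hdet := (g : Matrix.SpecialLinearGroup (Fin 2) F).2
      rw [Matrix.det_fin_two] at hdet
      simp only [Subgroup.coe_subtype]
      linear_combination (x 0 * y 1 - x 1 * y 0) * hdet
  | k + 1 => by
    obtain ⟨W, _, _, hW, hds, ⟨M⟩⟩ := exists_iter hodd k
    haveI : Nontrivial (Multiplicative (ZMod 2)) := inferInstance
    obtain ⟨M'⟩ := step M
    refine ⟨W ≀ᵣ Multiplicative (ZMod 2), inferInstance, inferInstance, ?_,
      FgsB.DerivedLength.derivedSeries_wreath_ne_bot hds, ?_⟩
    · haveI : Fact (Nat.Prime 2) := ⟨Nat.prime_two⟩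
      obtain ⟨j, hj⟩ := IsPGroup.iff_card.1 hW
      refine IsPGroup.of_card (n := j * 2 + 1) ?_
      rw [RegularWreathProduct.card, hj]
      simp [pow_succ, pow_mul]
    · rw [pow_succ', mul_left_comm]
      exact ⟨M'⟩

/-- Padding by trivial planes and embedding into the symplectic group. -/
theorem exists_hom {W : Type v} [Group W] {k n : ℕ} (hkn : 2 ^ k ≤ n)
    (M : IsoRep F W (2 * 2 ^ k)) :
    ∃ φ : W →* ↥(Matrix.symplecticGroup (Fin n) F), Function.Injective φ := by
  classical
  obtain ⟨V, B, alt, nd, ρ, inj, inv, dim⟩ := M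
  set d := n - 2 ^ k with hd
  let C : LinearMap.BilinForm F (Fin d → Fin 2 → F) := sumForm (planeForm F)
  let BB : LinearMap.BilinForm F (V × (Fin d → Fin 2 → F)) :=
    B.compl₁₂ (LinearMap.fst F _ _) (LinearMap.fst F _ _) +
      C.compl₁₂ (LinearMap.snd F _ _) (LinearMap.snd F _ _)
  have hBB : ∀ x y, BB x y = B x.1 y.1 + C x.2 y.2 := fun x y => rfl
  let σ : W →* ((V × (Fin d → Fin 2 → F)) ≃ₗ[F] (V × (Fin d → Fin 2 → F))) :=
    { toFun := fun g => (ρ g).prodCongr (LinearEquiv.refl F _)
      map_one' := LinearEquiv.ext fun x => by simp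
      map_mul' := fun a b => LinearEquiv.ext fun x => by simp }
  refine KnownB.RestrictScalars.alt_embed σ (fun a b h => inj (LinearEquiv.ext fun v =>
      congrArg Prod.fst (LinearEquiv.congr_fun h (v, 0)))) BB
    (fun x => by rw [hBB, alt, sumForm_alt planeForm_alt, add_zero])
    (fun x hx => Prod.ext (nd _ fun y => ?_) (sumForm_nd planeForm_nd _ fun y => ?_))
    (fun g x y => ?_) (m := n) ?_
  · have := hx (y, 0)
    rwa [hBB, map_zero, add_zero] at this
  · have := hx (0, y)
    rwa [hBB, map_zero, zero_add] at this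
  · rw [hBB, hBB]
    exact congrArg₂ (· + ·) (inv g x.1 y.1) rfl
  · rw [Module.finrank_prod, dim, Module.finrank_pi_fintype]
    simp
    omega

variable [Fintype F]

theorem upper {n : ℕ} (R : Sylow 2 ↥(Matrix.symplecticGroup (Fin n) F)) :
    derivedSeries ↥(R : Subgroup ↥(Matrix.symplecticGroup (Fin n) F))
      (Nat.log 2 (2 * n) + 1) = ⊥ := by
  classical
  haveI : Fact (Nat.Prime 2) := ⟨Nat.prime_two⟩
  let e : Matrix (Fin n ⊕ Fin n) (Fin n ⊕ Fin n) F ≃ₐ[F] Matrix (Fin (n + n)) (Fin (n + n)) F :=
    Matrix.reindexAlgEquiv F F finSumFinEquiv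
  let f : ↥(R : Subgroup ↥(Matrix.symplecticGroup (Fin n) F)) →* Matrix (Fin (n + n)) (Fin (n + n)) F :=
    ((e : _ →* _).comp (Matrix.symplecticGroup (Fin n) F).subtype).comp
      (R : Subgroup ↥(Matrix.symplecticGroup (Fin n) F)).subtype
  have := FgsB.LinearDerivedLength.derivedSeries_eq_bot R.2 F (n + n) f.toHomUnits
    (fun a b h => Subtype.ext (Subtype.ext (e.injective (congrArg Units.val h))))
  rwa [two_mul]

theorem lower (hodd : Odd (Fintype.card F)) {n : ℕ} (hn : 1 ≤ n)
    (R : Sylow 2 ↥(Matrix.symplecticGroup (Fin n) F)) :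
    derivedSeries ↥(R : Subgroup ↥(Matrix.symplecticGroup (Fin n) F)) (Nat.log 2 (2 * n)) ≠ ⊥ := by
  classical
  haveI : Fact (Nat.Prime 2) := ⟨Nat.prime_two⟩
  rw [mul_comm, Nat.log_mul_base one_lt_two (by omega)]
  set k := Nat.log 2 n
  obtain ⟨W, _, _, hW, hds, ⟨M⟩⟩ := exists_iter (F := F) hodd k
  obtain ⟨φ, hφ⟩ := exists_hom (n := n) (Nat.pow_log_le_self 2 (by omega)) M
  obtain ⟨S, hS⟩ := (hW.of_surjective φ.rangeRestrict φ.rangeRestrict_surjective).exists_le_sylow
  let g : W →* ↥(R : Subgroup ↥(Matrix.symplecticGroup (Fin n) F)) :=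
    (S.equiv R).toMonoidHom.comp ((Subgroup.inclusion hS).comp φ.rangeRestrict)
  have hg : Function.Injective g := (S.equiv R).injective.comp
    ((Subgroup.inclusion_injective hS).comp fun a b h => hφ (congrArg Subtype.val h))
  intro hbot
  refine hds ((Subgroup.map_eq_bot_iff_of_injective _ hg).mp ?_)
  rw [eq_bot_iff, ← hbot]
  exact map_derivedSeries_le_derivedSeries g (k + 1)

end CfsgLib.KnownA.SympSylowLength
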