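import Mathlib
import Cfsg.Agent.Lib.Classical.SLGen

/-!
Three conjugate regular unipotent elements generating a special linear group.
-/

set_option autoImplicit false
set_option linter.unusedSimpArgs false

namespace CfsgLib.KnownA

open scoped Matrix commutatorElement

variable {F : Type*} [Field F] {n : ℕ}

/-- `G` contains the matrix `1 + a φ`. -/
def InT (G : Subgroup (Matrix.SpecialLinearGroup (Fin n) F)) (a φ : Fin n → F) : Prop :=
  φ ⬝ᵥ a = 0 ∧ ∃ g ∈ G, (g : Matrix (Fin n) (Fin n) F) = 1 + Matrix.vecMulVec a φ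

variable {G : Subgroup (Matrix.SpecialLinearGroup (Fin n) F)}

theorem InT.cast {a b φ ψ : Fin n → F} (h : InT G a φ) (ha : a = b) (hφ : φ = ψ) : InT G b ψ :=
  ha ▸ hφ ▸ h

theorem InT.zero_right (a : Fin n → F) : InT G a 0 :=
  ⟨zero_dotProduct _, 1, one_mem G, by simp⟩

theorem InT.add_left {a b φ : Fin n → F} (ha : InT G a φ) (hb : InT G b φ) : InT G (a + b) φ := by
  obtain ⟨ha0, g, hg, hge⟩ := ha
  obtain ⟨hb0, k, hk, hke⟩ := hb
  refine ⟨by rw [dotProduct_add, ha0, hb0, add_zero], g * k, mul_mem hg hk, ?_⟩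
  rw [Matrix.SpecialLinearGroup.coe_mul, hge, hke, mul_add, mul_one, add_mul, one_mul,
    Matrix.vecMulVec_mul_vecMulVec, hb0, Matrix.add_vecMulVec]
  simp [add_assoc]

theorem InT.add_right {a φ ψ : Fin n → F} (ha : InT G a φ) (hb : InT G a ψ) : InT G a (φ + ψ) := by
  obtain ⟨ha0, g, hg, hge⟩ := ha
  obtain ⟨hb0, k, hk, hke⟩ := hb
  refine ⟨by rw [add_dotProduct, ha0, hb0, add_zero], g * k, mul_mem hg hk, ?_⟩
  rw [Matrix.SpecialLinearGroup.coe_mul, hge, hke, mul_add, mul_one, add_mul, one_mul,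
    Matrix.vecMulVec_mul_vecMulVec, ha0, Matrix.vecMulVec_add]
  simp [add_assoc]

theorem InT.neg_left {a φ : Fin n → F} (ha : InT G a φ) : InT G (-a) φ := by
  obtain ⟨ha0, g, hg, hge⟩ := ha
  refine ⟨by rw [dotProduct_neg, ha0, neg_zero], g⁻¹, inv_mem hg, ?_⟩
  have h : (g : Matrix (Fin n) (Fin n) F) * (1 + Matrix.vecMulVec (-a) φ) = 1 := by
    rw [hge, mul_add, mul_one, add_mul, one_mul, Matrix.vecMulVec_mul_vecMulVec,
      dotProduct_neg, ha0, Matrix.neg_vecMulVec]
    simp [add_assoc]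
  calc ((g⁻¹ : Matrix.SpecialLinearGroup (Fin n) F) : Matrix (Fin n) (Fin n) F)
      = (g⁻¹ : Matrix.SpecialLinearGroup (Fin n) F).1 * ((g : Matrix (Fin n) (Fin n) F) *
          (1 + Matrix.vecMulVec (-a) φ)) := by rw [h, mul_one]
    _ = _ := by
      rw [← mul_assoc, ← Matrix.SpecialLinearGroup.coe_mul, inv_mul_cancel,
        Matrix.SpecialLinearGroup.coe_one, one_mul]

theorem InT.neg_right {a φ : Fin n → F} (ha : InT G a φ) : InT G a (-φ) := by
  obtain ⟨h0, g, hg, hge⟩ := ha.neg_left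
  refine ⟨by rw [dotProduct_neg] at h0; rw [neg_dotProduct, h0], g, hg, ?_⟩
  rw [hge, Matrix.neg_vecMulVec, Matrix.vecMulVec_neg]

theorem InT.sub_right {a φ ψ : Fin n → F} (ha : InT G a φ) (hb : InT G a ψ) : InT G a (φ - ψ) :=
  sub_eq_add_neg φ ψ ▸ ha.add_right hb.neg_right

theorem InT.sub_left {a b φ : Fin n → F} (ha : InT G a φ) (hb : InT G b φ) : InT G (a - b) φ :=
  sub_eq_add_neg a b ▸ ha.add_left hb.neg_left

/-- Conjugation. -/
theorem InT.conj {a φ ψ : Fin n → F} (ha : InT G a φ) {w : Matrix.SpecialLinearGroup (Fin n) F}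
    (hw : w ∈ G) (hψ : ψ ᵥ* (w : Matrix (Fin n) (Fin n) F) = φ) :
    InT G ((w : Matrix (Fin n) (Fin n) F) *ᵥ a) ψ := by
  obtain ⟨ha0, g, hg, hge⟩ := ha
  refine ⟨by rw [Matrix.dotProduct_mulVec, hψ, ha0], w * g * w⁻¹,
    mul_mem (mul_mem hw hg) (inv_mem hw), ?_⟩
  have h : ((w * g : Matrix.SpecialLinearGroup (Fin n) F) : Matrix (Fin n) (Fin n) F) =
      (1 + Matrix.vecMulVec ((w : Matrix (Fin n) (Fin n) F) *ᵥ a) ψ) * (w : Matrix (Fin n) (Fin n) F) := by
    rw [Matrix.SpecialLinearGroup.coe_mul, hge, add_mul, mul_add, one_mul, mul_one,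
      Matrix.mul_vecMulVec, Matrix.vecMulVec_mul, hψ]
  rw [Matrix.SpecialLinearGroup.coe_mul, h, mul_assoc, ← Matrix.SpecialLinearGroup.coe_mul,
    mul_inv_cancel, Matrix.SpecialLinearGroup.coe_one, mul_one]

/-- Conjugation by the inverse. -/
theorem InT.conj' {a b φ : Fin n → F} (ha : InT G a φ) {w : Matrix.SpecialLinearGroup (Fin n) F}
    (hw : w ∈ G) (hb : (w : Matrix (Fin n) (Fin n) F) *ᵥ b = a) :
    InT G b (φ ᵥ* (w : Matrix (Fin n) (Fin n) F)) := by
  have h := ha.conj (inv_mem hw) (ψ := φ ᵥ* (w : Matrix (Fin n) (Fin n) F)) (by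
    rw [Matrix.vecMul_vecMul, ← Matrix.SpecialLinearGroup.coe_mul, mul_inv_cancel,
      Matrix.SpecialLinearGroup.coe_one, Matrix.vecMul_one])
  refine h.cast ?_ rfl
  rw [← hb, Matrix.mulVec_mulVec, ← Matrix.SpecialLinearGroup.coe_mul, inv_mul_cancel,
    Matrix.SpecialLinearGroup.coe_one, Matrix.one_mulVec]

/-- The commutator rule. -/
theorem InT.comm {a b φ ψ : Fin n → F} (ha : InT G a φ) (hb : InT G b ψ) (h : ψ ⬝ᵥ a = 0) :
    InT G a ((φ ⬝ᵥ b) • ψ) := by
  obtain ⟨ha0, g, hg, hge⟩ := ha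
  have hb' := hb
  obtain ⟨hb0, k, hk, hke⟩ := hb
  have hc : InT G ((g : Matrix (Fin n) (Fin n) F) *ᵥ b) ψ := hb'.conj hg (by
    rw [hge, Matrix.vecMul_add, Matrix.vecMul_one, Matrix.vecMul_vecMulVec, h, zero_smul, add_zero])
  have h2 := hc.sub_left hb'
  have e : (g : Matrix (Fin n) (Fin n) F) *ᵥ b - b = (φ ⬝ᵥ b) • a := by
    rw [hge, Matrix.add_mulVec, Matrix.one_mulVec, Matrix.vecMulVec_mulVec, op_smul_eq_smul,
      add_sub_cancel_left]
  rw [e] at h2
  obtain ⟨-, m, hm, hme⟩ := h2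
  exact ⟨by rw [smul_dotProduct, h, smul_zero], m, hm,
    by rw [hme, Matrix.smul_vecMulVec, Matrix.vecMulVec_smul]⟩

/-- The pairs with a given scalar. -/
def InE (G : Subgroup (Matrix.SpecialLinearGroup (Fin n) F)) (i j : Fin n) (c : F) : Prop :=
  InT G (Pi.single i 1) (c • Pi.single j 1)

theorem InE.mk {i j : Fin n} (h : InT G (Pi.single i 1) (Pi.single j 1)) : InE G i j 1 := by
  rw [InE, one_smul]; exact h

theorem InE.out {i j : Fin n} (h : InE G i j 1) : InT G (Pi.single i 1) (Pi.single j 1) := by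
  rw [InE, one_smul] at h; exact h

theorem InE.comm {i j k : Fin n} {c d : F} (h1 : InE G i k c) (h2 : InE G k j d) (hij : i ≠ j) :
    InE G i j (c * d) := by
  have h := InT.comm h1 h2 (by simp [hij])
  refine h.cast rfl ?_
  simp [smul_smul]

theorem InE.mem {i j : Fin n} (hij : i ≠ j) {c : F} (h : InE G i j c) :
    Matrix.SpecialLinearGroup.transvection hij c ∈ G := by
  obtain ⟨-, g, hg, hge⟩ := h
  have : Matrix.SpecialLinearGroup.transvection hij c = g := by
    refine Subtype.ext ?_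
    rw [hge, Matrix.SpecialLinearGroup.transvection_coe]
    congr 1
    ext k l
    simp [Matrix.vecMulVec_apply, Matrix.single_apply, Pi.single_apply, eq_comm]
    split_ifs <;> simp_all
  exact this ▸ hg

theorem InE.add {i j : Fin n} {c d : F} (h1 : InE G i j c) (h2 : InE G i j d) : InE G i j (c + d) := by
  rw [InE, add_smul]; exact InT.add_right h1 h2

theorem InE.zero (i j : Fin n) : InE G i j 0 := by
  rw [InE, zero_smul]; exact InT.zero_right _

/-- If all elementary pairs take the values `1` and a generator of the multiplicative group, `G` is everything. -/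
theorem eq_top_of_InE [Finite F] (hn : 3 ≤ n) (ω : Fˣ) (hω : ∀ x : Fˣ, x ∈ Submonoid.powers ω)
    (h : ∀ i j : Fin n, i ≠ j → InE G i j 1 ∧ InE G i j (ω : F)) : G = ⊤ := by
  refine CfsgLib.Classical.eq_top_of_transvection_mem G fun i j hij c => InE.mem hij ?_
  rcases eq_or_ne c 0 with rfl | hc
  · exact InE.zero _ _
  obtain ⟨k, hk⟩ := hω (Units.mk0 c hc)
  have e : c = (ω : F) ^ k := by
    have := congrArg Units.val hk
    simpa using this.symm
  subst e
  clear hc hk
  induction k generalizing i j with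
  | zero => rw [pow_zero]; exact (h i j hij).1
  | succ k ih =>
    obtain ⟨m, hm⟩ : ∃ m : Fin n, m ∉ ({i, j} : Finset (Fin n)) := by
      have h2 : ({i, j} : Finset (Fin n)).card < (Finset.univ : Finset (Fin n)).card :=
        lt_of_le_of_lt Finset.card_le_two (by simp; omega)
      obtain ⟨m, -, hm⟩ := Finset.exists_mem_notMem_of_card_lt_card h2
      exact ⟨m, hm⟩
    simp only [Finset.mem_insert, Finset.mem_singleton, not_or] at hm
    rw [pow_succ]
    exact (ih i m (Ne.symm hm.1)).comm (h m j hm.2).2 hij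

end CfsgLib.KnownA
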