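import Cfsg.Agent.Lib.KnownA.ThreeGen
import Cfsg.Agent.Lib.KnownA.Unipotent

/-!
The generation theorems for three conjugate regular unipotent elements.
-/

set_option autoImplicit false
set_option linter.unusedSimpArgs false

namespace CfsgLib.KnownA

open scoped Matrix

variable {F : Type*} [Field F]

/-- The statement for one degree. -/
def ThreeGenStmt (F : Type*) [Field F] (n : ℕ) : Prop :=
  ∃ u g h : Matrix.SpecialLinearGroup (Fin n) F,
    (IsNilpotent ((u : Matrix (Fin n) (Fin n) F) - 1) ∧ ((u : Matrix (Fin n) (Fin n) F) - 1) ^ (n - 1) ≠ 0) ∧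
      Subgroup.closure ({u, g * u * g⁻¹, h * u * h⁻¹} : Set (Matrix.SpecialLinearGroup (Fin n) F)) = ⊤

theorem shiftMat_isNilpotent (n : ℕ) : IsNilpotent (shiftMat F n) :=
  ⟨n, by
    ext i j
    rw [shiftMat_pow, Matrix.of_apply, if_neg (by have := j.2; omega), Matrix.zero_apply]⟩

theorem shiftMat_pow_ne_zero (n : ℕ) (hn : 0 < n) : shiftMat F n ^ (n - 1) ≠ 0 := by
  intro h0
  have := congrFun (congrFun h0 ⟨0, hn⟩) ⟨n - 1, by omega⟩
  rw [shiftMat_pow] at this
  simp at this

theorem det_one_add_shiftMat (n : ℕ) : (1 + shiftMat F n).det = 1 := by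
  rw [Matrix.det_of_isUpperTriangular]
  · exact Finset.prod_eq_one fun i _ => by simp [shiftMat]
  · intro i j (hij : j < i)
    have : (j : ℕ) < i := hij
    simp [shiftMat, hij.ne', Matrix.one_apply, show ¬ (j : ℕ) = i + 1 by omega]

set_option maxHeartbeats 1600000 in
theorem threeGen_big [Finite F] {n : ℕ} (hn : 4 ≤ n) : ThreeGenStmt F n := by
  classical
  obtain ⟨ω, hω⟩ : ∃ ω : Fˣ, ∀ x, x ∈ Submonoid.powers ω :=
    IsCyclic.exists_monoid_generator
  let p0 : Fin n := ⟨0, by omega⟩
  let p1 : Fin n := ⟨1, by omega⟩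
  let p2 : Fin n := ⟨2, by omega⟩
  let l : Fin n := ⟨n - 1, by omega⟩
  let e : Fin n → Fin n → F := fun i => Pi.single i 1
  let u : Matrix.SpecialLinearGroup (Fin n) F := ⟨1 + shiftMat F n, det_one_add_shiftMat n⟩
  let rv : Equiv.Perm (Fin n) := Fin.revPerm
  let σ : F := ((Equiv.Perm.sign rv : ℤ) : F)
  have hσσ : σ * σ = 1 := by
    rcases Int.units_eq_one_or (Equiv.Perm.sign rv) with h | h <;> simp [σ, h]
  have hσ : σ = 1 ∨ σ = -1 := by
    rcases Int.units_eq_one_or (Equiv.Perm.sign rv) with h | h <;> simp [σ, h]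
  let K : Matrix (Fin n) (Fin n) F :=
    Matrix.of fun i j => if i.val = j.val + 1 then (if i.val = n - 1 then σ else 1) else 0
  let E : Matrix (Fin n) (Fin n) F := Matrix.single l p1 (ω : F)
  let R : Matrix.SpecialLinearGroup (Fin n) F :=
    Matrix.SpecialLinearGroup.transvection (show l ≠ p2 by simp [l, p2, Fin.ext_iff]; omega) (ω : F)
  let wd : Fin n → F := fun k => if k.val = 0 then σ else 1
  have hgdet : (Equiv.Perm.permMatrix F rv * Matrix.diagonal wd).det = 1 := by
    rw [Matrix.det_mul, Matrix.det_permutation, Matrix.det_diagonal,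
      Finset.prod_eq_single p0 (fun b _ hb => if_neg fun h => hb (Fin.ext h)) (by simp)]
    exact hσσ
  let g₀ : Matrix.SpecialLinearGroup (Fin n) F := ⟨_, hgdet⟩
  -- the third element
  have hrev : ∀ i k : Fin n, (Equiv.Perm.permMatrix F rv * Matrix.diagonal wd) i k =
      if i.val + k.val = n - 1 then wd k else 0 := by
    intro i k
    rw [Matrix.mul_diagonal]
    simp only [Equiv.Perm.permMatrix, PEquiv.toMatrix_apply, Equiv.toPEquiv_apply,
      Option.mem_def, Option.some.injEq, rv, Fin.revPerm_apply, Fin.ext_iff, Fin.val_rev]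
    have := i.2; have := k.2
    split_ifs <;> first | (simp; done) | omega
  have hK : K * g₀.1 = g₀.1 * shiftMat F n := by
    ext i k
    show (K * (Equiv.Perm.permMatrix F rv * Matrix.diagonal wd)) i k =
      ((Equiv.Perm.permMatrix F rv * Matrix.diagonal wd) * shiftMat F n) i k
    simp only [Matrix.mul_apply (M := K), Matrix.mul_apply (N := shiftMat F n), hrev]
    have hi := i.2; have hk := k.2
    rw [Finset.sum_eq_single (⟨n - 1 - k.val, by omega⟩ : Fin n)
      (fun b _ hb => by
        rw [if_neg (fun h => hb (Fin.ext (by show b.val = n - 1 - k.val; omega))), mul_zero]) (by simp)]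
    rw [Finset.sum_eq_single (⟨n - 1 - i.val, by omega⟩ : Fin n)
      (fun b _ hb => by
        rw [if_neg (fun h => hb (Fin.ext (by show b.val = n - 1 - i.val; omega))), zero_mul]) (by simp)]
    simp only [K, shiftMat, Matrix.of_apply, wd]
    split_ifs <;> first | omega | (simp [hσσ]; done) | (simp_all; done)
  have hRval : R.1 = 1 + Matrix.single l p2 (ω : F) := rfl
  have hE : R.1 * K = (K + E) * R.1 := by
    have h1 : Matrix.single l p2 (ω : F) * K = E := by
      ext a b
      rw [Matrix.mul_apply, Finset.sum_eq_single p2 (fun c _ hc => by simp [Matrix.single_apply, Ne.symm hc]) (by simp)]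
      simp only [E, Matrix.single_apply, K, Matrix.of_apply, p2, p1, l, Fin.ext_iff]
      have := b.2
      split_ifs <;> first | omega | (simp only [and_true, true_and, not_false_eq_true, and_false, false_and] at *; omega) | (simp; done) | (simp_all; done)
    have h2 : K * Matrix.single l p2 (ω : F) = 0 := by
      ext a b
      rw [Matrix.mul_apply, Matrix.zero_apply, Finset.sum_eq_zero]
      intro c _
      simp only [Matrix.single_apply, K, Matrix.of_apply, l, p2, Fin.ext_iff]
      have := a.2; have := c.2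
      split_ifs <;> first | omega | (simp only [and_true, true_and, not_false_eq_true, and_false, false_and] at *; omega) | (simp; done) | (simp_all; done)
    have h3 : E * Matrix.single l p2 (ω : F) = 0 :=
      Matrix.single_mul_single_of_ne _ _ _ _ (by simp [p1, l, Fin.ext_iff]; omega) _
    rw [hRval, add_mul, one_mul, h1, add_mul, mul_add, mul_add, h2, h3]
    simp
  let g : Matrix.SpecialLinearGroup (Fin n) F := R * g₀
  have hv : (g * u * g⁻¹ : Matrix.SpecialLinearGroup (Fin n) F).1 = 1 + K + E := by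
    have h : (g * u : Matrix.SpecialLinearGroup (Fin n) F).1 = (1 + K + E) * g.1 := by
      show R.1 * g₀.1 * (1 + shiftMat F n) = (1 + K + E) * (R.1 * g₀.1)
      rw [mul_add, mul_one, mul_assoc, ← hK, ← mul_assoc R.1 K, hE, add_assoc, add_mul (1 : Matrix _ _ F),
        one_mul, mul_assoc (K + E)]
    rw [Matrix.SpecialLinearGroup.coe_mul, h, mul_assoc, ← Matrix.SpecialLinearGroup.coe_mul,
      mul_inv_cancel, Matrix.SpecialLinearGroup.coe_one, mul_one]
  let h : Matrix.SpecialLinearGroup (Fin n) F :=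
    Matrix.SpecialLinearGroup.transvection (show p0 ≠ p1 by simp [p0, p1, Fin.ext_iff]) (1 : F)
  refine ⟨u, g, h, ⟨?_, ?_⟩, ?_⟩
  · show IsNilpotent (1 + shiftMat F n - 1)
    rw [add_sub_cancel_left]; exact shiftMat_isNilpotent n
  · show (1 + shiftMat F n - 1) ^ (n - 1) ≠ 0
    rw [add_sub_cancel_left]; exact shiftMat_pow_ne_zero n (by omega)
  set G := Subgroup.closure ({u, g * u * g⁻¹, h * u * h⁻¹} : Set (Matrix.SpecialLinearGroup (Fin n) F))
  have hu : u ∈ G := Subgroup.subset_closure (by simp)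
  have hvm : g * u * g⁻¹ ∈ G := Subgroup.subset_closure (by simp)
  have hum : h * u * h⁻¹ ∈ G := Subgroup.subset_closure (by simp)
  -- rows and columns
  have colJ : ∀ j i : Fin n, (shiftMat F n *ᵥ e j) i = if (j : ℕ) = (i : ℕ) + 1 then 1 else 0 := by
    intro j i; simp [e, shiftMat]
  have hJ0 : shiftMat F n *ᵥ e p0 = 0 := by
    funext i; rw [colJ]; simp [p0]
  have hJ1 : shiftMat F n *ᵥ e p1 = e p0 := by
    funext i; rw [colJ]; simp [p1, p0, e, Pi.single_apply, Fin.ext_iff, eq_comm]
  have hJr : ∀ i k : Fin n, k.val = i.val + 1 → e i ᵥ* shiftMat F n = e k := by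
    intro i k hk; funext j
    simp [e, shiftMat, Pi.single_apply, Fin.ext_iff, hk]
  have colV : ∀ j i : Fin n, ((1 + K + E) *ᵥ e j) i = (e j i) +
      (if i.val = j.val + 1 then (if i.val = n - 1 then σ else 1) else 0) +
      (if i = l ∧ j = p1 then (ω : F) else 0) := by
    intro j i
    simp only [Matrix.add_mulVec, Matrix.one_mulVec, Pi.add_apply]
    simp [e, K, E, Matrix.single_apply, eq_comm]
  have rowV : ∀ i j : Fin n, i ≠ l → (e i ᵥ* (1 + K + E)) j = e i j +
      (if i.val = j.val + 1 then 1 else 0) := by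
    intro i j hi
    simp only [Matrix.vecMul_add, Matrix.vecMul_one, Pi.add_apply]
    have : i.val ≠ n - 1 := fun hh => hi (Fin.ext hh)
    simp [e, K, E, Matrix.single_apply, this, Ne.symm hi]
  have hl : (l : ℕ) = n - 1 := rfl
  have hv0 : (1 + K + E) *ᵥ e p0 = e p0 + e p1 := by
    funext i; rw [colV, Pi.add_apply]
    simp only [e, p0, p1, Pi.single_apply, Fin.ext_iff]
    split_ifs <;> first | omega | (simp only [and_true, true_and, not_false_eq_true, and_false, false_and] at *; omega) | (simp; done) | (simp_all; done)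
  have hv1 : (1 + K + E) *ᵥ e p1 = e p1 + e p2 + (ω : F) • e l := by
    funext i; rw [colV]
    simp only [e, p2, p1, l, Pi.add_apply, Pi.smul_apply, Pi.single_apply, Fin.ext_iff, smul_eq_mul]
    split_ifs <;> first | omega | (simp only [and_true, true_and, not_false_eq_true, and_false, false_and] at *; omega) | (simp; done) | (simp_all; done)
  have hvl : (1 + K + E) *ᵥ e l = e l := by
    funext i; rw [colV]
    have := i.2
    simp only [e, l, p1, Pi.single_apply, Fin.ext_iff]
    split_ifs <;> first | omega | (simp only [and_true, true_and, not_false_eq_true, and_false, false_and] at *; omega) | (simp; done) | (simp_all; done)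
  have hvj : ∀ j k : Fin n, 2 ≤ j.val → k.val = j.val + 1 →
      (1 + K + E) *ᵥ e j = e j + (if k.val = n - 1 then σ else 1) • e k := by
    intro j k hj hk
    funext i; rw [colV]
    simp only [e, p1, l, Pi.add_apply, Pi.smul_apply, Pi.single_apply, Fin.ext_iff, smul_eq_mul]
    split_ifs <;> first | omega | (simp only [and_true, true_and, not_false_eq_true, and_false, false_and] at *; omega) | (simp; done) | (simp_all; done)
  have hr0 : e p0 ᵥ* (1 + K + E) = e p0 := by
    funext j; rw [rowV p0 j (by simp [p0, l, Fin.ext_iff]; omega), if_neg (by simp [p0]), add_zero]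
  have hr1 : e p1 ᵥ* (1 + K + E) = e p1 + e p0 := by
    funext j; rw [rowV p1 j (by simp [p1, l, Fin.ext_iff]; omega)]
    simp [e, p0, p1, Pi.single_apply, Fin.ext_iff, eq_comm]
  have hr2 : e p2 ᵥ* (1 + K + E) = e p2 + e p1 := by
    funext j; rw [rowV p2 j (by simp [p2, l, Fin.ext_iff]; omega)]
    simp [e, p2, p1, Pi.single_apply, Fin.ext_iff, eq_comm]
  -- the transvection
  have s : InT G (e p0) (e p2) := by
    refine ⟨by simp [e, p0, p2, Fin.ext_iff], u⁻¹ * (h * u * h⁻¹), mul_mem (inv_mem hu) hum, ?_⟩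
    have hhu : (h * u : Matrix.SpecialLinearGroup (Fin n) F).1 =
        u.1 * ((1 + Matrix.vecMulVec (e p0) (e p2)) * h.1) := by
      show (1 + Matrix.single p0 p1 (1 : F)) * (1 + shiftMat F n) =
        (1 + shiftMat F n) * ((1 + Matrix.vecMulVec (e p0) (e p2)) * (1 + Matrix.single p0 p1 (1 : F)))
      have hs : Matrix.single p0 p1 (1 : F) = Matrix.vecMulVec (e p0) (e p1) := by
        ext a b; simp [e, Matrix.vecMulVec_apply, Matrix.single_apply, Pi.single_apply, eq_comm]
        split_ifs <;> simp_all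
      have h10 : e p2 ⬝ᵥ e p0 = 0 := by simp [e, p0, p2, Fin.ext_iff]
      rw [hs]
      simp only [mul_add, add_mul, mul_one, one_mul, Matrix.vecMulVec_mul_vecMulVec,
        Matrix.vecMulVec_mul, Matrix.mul_vecMulVec, hJr p1 p2 rfl, hJ0, h10, zero_smul,
        Matrix.vecMulVec_zero, Matrix.zero_vecMulVec, Matrix.vecMulVec_mulVec, op_smul_eq_smul,
        Matrix.mulVec_zero, add_zero, zero_add]
      abel
    calc (u⁻¹ * (h * u * h⁻¹) : Matrix.SpecialLinearGroup (Fin n) F).1
        = (u⁻¹).1 * (u.1 * ((1 + Matrix.vecMulVec (e p0) (e p2)) * h.1) * (h⁻¹).1) := by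
          rw [Matrix.SpecialLinearGroup.coe_mul, Matrix.SpecialLinearGroup.coe_mul, hhu]
      _ = 1 + Matrix.vecMulVec (e p0) (e p2) := by
          simp only [← mul_assoc, ← Matrix.SpecialLinearGroup.coe_mul u⁻¹ u, inv_mul_cancel,
            Matrix.SpecialLinearGroup.coe_one, one_mul]
          rw [mul_assoc, ← Matrix.SpecialLinearGroup.coe_mul, mul_inv_cancel,
            Matrix.SpecialLinearGroup.coe_one, mul_one]
  have ustep : ∀ (i k : Fin n), k.val = i.val + 1 → InT G (e p0) (e i) → InT G (e p0) (e k) := by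
    intro i k hk hi
    have h1 := hi.conj' (b := e p0) hu (by
      show (1 + shiftMat F n) *ᵥ e p0 = e p0
      rw [Matrix.add_mulVec, Matrix.one_mulVec, hJ0, add_zero])
    refine (h1.sub_right hi).cast rfl ?_
    show e i ᵥ* (1 + shiftMat F n) - e i = e k
    rw [Matrix.vecMul_add, Matrix.vecMul_one, hJr i k hk, add_sub_cancel_left]
  have vconj : ∀ {a φ ψ : Fin n → F}, InT G a φ → ψ ᵥ* (1 + K + E) = φ →
      InT G ((1 + K + E) *ᵥ a) ψ := by
    intro a φ ψ ha hψ
    have := ha.conj hvm (ψ := ψ) (by rw [hv, hψ])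
    rwa [hv] at this
  have t1 : InT G (e p0 + e p1) (e p2 - e p1 + e p0) := hv0 ▸ vconj s (by
    rw [Matrix.add_vecMul, Matrix.sub_vecMul, hr2, hr1, hr0]; abel)
  have ha2 : InT G (e p0 + e p1) (e p2) := (t1.comm s (by simp [e, p0, p1, p2, Fin.ext_iff])).cast rfl (by
    simp [e, p0, p1, p2, Fin.ext_iff])
  have hz : InT G (e p0 + e p1) (e p0 - e p1) := (t1.sub_right ha2).cast rfl (by abel)
  have h12 : InT G (e p1) (e p2) := (ha2.sub_left s).cast (by abel) rfl
  have h10 : InT G (e p1) (e p0) := by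
    have h1 := hz.conj' (b := e p1) hu (by
      show (1 + shiftMat F n) *ᵥ e p1 = _
      rw [Matrix.add_mulVec, Matrix.one_mulVec, hJ1, add_comm])
    refine (h1.add_right h12).cast rfl ?_
    show (e p0 - e p1) ᵥ* (1 + shiftMat F n) + e p2 = e p0
    rw [Matrix.vecMul_add, Matrix.vecMul_one, Matrix.sub_vecMul, hJr p0 p1 rfl, hJr p1 p2 rfl]
    abel
  have h01 : InT G (e p0) (e p1) := by
    obtain ⟨-, y, hy, hye⟩ := h10
    have h1 := hz.conj' (b := e p0) hy (by
      rw [hye, Matrix.add_mulVec, Matrix.one_mulVec, Matrix.vecMulVec_mulVec]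
      simp [e])
    refine h1.neg_right.cast rfl ?_
    rw [hye, Matrix.vecMul_add, Matrix.vecMul_one, Matrix.vecMul_vecMulVec]
    simp [e, p0, p1, Fin.ext_iff]
  have row : ∀ j : Fin n, 1 ≤ j.val → InE G p0 j 1 := by
    intro j hj
    obtain ⟨m, hm⟩ : ∃ m, j.val = m + 1 := ⟨j.val - 1, by omega⟩
    refine InE.mk ?_
    clear hj
    induction m generalizing j with
    | zero => exact (show j = p1 from Fin.ext hm) ▸ h01
    | succ m ih => exact ustep ⟨m + 1, by omega⟩ j hm (ih ⟨m + 1, by omega⟩ rfl)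
  have hc : InT G (e p2 + (ω : F) • e l) (e p0) :=
    ((vconj h10 hr0).sub_left h10).cast (by rw [hv1]; abel) rfl
  have col3 : ∀ j : Fin n, 3 ≤ j.val → InE G j p0 1 := by
    intro j hj
    obtain ⟨m, hm⟩ : ∃ m, j.val = m + 3 := ⟨j.val - 3, by omega⟩
    refine InE.mk ?_
    clear hj
    induction m generalizing j with
    | zero =>
      have h1 := ((vconj hc hr0).sub_left hc).cast (b := (if j.val = n - 1 then σ else 1) • e j)
        (ψ := e p0) (by
          rw [Matrix.mulVec_add, Matrix.mulVec_smul, hvl, hvj p2 j le_rfl hm]; abel) rfl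
      split_ifs at h1
      · rcases hσ with hh | hh <;> rw [hh] at h1
        · rwa [one_smul] at h1
        · have := h1.neg_left
          rwa [neg_smul, one_smul, neg_neg] at this
      · rwa [one_smul] at h1
    | succ m ih =>
      have h0 := ih ⟨m + 3, by omega⟩ rfl
      have h1 := ((vconj h0 hr0).sub_left h0).cast (b := (if j.val = n - 1 then σ else 1) • e j)
        (ψ := e p0) (by
          show (1 + K + E) *ᵥ e ⟨m + 3, _⟩ - e ⟨m + 3, _⟩ = _
          rw [hvj ⟨m + 3, by omega⟩ j (by show 2 ≤ m + 3; omega) hm]; abel) rfl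
      split_ifs at h1
      · rcases hσ with hh | hh <;> rw [hh] at h1
        · rwa [one_smul] at h1
        · have := h1.neg_left
          rwa [neg_smul, one_smul, neg_neg] at this
      · rwa [one_smul] at h1
  have hl3 : 3 ≤ l.val := by rw [hl]; omega
  have h1l : InE G p1 l 1 := by
    have := (InE.mk h10).comm (row l (by omega)) (by simp [p1, l, Fin.ext_iff]; omega)
    rwa [one_mul] at this
  have h10ω : InE G p1 p0 (ω : F) := by
    refine (h1l.out.comm hc (by simp [e, p0, p1, Fin.ext_iff])).cast rfl ?_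
    simp [e, p2, l, Fin.ext_iff, show ¬ (2 = n - 1) by omega, show ¬ (n - 1 = 2) by omega]
  have hl1 : InE G l p1 1 := by
    have := (col3 l hl3).comm (row p1 le_rfl) (by simp [p1, l, Fin.ext_iff]; omega)
    rwa [one_mul] at this
  have hl0ω : InE G l p0 (ω : F) := by
    have := hl1.comm h10ω (by simp [p0, l, Fin.ext_iff]; omega)
    rwa [one_mul] at this
  have h20 : InE G p2 p0 1 := by
    obtain ⟨hl0', w, hw, hwe⟩ := hl0ω
    have h1 : InT G ((ω : F) • e l) (e p0) :=
      ⟨by simp [e, p0, l, Fin.ext_iff, show ¬ (0 = n - 1) by omega, show ¬ (n - 1 = 0) by omega], w, hw,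
        by rw [hwe, Matrix.vecMulVec_smul, Matrix.smul_vecMulVec]⟩
    exact InE.mk ((hc.sub_left h1).cast (by abel) rfl)
  have col : ∀ j : Fin n, j ≠ p0 → InE G j p0 1 := by
    intro j hj
    have hj0 : j.val ≠ 0 := fun hh => hj (Fin.ext hh)
    rcases (show j.val = 1 ∨ j.val = 2 ∨ 3 ≤ j.val by omega) with hh | hh | hh
    · exact (show j = p1 from Fin.ext hh) ▸ InE.mk h10
    · exact (show j = p2 from Fin.ext hh) ▸ h20
    · exact col3 j hh
  have row' : ∀ j : Fin n, j ≠ p0 → InE G p0 j 1 := fun j hj =>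
    row j (Nat.one_le_iff_ne_zero.2 fun hh => hj (Fin.ext hh))
  have all1 : ∀ i j : Fin n, i ≠ j → InE G i j 1 := by
    intro i j hij
    by_cases hi : i = p0
    · exact hi ▸ row' j (hi ▸ hij.symm)
    by_cases hj : j = p0
    · exact hj ▸ col i hi
    have := (col i hi).comm (row' j hj) hij
    rwa [one_mul] at this
  refine eq_top_of_InE (by omega) ω hω fun i j hij => ⟨all1 i j hij, ?_⟩
  have hp10 : p1 ≠ p0 := by simp [p1, p0, Fin.ext_iff]
  have colω : ∀ i : Fin n, i ≠ p0 → InE G i p0 (ω : F) := by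
    intro i hi
    by_cases hi1 : i = p1
    · exact hi1 ▸ h10ω
    have := (all1 i p1 hi1).comm h10ω hi
    rwa [one_mul] at this
  by_cases hj : j = p0
  · exact hj ▸ colω i (hj ▸ hij)
  have hiω : ∀ i : Fin n, i ≠ j → i ≠ p0 → InE G i j (ω : F) := fun i hij hi => by
    have := (colω i hi).comm (row' j hj) hij
    rwa [mul_one] at this
  by_cases hi : i = p0
  · obtain ⟨m, hm⟩ : ∃ m : Fin n, m ∉ ({p0, j} : Finset (Fin n)) := by
      have h2 : ({p0, j} : Finset (Fin n)).card < (Finset.univ : Finset (Fin n)).card :=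
        lt_of_le_of_lt Finset.card_le_two (by simp; omega)
      obtain ⟨m, -, hm⟩ := Finset.exists_mem_notMem_of_card_lt_card h2
      exact ⟨m, hm⟩
    simp only [Finset.mem_insert, Finset.mem_singleton, not_or] at hm
    have := (all1 i m (by rw [hi]; exact Ne.symm hm.1)).comm (hiω m hm.2 hm.1) hij
    rwa [one_mul] at this
  · exact hiω i hij hi

end CfsgLib.KnownA
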