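import Cfsg.Agent.Lib.KnownA.ThreeGen

/-!
Three conjugate regular unipotent elements generating `SL₃`.
-/

set_option autoImplicit false
set_option linter.unusedSimpArgs false

namespace CfsgLib.KnownA

open scoped Matrix

variable {F : Type*} [Field F]

set_option maxHeartbeats 800000 in
theorem threeGen_three [Finite F] : ∃ u g h : Matrix.SpecialLinearGroup (Fin 3) F,
    (IsNilpotent ((u : Matrix (Fin 3) (Fin 3) F) - 1) ∧ ((u : Matrix (Fin 3) (Fin 3) F) - 1) ^ (3 - 1) ≠ 0) ∧
      Subgroup.closure ({u, g * u * g⁻¹, h * u * h⁻¹} : Set (Matrix.SpecialLinearGroup (Fin 3) F)) = ⊤ := by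
  classical
  obtain ⟨ω, hω⟩ : ∃ ω : Fˣ, ∀ x, x ∈ Submonoid.powers ω := IsCyclic.exists_monoid_generator
  let u : Matrix.SpecialLinearGroup (Fin 3) F := ⟨!![1, 1, 0; 0, 1, 1; 0, 0, 1], by simp [Matrix.det_fin_three]⟩
  let g : Matrix.SpecialLinearGroup (Fin 3) F := ⟨!![0, 0, 1; 1, 0, 0; 1, 1, 0], by simp [Matrix.det_fin_three]⟩
  let h : Matrix.SpecialLinearGroup (Fin 3) F := ⟨!![1, (ω : F), 0; 0, 1, 0; 0, 0, 1], by simp [Matrix.det_fin_three]⟩
  have hv : (g * u * g⁻¹ : Matrix.SpecialLinearGroup (Fin 3) F).1 = !![1, 0, 0; 0, 0, 1; 1, -1, 2] := by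
    have hgu : g.1 * u.1 = !![1, 0, 0; 0, 0, 1; 1, -1, 2] * g.1 := by
      ext i j
      fin_cases i <;> fin_cases j <;> simp [g, u, Matrix.mul_apply, Fin.sum_univ_three] <;> ring
    rw [Matrix.SpecialLinearGroup.coe_mul, Matrix.SpecialLinearGroup.coe_mul, hgu, mul_assoc,
      ← Matrix.SpecialLinearGroup.coe_mul, mul_inv_cancel, Matrix.SpecialLinearGroup.coe_one, mul_one]
  refine ⟨u, g, h, ⟨⟨3, ?_⟩, ?_⟩, ?_⟩
  · ext i j
    fin_cases i <;> fin_cases j <;>
      simp [u, pow_succ, Matrix.mul_apply, Fin.sum_univ_three, Matrix.one_apply]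
  · intro h0
    have := congrFun (congrFun h0 0) 2
    simp [u, pow_succ, Matrix.mul_apply, Fin.sum_univ_three, Matrix.one_apply] at this
  set G := Subgroup.closure ({u, g * u * g⁻¹, h * u * h⁻¹} : Set (Matrix.SpecialLinearGroup (Fin 3) F))
  have hu : u ∈ G := Subgroup.subset_closure (by simp)
  have hvm : g * u * g⁻¹ ∈ G := Subgroup.subset_closure (by simp)
  have hum : h * u * h⁻¹ ∈ G := Subgroup.subset_closure (by simp)
  have hs : InT G ![1, 0, 0] ![0, 0, (ω : F)] := by
    refine ⟨by simp [dotProduct, Fin.sum_univ_three], u⁻¹ * (h * u * h⁻¹), mul_mem (inv_mem hu) hum, ?_⟩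
    have hhu : h.1 * u.1 = u.1 * ((1 + Matrix.vecMulVec ![1, 0, 0] ![0, 0, (ω : F)]) * h.1) := by
      ext i j
      fin_cases i <;> fin_cases j <;>
        simp [h, u, Matrix.mul_apply, Fin.sum_univ_three, Matrix.one_apply, Matrix.vecMulVec_apply] <;> ring
    rw [Matrix.SpecialLinearGroup.coe_mul, Matrix.SpecialLinearGroup.coe_mul,
      Matrix.SpecialLinearGroup.coe_mul, hhu, ← mul_assoc, ← mul_assoc,
      ← Matrix.SpecialLinearGroup.coe_mul u⁻¹ u, inv_mul_cancel, Matrix.SpecialLinearGroup.coe_one,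
      one_mul, mul_assoc, ← Matrix.SpecialLinearGroup.coe_mul, mul_inv_cancel,
      Matrix.SpecialLinearGroup.coe_one, mul_one]
  have vconj : ∀ {a φ b ψ : Fin 3 → F}, InT G a φ → ψ ᵥ* !![1, 0, 0; 0, 0, 1; 1, -1, 2] = φ →
      !![(1 : F), 0, 0; 0, 0, 1; 1, -1, 2] *ᵥ a = b → InT G b ψ := by
    intro a φ b ψ ha hψ hb
    have := ha.conj hvm (ψ := ψ) (by rw [hv, hψ])
    rw [hv, hb] at this
    exact this
  -- `1 + c e₀ e₂*` gives `1 + c e_a e₁*`
  have stepA : ∀ c, InT G ![1, 0, 0] ![0, 0, c] → InT G ![1, 0, 1] ![0, c, 0] := by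
    intro c hc
    refine vconj hc ?_ ?_ <;>
      · funext i; fin_cases i <;> simp [Matrix.vecMul, Matrix.mulVec, dotProduct, Fin.sum_univ_three]
  have stepB : ∀ c d, InT G ![1, 0, 0] ![0, 0, c] → InT G ![1, 0, 0] ![0, 0, d] →
      InT G ![1, 0, 0] ![0, c * d, 0] := by
    intro c d hc hd
    refine (hc.comm (stepA d hd) (by simp [dotProduct, Fin.sum_univ_three])).cast rfl ?_
    funext i; fin_cases i <;> simp [dotProduct, Fin.sum_univ_three]
  have stepU : ∀ c, InT G ![1, 0, 0] ![0, c, 0] → InT G ![1, 0, 0] ![0, 0, c] := by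
    intro c hc
    have h1 := hc.conj' (b := ![1, 0, 0]) hu (by
      funext i; fin_cases i <;> simp [u, Matrix.mulVec, dotProduct, Fin.sum_univ_three])
    refine (h1.sub_right hc).cast rfl ?_
    funext i; fin_cases i <;> simp [u, Matrix.vecMul, dotProduct, Fin.sum_univ_three]
  have hpow : ∀ k : ℕ, InT G ![1, 0, 0] ![0, 0, (ω : F) ^ (k + 1)] := by
    intro k
    induction k with
    | zero => simpa using hs
    | succ k ih =>
      rw [pow_succ _ (k + 1)]
      exact stepU _ (stepB _ _ ih hs)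
  have h02 : ∀ c, InT G ![1, 0, 0] ![0, 0, c] := by
    intro c
    rcases eq_or_ne c 0 with rfl | hc
    · exact (InT.zero_right _).cast rfl (by funext i; fin_cases i <;> simp)
    obtain ⟨k, hk⟩ := hω (Units.mk0 c hc * ω⁻¹)
    have e : c = (ω : F) ^ (k + 1) := by
      have := congrArg (fun x : Fˣ => (x : F) * ω) hk
      simpa [pow_succ] using this.symm
    rw [e]; exact hpow k
  have h01 : ∀ c, InT G ![1, 0, 0] ![0, c, 0] := fun c => by
    simpa using stepB c 1 (h02 c) (h02 1)
  have h21 : ∀ c, InT G ![0, 0, 1] ![0, c, 0] := fun c => by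
    refine ((stepA c (h02 c)).sub_left (h01 c)).cast ?_ rfl
    funext i; fin_cases i <;> simp
  have h20 : ∀ c, InT G ![0, 0, 1] ![c, 0, 0] := by
    intro c
    have h1 : InT G ![1, 0, 1] ![c, 2 * c, -c] := by
      refine vconj (h01 c) ?_ ?_ <;>
        · funext i; fin_cases i <;> simp [Matrix.vecMul, Matrix.mulVec, dotProduct, Fin.sum_univ_three] <;> ring
    have h2 := h1.sub_right (stepA (2 * c) (h02 _))
    obtain ⟨-, y, hy, hye⟩ := h02 (-1)
    have h3 := h2.conj hy (ψ := ![c, 0, 0]) (by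
      rw [hye]; funext i; fin_cases i <;>
        simp [Matrix.vecMul, dotProduct, Fin.sum_univ_three, Matrix.one_apply, Matrix.vecMulVec_apply])
    refine h3.cast ?_ rfl
    rw [hye]; funext i; fin_cases i <;>
      simp [Matrix.mulVec, dotProduct, Fin.sum_univ_three, Matrix.one_apply, Matrix.vecMulVec_apply]
  have h12 : ∀ c, InT G ![0, 1, 0] ![0, 0, c] := by
    intro c
    have h1 := (h21 c).conj hu (ψ := ![0, c, -c]) (by
      funext i; fin_cases i <;> simp [u, Matrix.vecMul, dotProduct, Fin.sum_univ_three])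
    obtain ⟨-, y, hy, hye⟩ := h21 (-1)
    have h2 := h1.conj hy (ψ := ![0, 0, -c]) (by
      rw [hye]; funext i; fin_cases i <;>
        simp [Matrix.vecMul, dotProduct, Fin.sum_univ_three, Matrix.one_apply, Matrix.vecMulVec_apply])
    refine h2.neg_right.cast ?_ ?_
    · rw [hye]; funext i; fin_cases i <;>
        simp [u, Matrix.mulVec, dotProduct, Fin.sum_univ_three, Matrix.one_apply, Matrix.vecMulVec_apply]
    · funext i; fin_cases i <;> simp
  have h10 : ∀ c, InT G ![0, 1, 0] ![c, 0, 0] := by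
    intro c
    refine ((h12 1).comm (h20 c) (by simp [dotProduct, Fin.sum_univ_three])).cast rfl ?_
    funext i; fin_cases i <;> simp [dotProduct, Fin.sum_univ_three]
  refine eq_top_of_InE le_rfl ω hω fun i j hij => ?_
  have hsingle : ∀ (i : Fin 3) (c : F), (Pi.single i c : Fin 3 → F) =
      ![if i = 0 then c else 0, if i = 1 then c else 0, if i = 2 then c else 0] := by
    intro i c; funext k; fin_cases i <;> fin_cases k <;> simp
  have key : ∀ c : F, InE G i j c := by
    intro c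
    rw [InE, ← Pi.single_smul, smul_eq_mul, mul_one, hsingle i, hsingle j]
    fin_cases i <;> fin_cases j
    all_goals first
      | exact absurd rfl hij
      | skip
    all_goals simp
    all_goals first
      | exact h01 c
      | exact h02 c
      | exact h10 c
      | exact h12 c
      | exact h20 c
      | exact h21 c
  exact ⟨key 1, key _⟩

end CfsgLib.KnownA
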