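import Cfsg.Agent.Lib.Recog.ProjSpectrum
import Mathlib.GroupTheory.SemidirectProduct
import Mathlib.FieldTheory.Finite.GaloisField

/-!
A group with non-trivial `O₃` and maximal element orders `6, 9, q - 1, (q + 1)/2`, `q = 3^α`:
the extension of the twisted tensor square of the natural module by `{±1} × L₂(q)`.
-/

set_option autoImplicit false
set_option linter.style.haveILetI false

namespace CfsgLib.KnownA.TwistedTensorSpectrum

open Matrix

variable {F : Type} [Field F] [CharP F 3]

local notation "SL" => Matrix.SpecialLinearGroup (Fin 2) F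
local notation "PS" => Matrix.ProjectiveSpecialLinearGroup (Fin 2) F
local notation "M2" => Matrix (Fin 2) (Fin 2) F

/-- The twisted transpose. -/
def tw (g : M2) : M2 := (g.map (frobenius F 3))ᵀ

theorem tw_mul (g h : M2) : tw (g * h) = tw h * tw g := by
  rw [tw, Matrix.map_mul, transpose_mul]
  rfl

theorem tw_one : tw (1 : M2) = 1 := by
  rw [tw, Matrix.map_one _ (map_zero _) (map_one _), transpose_one]

theorem twist_comp (g h : SL) (Y : M2) :
    (g : M2) * ((h : M2) * Y * tw (h : M2)) * tw (g : M2) =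
      ((g * h : SL) : M2) * Y * tw ((g * h : SL) : M2) := by
  rw [Matrix.SpecialLinearGroup.coe_mul, tw_mul]
  simp only [mul_assoc]

/-- The action on the tensor product. -/
def rho : SL × ℤˣ →* MulAut (Multiplicative M2) where
  toFun a :=
    { toFun := fun X => Multiplicative.ofAdd
        ((a.2 : ℤ) • ((a.1 : M2) * Multiplicative.toAdd X * tw (a.1 : M2)))
      invFun := fun X => Multiplicative.ofAdd
        (((a.2⁻¹ : ℤˣ) : ℤ) • (((a.1⁻¹ : SL) : M2) * Multiplicative.toAdd X * tw ((a.1⁻¹ : SL) : M2)))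
      left_inv := fun X => by
        simp only [toAdd_ofAdd, Matrix.mul_smul, Matrix.smul_mul, smul_smul, ← Units.val_mul,
          inv_mul_cancel, Units.val_one, one_smul]
        rw [twist_comp, inv_mul_cancel]
        simp [tw_one]
      right_inv := fun X => by
        simp only [toAdd_ofAdd, Matrix.mul_smul, Matrix.smul_mul, smul_smul, ← Units.val_mul,
          mul_inv_cancel, Units.val_one, one_smul]
        rw [twist_comp, mul_inv_cancel]
        simp [tw_one]
      map_mul' := fun X Y => by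
        simp only [toAdd_mul, mul_add, add_mul, smul_add, ofAdd_add] }
  map_one' := by
    refine MulEquiv.ext fun X => ?_
    show Multiplicative.ofAdd _ = X
    simp [tw_one]
    rfl
  map_mul' a b := by
    refine MulEquiv.ext fun X => ?_
    show Multiplicative.ofAdd (((a.2 * b.2 : ℤˣ) : ℤ) •
        (((a.1 * b.1 : SL) : M2) * Multiplicative.toAdd X * tw ((a.1 * b.1 : SL) : M2))) =
      Multiplicative.ofAdd ((a.2 : ℤ) • ((a.1 : M2) *
        ((b.2 : ℤ) • ((b.1 : M2) * Multiplicative.toAdd X * tw (b.1 : M2))) * tw (a.1 : M2)))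
    rw [Matrix.mul_smul, Matrix.smul_mul, smul_smul, twist_comp, Units.val_mul]

theorem rho_apply (a : SL × ℤˣ) (X : M2) :
    rho a (Multiplicative.ofAdd X) =
      Multiplicative.ofAdd ((a.2 : ℤ) • ((a.1 : M2) * X * tw (a.1 : M2))) := rfl

theorem rho_center (g : SL) (hg : g ∈ Subgroup.center SL) : rho (g, 1) = 1 := by
  obtain ⟨r, hr, hrg⟩ := Matrix.SpecialLinearGroup.mem_center_iff.1 hg
  refine MulEquiv.ext fun X => ?_
  show Multiplicative.ofAdd _ = X
  have hr2 : r ^ 2 = 1 := by simpa using hr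
  have htw : tw (Matrix.scalar (Fin 2) r) = Matrix.scalar (Fin 2) (r ^ 3) := by
    rw [tw]
    ext i j
    fin_cases i <;> fin_cases j <;> simp [frobenius_def]
  simp only [Units.val_one, one_smul]
  rw [← hrg, htw]
  simp only [Matrix.scalar_apply, ← Matrix.smul_one_eq_diagonal, Matrix.smul_mul, Matrix.mul_smul,
    one_mul, mul_one, smul_smul, toAdd_ofAdd]
  rw [show r ^ 3 * r = 1 by linear_combination (r ^ 2 + 1) * hr2, one_smul]
  rfl

/-- The action of `{±1} × L₂(q)`. -/
def act : PS × ℤˣ →* MulAut (Multiplicative M2) :=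
  MonoidHom.noncommCoprod
    (QuotientGroup.lift (Subgroup.center SL) (rho.comp (MonoidHom.inl SL ℤˣ))
      fun g hg => rho_center g hg)
    (rho.comp (MonoidHom.inr SL ℤˣ))
    fun x c => by
      induction x using QuotientGroup.induction_on with | H g => ?_
      show rho (g, 1) * rho (1, c) = rho (1, c) * rho (g, 1)
      rw [← map_mul, ← map_mul]
      simp

theorem act_mk (g : SL) (c : ℤˣ) : act ((g : PS), c) = rho (g, c) := by
  show rho (g, 1) * rho (1, c) = _
  rw [← map_mul]
  simp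

/-- The group. -/
abbrev Grp (F : Type) [Field F] [CharP F 3] : Type :=
  Multiplicative (Matrix (Fin 2) (Fin 2) F) ⋊[act (F := F)]
    (Matrix.ProjectiveSpecialLinearGroup (Fin 2) F × ℤˣ)

theorem cube_eq_one (w : Multiplicative M2) : w ^ 3 = 1 := by
  show (3 : ℕ) • Multiplicative.toAdd w = 0
  rw [← Nat.cast_smul_eq_nsmul F, CharP.cast_eq_zero, zero_smul]

theorem cayley (g : M2) (hdet : g.det = 1) : g * g = g.trace • g - 1 := by
  rw [Matrix.det_fin_two] at hdet
  ext i j
  fin_cases i <;> fin_cases j <;>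
    simp [Matrix.mul_apply, Fin.sum_univ_two, Matrix.trace_fin_two] <;>
    first | linear_combination hdet | linear_combination -hdet | ring

/-- A non-zero fixed vector forces the image in `L₂(q)` to have order dividing `2` or `3`. -/
theorem small_of_fixed (hns : ¬ IsSquare (-1 : F)) (g : SL) (c : ℤˣ) (X : M2) (hX : X ≠ 0)
    (h : rho (g, c) (Multiplicative.ofAdd X) = Multiplicative.ofAdd X) :
    (g : PS) ^ 2 = 1 ∨ (g : PS) ^ 3 = 1 := by
  rw [rho_apply] at h
  have h' : (c : ℤ) • ((g : M2) * X * tw (g : M2)) = X := Multiplicative.ofAdd.injective h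
  set A : M2 := (g : M2) with hA
  set B : M2 := tw A with hB
  set t : F := A.trace with ht
  have hdA : A.det = 1 := g.2
  have hdB : B.det = 1 := by
    rw [hB, tw, det_transpose]
    exact (RingHom.map_det (frobenius F 3) A).symm.trans (by rw [hdA, map_one])
  have htB : B.trace = t ^ 3 := by
    rw [hB, tw, trace_transpose, ht, trace_fin_two, trace_fin_two, ← frobenius_def, map_add]
    rfl
  have hA2 := cayley A hdA
  have hB2 := cayley B hdB
  rw [← ht] at hA2
  rw [htB] at hB2
  have e1 : A * X = (c : ℤ) • (X * (t ^ 3 • (1 : M2) - B)) := by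
    have hBinv : B * (t ^ 3 • (1 : M2) - B) = 1 := by
      rw [mul_sub, hB2]
      simp
    conv_rhs => rw [← h']
    rw [Matrix.smul_mul, smul_smul, ← Units.val_mul, Int.units_mul_self, Units.val_one, one_smul,
      mul_assoc (A * X) B, hBinv, mul_one]
  have e2 : A * (A * X) = (c : ℤ) • (t ^ 3 • (A * X)) - X := by
    conv_lhs => rw [e1]
    rw [mul_sub, Matrix.mul_smul, mul_sub, smul_sub, ← mul_assoc A X B, h']
    simp
  rw [← mul_assoc, hA2, sub_mul, one_mul, Matrix.smul_mul, sub_left_inj,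
    ← smul_assoc] at e2
  have hAX : A * X ≠ 0 := fun h0 => hX <| by
    rw [← h', h0]; simp
  have e3 : t - (c : ℤ) • t ^ 3 = 0 := by
    by_contra hne
    refine hAX ((smul_eq_zero.1 ?_).resolve_left hne)
    rw [sub_smul, sub_eq_zero, e2]
  have hcase : t = 0 ∨ t ^ 2 = 1 := by
    rcases eq_or_ne t 0 with h0 | h0
    · exact .inl h0
    · right
      rcases Int.units_eq_one_or c with rfl | rfl
      · refine mul_left_cancel₀ h0 ?_
        simp at e3
        linear_combination -e3
      · refine absurd ⟨t, ?_⟩ hns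
        refine mul_left_cancel₀ h0 ?_
        simp at e3
        linear_combination -e3
  have hcen : ∀ (n : ℕ) (r : F), A ^ n = r • (1 : M2) → (g : PS) ^ n = 1 := by
    intro n r hn
    rw [← QuotientGroup.mk_pow, QuotientGroup.eq_one_iff, Matrix.SpecialLinearGroup.mem_center_iff]
    refine ⟨r, ?_, ?_⟩
    · have := congrArg Matrix.det hn
      rw [det_pow, hdA, one_pow, det_smul, det_one, mul_one] at this
      exact this.symm
    · rw [show ((g ^ n : SL) : M2) = A ^ n from Matrix.SpecialLinearGroup.coe_pow g n, hn,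
        Matrix.scalar_apply, ← Matrix.smul_one_eq_diagonal]
  rcases hcase with h0 | h0
  · left
    refine hcen 2 (-1) ?_
    rw [sq, hA2, h0]
    simp
  · right
    refine hcen 3 (-t) ?_
    rw [pow_succ, sq, hA2, sub_mul, Matrix.smul_mul, hA2, smul_sub, smul_smul, ← sq, h0]
    simp

variable [Fintype F] {α : ℕ}

theorem divides (hF : Fintype.card F = 3 ^ α) (hodd : Odd α) (hα : 3 ≤ α) (e : Grp F) :
    orderOf e ∣ 6 ∨ orderOf e ∣ 9 ∨ orderOf e ∣ 3 ^ α - 1 ∨ orderOf e ∣ (3 ^ α + 1) / 2 := by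
  haveI : Fact (Nat.Prime 3) := ⟨Nat.prime_three⟩
  have h4 : 3 ^ α % 4 = 3 := by
    obtain ⟨k, rfl⟩ := hodd
    rw [pow_succ, pow_mul, Nat.mul_mod, Nat.pow_mod]
    simp
  have hns : ¬ IsSquare (-1 : F) := fun h => by
    rw [FiniteField.isSquare_neg_one_iff, hF, h4] at h
    exact h rfl
  obtain ⟨w, x, c⟩ := e
  have hc2 : c ^ 2 = 1 := by rw [sq, Int.units_mul_self]
  set e : Grp F := ⟨w, x, c⟩ with he
  have hinl : ∀ n : ℕ, x ^ n = 1 → c ^ n = 1 → ∃ N, e ^ n = SemidirectProduct.inl N := by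
    intro n hx hc
    refine ⟨(e ^ n).left, SemidirectProduct.ext rfl ?_⟩
    show SemidirectProduct.rightHom (e ^ n) = 1
    rw [map_pow]
    exact Prod.ext hx hc
  have hsq : x ^ 2 = 1 → orderOf e ∣ 6 := by
    intro hx
    obtain ⟨N, hN⟩ := hinl 2 hx hc2
    refine orderOf_dvd_of_pow_eq_one ?_
    rw [show (6 : ℕ) = 2 * 3 from rfl, pow_mul, hN, ← map_pow, cube_eq_one, map_one]
  have hcube : x ^ 3 = 1 → orderOf e ∣ 6 ∨ orderOf e ∣ 9 := by
    intro hx
    rcases Int.units_eq_one_or c with hc | hc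
    · right
      obtain ⟨N, hN⟩ := hinl 3 hx (by rw [hc, one_pow])
      refine orderOf_dvd_of_pow_eq_one ?_
      rw [show (9 : ℕ) = 3 * 3 from rfl, pow_mul, hN, ← map_pow, cube_eq_one, map_one]
    · left
      refine orderOf_dvd_of_pow_eq_one ?_
      rw [show (6 : ℕ) = 3 * 2 from rfl, pow_mul]
      have hr : (e ^ 3).right = (((1 : SL) : PS), (-1 : ℤˣ)) := by
        show SemidirectProduct.rightHom (e ^ 3) = _
        rw [map_pow]
        refine Prod.ext hx ?_
        show c ^ 3 = -1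
        rw [hc]; rfl
      rw [sq]
      refine SemidirectProduct.ext ?_ ?_
      · rw [SemidirectProduct.mul_left, hr, act_mk, SemidirectProduct.one_left]
        induction (e ^ 3).left using Multiplicative.rec with | _ X => ?_
        rw [rho_apply]
        show Multiplicative.ofAdd _ = Multiplicative.ofAdd (0 : M2)
        simp [tw_one]
      · rw [SemidirectProduct.mul_right, hr]
        exact Prod.ext (one_mul _) (Int.units_mul_self _)
  have hmain : ∀ n : ℕ, x ^ n = 1 → c ^ n = 1 → ¬ x ^ 2 = 1 → ¬ x ^ 3 = 1 → orderOf e ∣ n := by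
    intro n hx hc h2 h3
    obtain ⟨N, hN⟩ := hinl n hx hc
    refine orderOf_dvd_of_pow_eq_one ?_
    rw [hN]
    have hcomm : e * e ^ n = e ^ n * e := ((Commute.refl e).pow_right n).eq
    rw [hN] at hcomm
    have := congrArg SemidirectProduct.left hcomm
    simp only [SemidirectProduct.mul_left, SemidirectProduct.left_inl, SemidirectProduct.right_inl,
      map_one, MulAut.one_apply] at this
    rw [mul_comm w, mul_left_inj] at this
    induction N using Multiplicative.rec with | _ X => ?_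
    by_cases hX : X = 0
    · rw [hX]; exact map_one _
    · exfalso
      obtain ⟨g, rfl⟩ := QuotientGroup.mk_surjective x
      have h' : act ((g : PS), c) (Multiplicative.ofAdd X) = Multiplicative.ofAdd X := this
      rw [act_mk] at h'
      rcases small_of_fixed hns g c X hX h' with h | h
      · exact h2 h
      · exact h3 h
  by_cases hx2 : x ^ 2 = 1
  · exact .inl (hsq hx2)
  by_cases hx3 : x ^ 3 = 1
  · rcases hcube hx3 with h | h
    · exact .inl h
    · exact .inr (.inl h)
  have h1 : orderOf x ∈ Set.range (orderOf : PS → ℕ) := ⟨x, rfl⟩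
  rw [CfsgLib.Recog.range_orderOf_PSL_two 3, Set.mem_ofPred_eq, CfsgLib.Recog.dTwo,
    if_neg (by rw [hF, Nat.even_iff]; omega), hF] at h1
  rcases h1 with h1 | h1 | h1
  · exact absurd (h1 ▸ pow_orderOf_eq_one x) hx3
  · refine .inr (.inr (.inl ?_))
    have hd : orderOf x ∣ 3 ^ α - 1 := h1.trans ⟨2, by omega⟩
    exact hmain _ (orderOf_dvd_iff_pow_eq_one.1 hd)
      (Int.units_pow_eq_pow_mod_two c _ ▸ by rw [show (3 ^ α - 1) % 2 = 0 by omega, pow_zero]) hx2 hx3
  · refine .inr (.inr (.inr ?_))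
    exact hmain _ (orderOf_dvd_iff_pow_eq_one.1 h1)
      (Int.units_pow_eq_pow_mod_two c _ ▸ by rw [show ((3 ^ α + 1) / 2) % 2 = 0 by omega, pow_zero])
      hx2 hx3

theorem realised (hF : Fintype.card F = 3 ^ α) (hodd : Odd α) :
    (∃ e : Grp F, orderOf e = 6) ∧ (∃ e : Grp F, orderOf e = 9) ∧
      (∃ e : Grp F, orderOf e = 3 ^ α - 1) ∧ ∃ e : Grp F, orderOf e = (3 ^ α + 1) / 2 := by
  haveI : Fact (Nat.Prime 3) := ⟨Nat.prime_three⟩
  have h4 : 3 ^ α % 4 = 3 := by
    obtain ⟨k, rfl⟩ := hodd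
    rw [pow_succ, pow_mul, Nat.mul_mod, Nat.pow_mod]
    simp
  have hord : ∀ n : ℕ, (n = 3 ∨ n ∣ (3 ^ α - 1) / 2 ∨ n ∣ (3 ^ α + 1) / 2) →
      ∃ x : PS, orderOf x = n := by
    intro n hn
    have : n ∈ Set.range (orderOf : PS → ℕ) := by
      rw [CfsgLib.Recog.range_orderOf_PSL_two 3, Set.mem_ofPred_eq, CfsgLib.Recog.dTwo,
        if_neg (by rw [hF, Nat.even_iff]; omega), hF]
      exact hn
    exact this
  have hinr : ∀ (x : PS) (c : ℤˣ),
      orderOf (SemidirectProduct.inr (x, c) : Grp F) = Nat.lcm (orderOf x) (orderOf c) := fun x c =>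
    (orderOf_injective _ SemidirectProduct.inr_injective (x, c)).trans Prod.orderOf_mk
  have hneg : orderOf (-1 : ℤˣ) = 2 := orderOf_eq_prime (by rw [sq, Int.units_mul_self]) (by decide)
  refine ⟨?_, ?_, ?_, ?_⟩
  · obtain ⟨x, hx⟩ := hord 3 (.inl rfl)
    exact ⟨_, (hinr x (-1)).trans (by rw [hx, hneg]; rfl)⟩
  · let u : SL := ⟨!![1, 1; 0, 1], by simp [Matrix.det_fin_two]⟩
    let X : M2 := !![0, 0; 0, 1]
    let e : Grp F := ⟨Multiplicative.ofAdd X, (u : PS), 1⟩
    have hu3 : u ^ 3 = 1 := by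
      refine Subtype.ext ?_
      rw [Matrix.SpecialLinearGroup.coe_pow, Matrix.SpecialLinearGroup.coe_one]
      ext i j
      have h30 : (3 : F) = 0 := CharP.cast_eq_zero F 3
      fin_cases i <;> fin_cases j <;> simp [u, pow_succ, Matrix.mul_apply, Fin.sum_univ_two]
      linear_combination h30
    have hr : (e ^ 3).right = 1 := by
      show SemidirectProduct.rightHom (e ^ 3) = 1
      rw [map_pow]
      refine Prod.ext ?_ (one_pow 3)
      show (u : PS) ^ 3 = 1
      rw [← QuotientGroup.mk_pow, hu3, QuotientGroup.mk_one]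
    have hl : (e ^ 3).left ≠ 1 := by
      intro h
      rw [pow_succ, sq, SemidirectProduct.mul_left, SemidirectProduct.mul_left,
        SemidirectProduct.mul_right] at h
      have h' := congrArg (fun Y : Multiplicative M2 => Multiplicative.toAdd Y 0 0) h
      simp only [e, act_mk, Prod.mk_mul_mk, ← QuotientGroup.mk_mul, rho_apply, one_mul,
        Units.val_one, one_smul, toAdd_mul, toAdd_ofAdd, toAdd_one] at h'
      have hu1 : ((u : SL) : M2) = !![1, 1; 0, 1] := rfl
      have hu2 : ((u * u : SL) : M2) = !![1, 2; 0, 1] := by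
        rw [Matrix.SpecialLinearGroup.coe_mul, hu1]
        ext i j
        fin_cases i <;> fin_cases j <;> simp [Matrix.mul_apply, Fin.sum_univ_two, one_add_one_eq_two]
      have ht : ∀ a : F, tw (!![1, a; 0, 1] : M2) = !![1, 0; a ^ 3, 1] := fun a => by
        ext i j
        fin_cases i <;> fin_cases j <;> simp [tw, frobenius_def]
      rw [hu2, hu1, ht, ht] at h'
      simp [X, Matrix.mul_apply, Fin.sum_univ_two] at h'
      have h30 : (3 : F) = 0 := CharP.cast_eq_zero F 3
      exact one_ne_zero (α := F) (by linear_combination -h' + 6 * h30)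
    refine ⟨e, orderOf_eq_prime_pow (p := 3) (n := 1) ?_ ?_⟩
    · exact fun h => hl (by rw [pow_one] at h; rw [h]; rfl)
    · have : e ^ 3 = SemidirectProduct.inl (e ^ 3).left := SemidirectProduct.ext rfl hr
      rw [show 3 ^ (1 + 1) = 3 * 3 from rfl, pow_mul, this, ← map_pow, cube_eq_one, map_one]
  · obtain ⟨x, hx⟩ := hord ((3 ^ α - 1) / 2) (.inr (.inl dvd_rfl))
    refine ⟨_, (hinr x (-1)).trans ?_⟩
    rw [hx, hneg, Nat.Coprime.lcm_eq_mul (Nat.coprime_two_right.2 (Nat.odd_iff.2 (by omega)))]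
    omega
  · obtain ⟨x, hx⟩ := hord ((3 ^ α + 1) / 2) (.inr (.inr dvd_rfl))
    exact ⟨_, (hinr x 1).trans (by rw [hx, orderOf_one, Nat.lcm_one_right])⟩

omit [Fintype F] in
theorem normal_three : ∃ P : Subgroup (Grp F), P.Normal ∧ P ≠ ⊥ ∧ IsPGroup 3 ↥P := by
  refine ⟨(SemidirectProduct.inl (φ := act (F := F))).range, ?_, ?_, ?_⟩
  · rw [SemidirectProduct.range_inl_eq_ker_rightHom]; infer_instance
  · intro h
    have hmem : SemidirectProduct.inl (φ := act (F := F)) (Multiplicative.ofAdd (1 : M2)) ∈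
        (⊥ : Subgroup (Grp F)) := h ▸ ⟨_, rfl⟩
    rw [Subgroup.mem_bot, map_eq_one_iff _ SemidirectProduct.inl_injective, ofAdd_eq_one] at hmem
    exact one_ne_zero hmem
  · rintro ⟨_, w, rfl⟩
    exact ⟨1, Subtype.ext (by rw [pow_one, SubgroupClass.coe_pow, ← map_pow, cube_eq_one, map_one]; rfl)⟩

end CfsgLib.KnownA.TwistedTensorSpectrum

namespace CfsgLib.KnownA.TwistedTensorSpectrum

/-- The maximal element orders. -/
theorem maximal_orders {R : Set ℕ} {A : Set ℕ} (hA : A ⊆ R) (hR : ∀ n ∈ R, ∃ a ∈ A, n ∣ a)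
    (hanti : ∀ a ∈ A, ∀ b ∈ A, a ∣ b → a = b) :
    {n : ℕ | n ∈ R ∧ ∀ m ∈ R, n ∣ m → m = n} = A := by
  ext n
  rw [Set.mem_ofPred_eq]
  constructor
  · rintro ⟨hn, hmax⟩
    obtain ⟨a, ha, hna⟩ := hR n hn
    exact hmax a (hA ha) hna ▸ ha
  · intro hn
    refine ⟨hA hn, fun m hm hnm => ?_⟩
    obtain ⟨a, ha, hma⟩ := hR m hm
    have := hanti n hn a ha (hnm.trans hma)
    subst this
    exact Nat.dvd_antisymm hma hnm

theorem exists_group (α : ℕ) (hα : 3 ≤ α) (hodd : Odd α) :
    ∃ (H : Type) (_ : Group H) (_ : Fintype H), (∃ P : Subgroup H, P.Normal ∧ P ≠ ⊥ ∧ IsPGroup 3 ↥P) ∧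
      {n : ℕ | n ∈ Set.range (orderOf : H → ℕ) ∧ ∀ m ∈ Set.range (orderOf : H → ℕ), n ∣ m → m = n} =
        ({6, 9, 3 ^ α - 1, (3 ^ α + 1) / 2} : Set ℕ) := by
  classical
  haveI : Fact (Nat.Prime 3) := ⟨Nat.prime_three⟩
  let F := GaloisField 3 α
  letI : Fintype F := Fintype.ofFinite F
  have hF : Fintype.card F = 3 ^ α := by
    rw [← Nat.card_eq_fintype_card]; exact GaloisField.card 3 α (by omega)
  haveI : Finite (Grp F) := Finite.of_equiv _ SemidirectProduct.equivProd.symm
  refine ⟨Grp F, inferInstance, Fintype.ofFinite _, normal_three, maximal_orders ?_ ?_ ?_⟩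
  · obtain ⟨h6, h9, h1, h2⟩ := realised (F := F) hF hodd
    rintro n (rfl | rfl | rfl | rfl)
    exacts [h6, h9, h1, h2]
  · rintro n ⟨e, rfl⟩
    rcases divides hF hodd hα e with h | h | h | h
    · exact ⟨6, by simp, h⟩
    · exact ⟨9, by simp, h⟩
    · exact ⟨_, by simp, h⟩
    · exact ⟨_, by simp, h⟩
  · have h27 : 27 ≤ 3 ^ α := (show 3 ^ 3 = 27 from rfl) ▸ Nat.pow_le_pow_right (by norm_num) hα
    have h4 : 3 ^ α % 4 = 3 := by
      obtain ⟨k, rfl⟩ := hodd
      rw [pow_succ, pow_mul, Nat.mul_mod, Nat.pow_mod]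
      simp
    have h3 : 3 ^ α % 3 = 0 := Nat.mod_eq_zero_of_dvd (dvd_pow_self 3 (by omega))
    intro a ha b hb hab
    rcases ha with rfl | rfl | rfl | rfl <;> rcases hb with rfl | rfl | rfl | rfl <;>
      first
        | rfl
        | omega
        | (have := Nat.le_of_dvd (by omega) hab; omega)
        | (have h2 : (3 ^ α + 1) / 2 ∣ 3 ^ α + 1 := ⟨2, by omega⟩
           have := Nat.le_of_dvd (by omega) (Nat.dvd_sub h2 hab)
           omega)

end CfsgLib.KnownA.TwistedTensorSpectrum
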