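import Cfsg.Agent.Lib.KnownA.UnitaryHeisenberg

/-!
# Landazuri–Seitz bound for the special unitary groups

If a transvection of `SU_n(q)`, `n ≥ 3`, acts non-trivially on a finite-dimensional complex
representation, then the dimension is at least `(q^n - q)/(q+1)` for odd `n` and `(q^n - 1)/(q+1)` for
even `n`.
-/

set_option autoImplicit false

namespace CfsgLib.KnownA.UnitaryMinDeg

open Matrix CfsgLib.Classical CfsgLib.Classical.Unitary CfsgLib.KnownA.CentralChar

/-- The bound, recursively. -/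
def bnd (q : ℕ) : ℕ → ℕ
  | 0 => 0
  | 1 => 0
  | m + 2 => (q - 1) * q ^ m + bnd q m

variable {F : Type*} [Field F] {σ : F →+* F} {q n : ℕ}

/-- The fixed field. -/
abbrev Fix (σ : F →+* F) : Subfield F := σ.eqLocusField (RingHom.id F)

theorem fix_apply (r : Fix σ) : σ (r : F) = r := r.2

/-- Scaling of skew elements as an additive map. -/
def fixHom (r : Fix σ) : skew σ →+ skew σ :=
  AddMonoidHom.mk' (fixMul (fix_apply r)) fun c d => Subtype.ext (mul_add _ _ _)

/-- `t - σ t`. -/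
def skOf (h : UFrob σ q) : F →+ skew σ :=
  AddMonoidHom.mk' (fun t => (⟨t - σ t, by rw [mem_skew, map_sub, h.invol]; ring⟩ : skew σ))
    fun a b => Subtype.ext (by
      show a + b - σ (a + b) = a - σ a + (b - σ b)
      rw [map_add]; ring)

theorem skOf_surjective (h : UFrob σ q) : Function.Surjective (skOf h) := by
  intro c
  obtain ⟨θ, hθ⟩ := exists_trace h
  refine ⟨(c : F) * θ, Subtype.ext ?_⟩
  show (c : F) * θ - σ ((c : F) * θ) = c
  have hc : (c : F) + σ c = 0 := c.2
  rw [map_mul]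
  linear_combination (c : F) * hθ - σ θ * hc

theorem zero_cw (θ : F) {v : Fin n → F} (hv : uh σ v v = 0) : cw σ θ v = 0 := by simp [cw, hv]

theorem zf_zero (h : UFrob σ q) {e : Fin n → F} (he : uh σ e e = 0) : zf h he 0 = 1 :=
  su_ext fun x => by simp [zf_mulVec]

theorem card_skew [Finite F] (hF : Nat.card F = q ^ 2) (h : UFrob σ q) : Nat.card (skew σ) = q := by
  obtain ⟨c₀, h0, hc0⟩ := exists_skew h
  rw [← fixed_card_eq hF h.pow]
  refine (Nat.card_congr (Equiv.ofBijective (fun r : Fix σ => fixHom r ⟨c₀, hc0⟩) ⟨?_, ?_⟩)).symm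
  · intro r r' hrr
    exact Subtype.ext (mul_right_cancel₀ h0 (congrArg Subtype.val hrr))
  · intro c
    have hc : (c : F) + σ c = 0 := c.2
    have hc0' : σ c₀ = -c₀ := by linear_combination hc0
    have hcc : σ (c : F) = -(c : F) := by linear_combination hc
    refine ⟨⟨(c : F) / c₀, ?_⟩, Subtype.ext (div_mul_cancel₀ _ h0)⟩
    show σ ((c : F) / c₀) = (c : F) / c₀
    rw [map_div₀, hc0', hcc, neg_div_neg_eq]

theorem exists_dual_skew [Finite F] (hF : Nat.card F = q ^ 2) (h : UFrob σ q) {ψ : AddChar (skew σ) ℂ}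
    (hψ : ψ ≠ 1) (φ : AddChar (skew σ) ℂ) :
    ∃ r : Fix σ, ψ.compAddMonoidHom (fixHom r) = φ := by
  have := Fintype.ofFinite F
  have := Fintype.ofFinite (skew σ)
  have hinj : Function.Injective fun r : Fix σ => ψ.compAddMonoidHom (fixHom r) := by
    intro r r' he
    by_contra hne
    apply hψ
    have hd : (r : F) - r' ≠ 0 := sub_ne_zero.mpr fun e => hne (Subtype.ext e)
    refine DFunLike.ext _ _ fun d => ?_
    let s : Fix σ := (r - r')⁻¹
    have hs : ((r : F) - r') * ((s : F) * (d : F)) = d := by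
      have : (s : F) = ((r : F) - r')⁻¹ := by simp [s]
      rw [this, ← mul_assoc, mul_inv_cancel₀ hd, one_mul]
    have hdd : d + fixHom r' (fixHom s d) = fixHom r (fixHom s d) := by
      refine Subtype.ext ?_
      show (d : F) + (r' : F) * ((s : F) * (d : F)) = (r : F) * ((s : F) * (d : F))
      linear_combination (-(1 : F)) * hs
    have h1 := congrArg (fun χ : AddChar (skew σ) ℂ => χ (fixHom s d)) he
    simp only [AddChar.compAddMonoidHom_apply] at h1
    rw [← hdd, AddChar.map_add_eq_mul] at h1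
    rw [AddChar.one_apply]
    have h2 : ψ (fixHom r' (fixHom s d)) ≠ 0 := AddChar.coe_ne_zero ψ |> fun _ => by
      intro h0
      have := AddChar.map_add_eq_mul ψ (fixHom r' (fixHom s d)) (-(fixHom r' (fixHom s d)))
      rw [add_neg_cancel, AddChar.map_zero_eq_one, h0, zero_mul] at this
      exact one_ne_zero this
    exact mul_eq_right₀ h2 |>.mp h1
  have hcard : Nat.card (Fix σ) = Nat.card (AddChar (skew σ) ℂ) := by
    rw [Nat.card_eq_fintype_card (α := AddChar (skew σ) ℂ), AddChar.card_eq, ← Nat.card_eq_fintype_card,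
      card_skew hF h, fixed_card_eq hF h.pow]
  exact (Nat.bijective_iff_injective_and_card _).mpr ⟨hinj, hcard⟩ |>.2 φ

theorem exists_dual_field [Finite F] (h : UFrob σ q) {ψ : AddChar (skew σ) ℂ} (hψ : ψ ≠ 1)
    (α : AddChar F ℂ) : ∃ b : F, ∀ a, ψ (skOf h (a * σ b)) = α a := by
  have := Fintype.ofFinite F
  let Φ : F → AddChar F ℂ := fun b => ψ.compAddMonoidHom ((skOf h).comp (AddMonoidHom.mulRight (σ b)))
  have hinj : Function.Injective Φ := by
    intro b b' he
    by_contra hne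
    apply hψ
    refine DFunLike.ext _ _ fun d => ?_
    obtain ⟨t, rfl⟩ := skOf_surjective h d
    have hd : σ b - σ b' ≠ 0 := sub_ne_zero.mpr fun e => hne (σ.injective e)
    have h1 := congrArg (fun χ : AddChar F ℂ => χ (t / (σ b - σ b'))) he
    simp only [Φ, AddChar.compAddMonoidHom_apply, AddMonoidHom.comp_apply, AddMonoidHom.mulRight_apply] at h1
    have hsplit : t / (σ b - σ b') * σ b = t / (σ b - σ b') * σ b' + t := by field_simp; ring
    rw [hsplit, map_add, AddChar.map_add_eq_mul, eq_comm] at h1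
    rw [AddChar.one_apply]
    have h2 : ψ (skOf h (t / (σ b - σ b') * σ b')) ≠ 0 := by
      intro h0
      have := AddChar.map_add_eq_mul ψ (skOf h (t / (σ b - σ b') * σ b')) (-(skOf h (t / (σ b - σ b') * σ b')))
      rw [add_neg_cancel, AddChar.map_zero_eq_one, h0, zero_mul] at this
      exact one_ne_zero this
    exact mul_eq_left₀ h2 |>.mp h1.symm
  have hcard : Nat.card F = Nat.card (AddChar F ℂ) := by
    rw [Nat.card_eq_fintype_card (α := AddChar F ℂ), AddChar.card_eq, ← Nat.card_eq_fintype_card]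
  obtain ⟨b, hb⟩ := (Nat.bijective_iff_injective_and_card _).mpr ⟨hinj, hcard⟩ |>.2 α
  exact ⟨b, fun a => congrArg (fun χ : AddChar F ℂ => χ a) hb⟩

/-! ### Geometry -/

theorem exists_pair (h : UFrob σ q) {H : Submodule F (Fin n → F)} (hN : Nondeg σ H) {e : Fin n → F}
    (he : e ∈ H) (h0 : e ≠ 0) (hee : uh σ e e = 0) : ∃ f, IsPair σ H e f := by
  obtain ⟨y, hy, hye⟩ : ∃ y ∈ H, uh σ y e ≠ 0 := by
    by_contra hc
    push Not at hc
    exact h0 (hN e he fun y hy => h.swap_zero (hc y hy))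
  obtain ⟨θ, hθ⟩ := exists_trace h
  set y' := (uh σ y e)⁻¹ • y with hy'
  have h1 : uh σ y' e = 1 := by rw [hy', uh_smul_left, inv_mul_cancel₀ hye]
  have h2 : uh σ e y' = 1 := by rw [← h.symm, h1, map_one]
  refine ⟨y' + (-(θ * uh σ y' y')) • e, he, H.add_mem (H.smul_mem _ hy) (H.smul_mem _ he), hee, ?_, ?_, ?_⟩
  · simp only [uh_add_left, uh_add_right, uh_smul_left, uh_smul_right, map_neg, map_mul, h.symm, hee, h1, h2]
    linear_combination (-(uh σ y' y')) * hθ
  · simp only [uh_add_right, uh_smul_right, hee, h2]; ring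
  · simp only [uh_add_left, uh_smul_left, hee, h1]; ring

/-- The map `x ↦ (h(x,e), h(x,f))`. -/
def pairMap (σ : F →+* F) (e f : Fin n → F) : (Fin n → F) →ₗ[F] F × F where
  toFun x := (uh σ x e, uh σ x f)
  map_add' x y := by simp [uh_add_left]
  map_smul' c x := by simp [uh_smul_left]

/-- The part of `H` orthogonal to the pair. -/
def inner0 (σ : F →+* F) (H : Submodule F (Fin n → F)) (e f : Fin n → F) : Submodule F (Fin n → F) :=
  H ⊓ LinearMap.ker (pairMap σ e f)

theorem mem_inner0 {H : Submodule F (Fin n → F)} {e f x : Fin n → F} :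
    x ∈ inner0 σ H e f ↔ x ∈ H ∧ uh σ x e = 0 ∧ uh σ x f = 0 := by
  simp [inner0, pairMap]

theorem finrank_inner0 {H : Submodule F (Fin n → F)} {e f : Fin n → F} (hp : IsPair σ H e f) :
    Module.finrank F (inner0 σ H e f) + 2 = Module.finrank F H := by
  let L : H →ₗ[F] F × F := (pairMap σ e f).comp H.subtype
  have hL : LinearMap.range L = ⊤ := by
    rw [LinearMap.range_eq_top]
    rintro ⟨a, b⟩
    refine ⟨⟨a • f + b • e, H.add_mem (H.smul_mem _ hp.hf) (H.smul_mem _ hp.he)⟩, ?_⟩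
    simp [L, pairMap, uh_add_left, uh_smul_left, hp.ee, hp.ff, hp.ef, hp.fe]
  have h1 := L.finrank_range_add_finrank_ker
  rw [hL, finrank_top, Module.finrank_prod, Module.finrank_self] at h1
  have h2 : LinearMap.ker L = Submodule.comap H.subtype (inner0 σ H e f) := by
    ext x
    simp [L, inner0]
  have hle : inner0 σ H e f ≤ H := inf_le_left
  rw [h2, (Submodule.comapSubtypeEquivOfLe hle).finrank_eq] at h1
  omega

theorem nondeg_inner0 (h : UFrob σ q) {H : Submodule F (Fin n → F)} (hN : Nondeg σ H) {e f : Fin n → F}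
    (hp : IsPair σ H e f) : Nondeg σ (inner0 σ H e f) := by
  intro x hx hperp
  obtain ⟨hxH, hxe, hxf⟩ := mem_inner0.mp hx
  refine hN x hxH fun y hy => ?_
  have hy0 : y - uh σ y f • e - uh σ y e • f ∈ inner0 σ H e f := by
    refine mem_inner0.mpr ⟨H.sub_mem (H.sub_mem hy (H.smul_mem _ hp.he)) (H.smul_mem _ hp.hf), ?_, ?_⟩
    · simp [uh_sub_left, uh_smul_left, hp.ee, hp.fe]
    · simp [uh_sub_left, uh_smul_left, hp.ef, hp.ff]
  simpa [uh_sub_right, uh_smul_right, hxe, hxf] using hperp _ hy0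

theorem exists_anisotropic (h : UFrob σ q) {K : Submodule F (Fin n → F)} (hN : Nondeg σ K)
    (hK : 0 < Module.finrank F K) : ∃ x ∈ K, uh σ x x ≠ 0 := by
  by_contra hc
  push Not at hc
  have hne : K ≠ ⊥ := fun hb => by rw [hb, finrank_bot] at hK; omega
  obtain ⟨x, hx, hx0⟩ := Submodule.exists_mem_ne_zero_of_ne_bot hne
  obtain ⟨θ, hθ⟩ := exists_trace h
  refine hx0 (hN x hx fun y hy => ?_)
  by_contra hxy
  have hxy' : σ (uh σ x y) ≠ 0 := (map_ne_zero σ).mpr hxy
  have e := hc (x + (θ / σ (uh σ x y)) • y) (K.add_mem hx (K.smul_mem _ hy))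
  simp only [uh_add_left, uh_add_right, uh_smul_left, uh_smul_right, hc x hx, hc y hy, map_div₀,
    h.invol, ← h.symm x y, mul_zero, add_zero, zero_add] at e
  field_simp at e
  exact one_ne_zero (α := F) (by linear_combination e - hθ)

theorem exists_isotropic [Finite F] (hF : Nat.card F = q ^ 2) (h : UFrob σ q)
    {K : Submodule F (Fin n → F)} (hN : Nondeg σ K) (hK : 2 ≤ Module.finrank F K) :
    ∃ v ∈ K, v ≠ 0 ∧ uh σ v v = 0 := by
  obtain ⟨x, hx, hxx⟩ := exists_anisotropic h hN (by omega)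
  let L : K →ₗ[F] F := ((LinearMap.fst F F F).comp (pairMap σ x x)).comp K.subtype
  have hker : LinearMap.ker L ≠ ⊥ := by
    intro hb
    have h1 := LinearMap.finrank_le_finrank_of_injective (LinearMap.ker_eq_bot.mp hb)
    rw [Module.finrank_self] at h1
    omega
  obtain ⟨⟨y, hy⟩, hyL, hy0⟩ := Submodule.exists_mem_ne_zero_of_ne_bot hker
  have hy0' : y ≠ 0 := fun e => hy0 (Subtype.ext e)
  have hyx : uh σ y x = 0 := by simpa [L, pairMap] using hyL
  by_cases hyy : uh σ y y = 0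
  · exact ⟨y, hy, hy0', hyy⟩
  have hfix : (-(uh σ x x / uh σ y y)) ^ q = -(uh σ x x / uh σ y y) := by
    rw [← h.pow, map_neg, map_div₀, h.symm, h.symm]
  obtain ⟨t, ht⟩ := exists_pow_succ_eq hF hfix
  rw [pow_succ', ← h.pow] at ht
  refine ⟨x + t • y, K.add_mem hx (K.smul_mem _ hy), fun e => hxx ?_, ?_⟩
  · have := congrArg (fun z => uh σ z x) e
    simpa [uh_add_left, uh_smul_left, uh_zero_left, hyx] using this
  · simp only [uh_add_left, uh_add_right, uh_smul_left, uh_smul_right, hyx, h.swap_zero hyx]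
    field_simp at ht
    linear_combination ht

theorem supp_inv {H : Submodule F (Fin n → F)} {g : Cfsg.SU n F q} (hg : Supp σ H g) : Supp σ H g⁻¹ :=
  fun x hx => by
    conv_lhs => rw [← hg x hx]
    exact su_inv_mulVec g x

theorem supp_fix_of_inner0 (h : UFrob σ q) {H : Submodule F (Fin n → F)} {e f : Fin n → F}
    {g : Cfsg.SU n F q} (hg : Supp σ (inner0 σ H e f) g) : g.1.1 *ᵥ e = e :=
  hg e fun _ hy => h.swap_zero (mem_inner0.mp hy).2.1

/-! ### The bounds -/

variable {V : Type*} [AddCommGroup V] [Module ℂ V] (ρ : Representation ℂ (Cfsg.SU n F q) V)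
  [FiniteDimensional ℂ V]

theorem le_finrank_char [Finite F] (hF : Nat.card F = q ^ 2) (h : UFrob σ q)
    {H : Submodule F (Fin n → F)} (hN : Nondeg σ H) {e f : Fin n → F} (hp : IsPair σ H e f)
    (W : Submodule ℂ V) (hW : ∀ g, Supp σ H g → Stable ρ W g) (ψ : AddChar (skew σ) ℂ) (hψ : ψ ≠ 1)
    (hne : W ⊓ space ρ (zf h hp.ee) ψ ≠ ⊥) :
    q ^ Module.finrank F (inner0 σ H e f) ≤ Module.finrank ℂ ↥(W ⊓ space ρ (zf h hp.ee) ψ) := by
  obtain ⟨θ, hθ⟩ := exists_trace h
  let u : inner0 σ H e f → Cfsg.SU n F q := fun i => uw h hθ hp.ee (i : Fin n → F) (mem_inner0.mp i.2).2.1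
  have hst : ∀ i, Stable ρ (W ⊓ space ρ (zf h hp.ee) ψ) (u i) := fun i =>
    stable_inf_space ρ (hW _ (supp_uw h hθ hp.ee hp.he _ _ (mem_inner0.mp i.2).1))
      (zf_mul_of_fix h _ hp.ee (uw_fix h hθ hp.ee _ _))
  have key := card_le_sq ρ (W ⊓ space ρ (zf h hp.ee) ψ) hne u u hst hst
    (fun j i => ψ (skOf h (uh σ (j : Fin n → F) (i : Fin n → F))))
    (fun j i v hv => by
      have hc : ((skOf h (uh σ (j : Fin n → F) (i : Fin n → F)) : skew σ) : F) =
          uh σ (j : Fin n → F) i - uh σ (i : Fin n → F) j :=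
        congrArg (uh σ (j : Fin n → F) (i : Fin n → F) - ·) (h.symm _ _)
      rw [← Module.End.mul_apply, ← map_mul, uw_comm h hθ hp.ee _ _ _ _ _ hc, map_mul, map_mul]
      exact (hst i _ (hst j v hv)).2 _)
    (fun i i' hii => by
      obtain ⟨d, hd⟩ : ∃ d, ψ d ≠ 1 := by
        by_contra hc
        push Not at hc
        exact hψ (DFunLike.ext _ _ fun d => by rw [hc, AddChar.one_apply])
      obtain ⟨t, rfl⟩ := skOf_surjective h d
      have hi0 : (i : Fin n → F) - i' ∈ inner0 σ H e f := Submodule.sub_mem _ i.2 i'.2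
      obtain ⟨y, hy, hy0⟩ : ∃ y ∈ inner0 σ H e f, uh σ y ((i : Fin n → F) - i') ≠ 0 := by
        by_contra hc
        push Not at hc
        exact hii (Subtype.ext (sub_eq_zero.mp
          (nondeg_inner0 h hN hp _ hi0 fun y hy => h.swap_zero (hc y hy))))
      refine ⟨⟨(t / uh σ y ((i : Fin n → F) - i')) • y, Submodule.smul_mem _ _ hy⟩, fun heq => hd ?_⟩
      set y' : Fin n → F := (t / uh σ y ((i : Fin n → F) - i')) • y with hy'
      have h1 : uh σ y' (i : Fin n → F) = uh σ y' (i' : Fin n → F) + t := by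
        have : uh σ y' ((i : Fin n → F) - i') = t := by rw [hy', uh_smul_left, div_mul_cancel₀ _ hy0]
        rw [uh_sub_right] at this
        linear_combination this
      simp only [← hy'] at heq
      rw [h1, map_add, AddChar.map_add_eq_mul] at heq
      refine (mul_eq_left₀ ?_).mp heq
      intro h0
      have := AddChar.map_add_eq_mul ψ (skOf h (uh σ y' (i' : Fin n → F))) (-(skOf h (uh σ y' (i' : Fin n → F))))
      rw [add_neg_cancel, AddChar.map_zero_eq_one, h0, zero_mul] at this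
      exact one_ne_zero this)
  rw [Module.natCard_eq_pow_finrank (K := F), hF, ← pow_mul, mul_comm, pow_mul] at key
  exact (Nat.pow_le_pow_iff_left two_ne_zero).mp key

theorem orbit_bound [Finite F] (hF : Nat.card F = q ^ 2) (h : UFrob σ q) {e : Fin n → F}
    (he : uh σ e e = 0) (X : Submodule ℂ V) (hX : ∀ c, Stable ρ X (zf h he c)) {x : V} (hx : x ∈ X)
    {c₀ : skew σ} (hx0 : ρ (zf h he c₀) x ≠ x) (d : ℕ)
    (hd : ∀ ψ : AddChar (skew σ) ℂ, ψ ≠ 1 → X ⊓ space ρ (zf h he) ψ ≠ ⊥ →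
      d ≤ Module.finrank ℂ ↥(X ⊓ space ρ (zf h he) ψ))
    (htor : ∀ lam : F, lam ≠ 0 → ∃ g, Stable ρ X g ∧ g.1.1 *ᵥ e = lam • e) :
    (q - 1) * d + Module.finrank ℂ ↥(X ⊓ space ρ (zf h he) 1) ≤ Module.finrank ℂ X := by
  classical
  have := Fintype.ofFinite F
  have := Fintype.ofFinite (skew σ)
  obtain ⟨ψ, hψ, hne⟩ := exists_char ρ (zf h he) (zf_add h he) X hX hx hx0
  have hall : ∀ φ : AddChar (skew σ) ℂ, φ ≠ 1 → X ⊓ space ρ (zf h he) φ ≠ ⊥ := by
    intro φ hφ
    obtain ⟨r, hr⟩ := exists_dual_skew hF h hψ φ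
    have hr0 : (r : F) ≠ 0 := by
      intro h0
      apply hφ
      refine DFunLike.ext _ _ fun c => ?_
      have : fixHom r c = 0 := Subtype.ext (show (r : F) * c = 0 by rw [h0, zero_mul])
      rw [← hr, AddChar.compAddMonoidHom_apply, this, AddChar.map_zero_eq_one, AddChar.one_apply]
    obtain ⟨lam, hlam⟩ := exists_pow_succ_eq hF (c := (r : F)⁻¹)
      (by rw [← h.pow, map_inv₀, fix_apply])
    rw [pow_succ', ← h.pow] at hlam
    have hl : lam ≠ 0 := fun e => by rw [e, zero_mul] at hlam; exact inv_ne_zero hr0 hlam.symm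
    obtain ⟨g, hg, hge⟩ := htor lam hl
    exact ne_bot_of_conj ρ (zf h he) X ψ φ g (fixHom r)
      (zf_mul_of_scale h g he hge (fix_apply r) (by rw [hlam, inv_mul_cancel₀ hr0])) hg
      (fun c => congrArg (fun χ : AddChar (skew σ) ℂ => χ c) hr) hne
  have hsum := sum_finrank_le ρ (zf h he) X (Finset.univ : Finset (AddChar (skew σ) ℂ))
  rw [← Finset.add_sum_erase _ _ (Finset.mem_univ (1 : AddChar (skew σ) ℂ))] at hsum
  have hcard : (Finset.univ.erase (1 : AddChar (skew σ) ℂ)).card = q - 1 := by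
    rw [Finset.card_erase_of_mem (Finset.mem_univ _), Finset.card_univ, AddChar.card_eq,
      ← Nat.card_eq_fintype_card, card_skew hF h]
  have hge := Finset.card_nsmul_le_sum (Finset.univ.erase (1 : AddChar (skew σ) ℂ))
    (fun φ => Module.finrank ℂ ↥(X ⊓ space ρ (zf h he) φ)) d
    (fun φ hφ => hd φ (Finset.ne_of_mem_erase hφ) (hall φ (Finset.ne_of_mem_erase hφ)))
  rw [hcard, smul_eq_mul] at hge
  omega

theorem exists_common_fixed [Finite F] (hF : Nat.card F = q ^ 2) (h : UFrob σ q)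
    {H : Submodule F (Fin n → F)} {e f v w : Fin n → F} (hp : IsPair σ H e f)
    (hv : IsPair σ (inner0 σ H e f) v w) (W : Submodule ℂ V) (hW : ∀ g, Supp σ H g → Stable ρ W g)
    (ψ : AddChar (skew σ) ℂ) (hψ : ψ ≠ 1) (hne : W ⊓ space ρ (zf h hp.ee) ψ ≠ ⊥) :
    ∃ x ∈ W ⊓ space ρ (zf h hp.ee) ψ, x ≠ 0 ∧ ∀ c, ρ (zf h hv.ee c) x = x := by
  obtain ⟨θ, hθ⟩ := exists_trace h
  obtain ⟨hvH, hve, hvf⟩ := mem_inner0.mp hv.he
  obtain ⟨hwH, hwe, hwf⟩ := mem_inner0.mp hv.hf
  have hmem : ∀ a b : F, uh σ (a • v + b • w) e = 0 := fun a b => by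
    simp [uh_add_left, uh_smul_left, hve, hwe]
  have hav : ∀ a : F, uh σ (a • v) e = 0 := fun a => by rw [uh_smul_left, hve, mul_zero]
  have hbw : ∀ b : F, uh σ (b • w) e = 0 := fun b => by rw [uh_smul_left, hwe, mul_zero]
  let za : F → Cfsg.SU n F q := fun a => uw h hθ hp.ee (a • v) (hav a)
  have hza : ∀ a b, za (a + b) = za a * za b := by
    intro a b
    have hab : uh σ (a • v + b • v) e = 0 := by rw [← add_smul]; exact hav _
    have := uw_mul h hθ hp.ee (a • v) (b • v) (hav a) (hav b) hab 0 (by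
      simp [cw, uh_add_left, uh_add_right, uh_smul_left, uh_smul_right, hv.ee])
    rw [zf_zero, one_mul] at this
    rw [this]
    simp only [za, add_smul]
  have hWu : ∀ x (hx : uh σ x e = 0), x ∈ H →
      Stable ρ (W ⊓ space ρ (zf h hp.ee) ψ) (uw h hθ hp.ee x hx) := fun x hx hxH =>
    stable_inf_space ρ (hW _ (supp_uw h hθ hp.ee hp.he x hx hxH))
      (zf_mul_of_fix h _ hp.ee (uw_fix h hθ hp.ee x hx))
  have hWz : ∀ c, Stable ρ (W ⊓ space ρ (zf h hp.ee) ψ) (zf h hv.ee c) := fun c =>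
    stable_inf_space ρ (hW _ (supp_zf h hv.ee hvH c))
      (zf_mul_of_fix h _ hp.ee (by rw [zf_mulVec, h.swap_zero hve]; simp))
  set X := W ⊓ space ρ (zf h hp.ee) ψ with hX
  obtain ⟨α, hα⟩ := exists_char_any ρ za hza X (fun a => hWu _ _ (H.smul_mem _ hvH)) hne
  obtain ⟨b, hb⟩ := exists_dual_field h hψ α⁻¹
  have hX0 : X ⊓ space ρ za 1 ≠ ⊥ := by
    obtain ⟨x, ⟨hxX, hxα⟩, hx0⟩ := Submodule.exists_mem_ne_zero_of_ne_bot hα
    refine Submodule.ne_bot_iff _ |>.mpr ⟨ρ (uw h hθ hp.ee (b • w) (hbw b)) x,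
      ⟨hWu _ _ (H.smul_mem _ hwH) x hxX, (mem_space_one ρ).mpr fun a => ?_⟩,
      fun h0 => hx0 (rho_injective ρ _ (by rw [h0, map_zero]))⟩
    have hab : uh σ (a • v) (b • w) = a * σ b := by rw [uh_smul_left, uh_smul_right, hv.ef, mul_one]
    have hc : ((skOf h (a * σ b) : skew σ) : F) = uh σ (a • v) (b • w) - uh σ (b • w) (a • v) := by
      rw [← hab]; exact congrArg (uh σ (a • v) (b • w) - ·) (h.symm _ _)
    simp only [za]
    rw [← Module.End.mul_apply, ← map_mul ρ, uw_comm h hθ hp.ee _ _ _ _ _ hc, map_mul ρ, map_mul ρ,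
      Module.End.mul_apply, Module.End.mul_apply, hxα a, map_smul, map_smul,
      (hWu _ _ (H.smul_mem _ hwH) x hxX).2, smul_smul, hb, AddChar.inv_apply, ← AddChar.map_add_eq_mul,
      add_neg_cancel, AddChar.map_zero_eq_one, one_smul]
  have hX0z : ∀ c, Stable ρ (X ⊓ space ρ za 1) (zf h hv.ee c) := fun c =>
    stable_inf_space ρ (hWz c) fun a =>
      (mul_uw h hθ hp.ee _ (by rw [zf_mulVec, h.swap_zero hve]; simp) (hav a) (hav a)
        (by simp [zf_mulVec, uh_smul_left, hv.ee])).symm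
  obtain ⟨φ, hφ⟩ := exists_char_any ρ (zf h hv.ee) (zf_add h hv.ee) _ hX0z hX0
  obtain ⟨x, ⟨⟨hxX, hxA⟩, hxφ⟩, hx0⟩ := Submodule.exists_mem_ne_zero_of_ne_bot hφ
  obtain ⟨r, hr⟩ := exists_dual_skew hF h hψ φ⁻¹
  obtain ⟨b', hb'⟩ := exists_pow_succ_eq hF (c := (r : F)) (by rw [← h.pow, fix_apply])
  rw [pow_succ', ← h.pow] at hb'
  refine ⟨ρ (uw h hθ hp.ee (b' • w) (hbw b')) x, hWu _ _ (H.smul_mem _ hwH) x hxX,
    fun h0 => hx0 (rho_injective ρ _ (by rw [h0, map_zero])), fun c => ?_⟩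
  have hgw : (zf h hv.ee c).1.1 *ᵥ (b' • w) = b' • w + ((c : F) * b') • v := by
    rw [zf_mulVec, uh_smul_left, hv.fe, mul_one]
  have hsum : uh σ (b' • w + ((c : F) * b') • v) e = 0 := by rw [add_comm]; exact hmem _ _
  have hprod : uw h hθ hp.ee (b' • w + ((c : F) * b') • v) hsum =
      zf h hp.ee (fixHom r c) * (uw h hθ hp.ee (b' • w) (hbw b') * uw h hθ hp.ee (((c : F) * b') • v) (hav _)) := by
    have hc : (c : F) + σ c = 0 := c.2
    have := uw_mul h hθ hp.ee (b' • w) (((c : F) * b') • v) (hbw b') (hav _) hsum (-fixHom r c) (by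
      show -((r : F) * c) = _
      simp only [cw, uh_add_left, uh_add_right, uh_smul_left, uh_smul_right, hv.ee, hv.ff, hv.ef, hv.fe,
        map_mul]
      linear_combination (c : F) * hb' - θ * b' * σ b' * hc)
    rw [this, ← mul_assoc, ← zf_add, add_neg_cancel, zf_zero, one_mul]
  have hxA1 : ρ (uw h hθ hp.ee (((c : F) * b') • v) (hav _)) x = x := by
    have := hxA ((c : F) * b')
    rwa [AddChar.one_apply, one_smul] at this
  rw [← Module.End.mul_apply, ← map_mul,
    mul_uw h hθ hp.ee _ (by rw [zf_mulVec, h.swap_zero hve]; simp) (hbw b') hsum hgw, hprod,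
    map_mul, map_mul, map_mul, Module.End.mul_apply, Module.End.mul_apply, Module.End.mul_apply,
    hxφ c, map_smul, map_smul, map_smul, hxA1, (hWu _ _ (H.smul_mem _ hwH) x hxX).2, smul_smul]
  have : ψ (fixHom r c) = φ⁻¹ c := congrArg (fun χ : AddChar (skew σ) ℂ => χ c) hr
  rw [this, AddChar.inv_apply, ← AddChar.map_add_eq_mul, add_neg_cancel, AddChar.map_zero_eq_one,
    one_smul]

/-- The Landazuri–Seitz bound on a non-degenerate subspace. -/
theorem bound [Finite F] (hF : Nat.card F = q ^ 2) (h : UFrob σ q) :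
    ∀ (m : ℕ) (H : Submodule F (Fin n → F)), Module.finrank F H = m → 3 ≤ m → Nondeg σ H →
      ∀ W : Submodule ℂ V, (∀ g, Supp σ H g → Stable ρ W g) →
        (∃ (v : Fin n → F) (hv : uh σ v v = 0) (c : skew σ), v ∈ H ∧
          ∃ x ∈ W, ρ (zf h hv c) x ≠ x) → bnd q m ≤ Module.finrank ℂ W := by
  intro m
  induction m using Nat.strong_induction_on with
  | _ m ih =>
    intro H hH hm hN W hW ⟨e, hee, c₀, heH, x, hxW, hx⟩
    have he0 : e ≠ 0 := by
      rintro rfl
      apply hx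
      have : zf h hee c₀ = 1 := su_ext fun y => by rw [zf_mulVec, smul_zero, add_zero, su_one_mulVec]
      rw [this, map_one]; rfl
    obtain ⟨f, hp⟩ := exists_pair h hN heH he0 hee
    obtain ⟨k, rfl⟩ : ∃ k, m = k + 2 := ⟨m - 2, by omega⟩
    have hk : Module.finrank F (inner0 σ H e f) = k := by
      have := finrank_inner0 (σ := σ) hp; omega
    have hN0 := nondeg_inner0 h hN hp
    have hWz : ∀ c, Stable ρ W (zf h hp.ee c) := fun c => hW _ (supp_zf h hp.ee heH c)
    have htor : ∀ lam : F, lam ≠ 0 → ∃ g, Stable ρ W g ∧ g.1.1 *ᵥ e = lam • e := by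
      intro lam hl
      obtain ⟨x₀, hx₀, ha⟩ := exists_anisotropic h hN0 (by omega)
      obtain ⟨hxH, hxe, hxf⟩ := mem_inner0.mp hx₀
      obtain ⟨g, hg, hge⟩ := exists_torus_one h hp hxH hxe hxf ha hl
      exact ⟨g, hW g hg, hge⟩
    have hmain := orbit_bound ρ hF h hp.ee W hWz hxW hx (q ^ k)
      (fun ψ hψ hne => hk ▸ le_finrank_char ρ hF h hN hp W hW ψ hψ hne) htor
    show (q - 1) * q ^ k + bnd q k ≤ _
    refine le_trans (Nat.add_le_add_left ?_ _) hmain
    rcases Nat.lt_or_ge k 2 with hk2 | hk2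
    · interval_cases k <;> simp [bnd]
    obtain ⟨v, hv0, hvne, hvv⟩ := exists_isotropic hF h hN0 (by omega)
    obtain ⟨w, hv⟩ := exists_pair h hN0 hv0 hvne hvv
    obtain ⟨hvH, hve, hvf⟩ := mem_inner0.mp hv.he
    obtain ⟨hwH, hwe, hwf⟩ := mem_inner0.mp hv.hf
    have hv' : IsPair σ H v w := ⟨hvH, hwH, hv.ee, hv.ff, hv.ef, hv.fe⟩
    obtain ⟨y, hy, cy, hyne⟩ : ∃ y ∈ W ⊓ space ρ (zf h hp.ee) 1, ∃ c, ρ (zf h hv.ee c) y ≠ y := by
      by_contra hc
      push Not at hc
      obtain ⟨g, hg, hge⟩ := exists_swap h hp hv' (h.swap_zero hve) (h.swap_zero hwe) (h.swap_zero hvf)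
        (h.swap_zero hwf)
      have hle : W ⊓ space ρ (zf h hp.ee) 1 ≤ W ⊓ space ρ (zf h hv.ee) 1 := fun y hy =>
        ⟨hy.1, (mem_space_one ρ).mpr (hc y hy)⟩
      have hmap : ∀ y ∈ W ⊓ space ρ (zf h hv.ee) 1, ρ g⁻¹ y ∈ W ⊓ space ρ (zf h hp.ee) 1 := by
        rintro y ⟨hyW, hyz⟩
        refine ⟨hW _ (supp_inv hg) y hyW, (mem_space_one ρ).mpr fun c => ?_⟩
        have h1 := mul_zf h g hp.ee hv.ee hge c
        have h2 : zf h hp.ee c * g⁻¹ = g⁻¹ * zf h hv.ee c := by
          rw [eq_inv_mul_iff_mul_eq, ← mul_assoc, h1, mul_inv_cancel_right]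
        rw [← Module.End.mul_apply, ← map_mul, h2, map_mul, Module.End.mul_apply,
          (mem_space_one ρ).mp hyz]
      have heq := Submodule.eq_of_le_of_finrank_le hle
        (LinearMap.finrank_le_finrank_of_injective (f := (ρ g⁻¹).restrict hmap)
          fun a b hab => Subtype.ext (rho_injective ρ g⁻¹ (congrArg Subtype.val hab)))
      obtain ⟨ψ, hψ, hne⟩ := exists_char ρ (zf h hp.ee) (zf_add h hp.ee) W hWz hxW hx
      obtain ⟨z, hz, hz0, hzfix⟩ := exists_common_fixed ρ hF h hp hv W hW ψ hψ hne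
      have hz1 : z ∈ W ⊓ space ρ (zf h hp.ee) 1 := heq ▸ ⟨hz.1, (mem_space_one ρ).mpr hzfix⟩
      apply hψ
      refine DFunLike.ext _ _ fun c => ?_
      have e1 := hz.2 c
      rw [(mem_space_one ρ).mp hz1.2 c] at e1
      rw [AddChar.one_apply]
      exact smul_left_injective ℂ hz0 (show ψ c • z = (1 : ℂ) • z by rw [one_smul]; exact e1.symm)
    have hC0 : ∀ g, Supp σ (inner0 σ H e f) g → Stable ρ (W ⊓ space ρ (zf h hp.ee) 1) g := fun g hg =>
      stable_inf_space ρ (hW g (hg.mono inf_le_left)) (zf_mul_of_fix h g hp.ee (supp_fix_of_inner0 h hg))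
    rcases Nat.lt_or_ge k 3 with hk3 | hk3
    · obtain rfl : k = 2 := by omega
      have := orbit_bound ρ hF h hv.ee _ (fun c => hC0 _ (supp_zf h hv.ee hv.he c)) hy hyne 1
        (fun ψ _ hne => Nat.one_le_iff_ne_zero.mpr fun h0 => hne (Submodule.finrank_eq_zero.mp h0))
        (fun lam hl => by
          obtain ⟨g, hg, hge, hgv⟩ := exists_torus_two h hp hv' (h.swap_zero hve) (h.swap_zero hwe)
            (h.swap_zero hvf) (h.swap_zero hwf) hl
          refine ⟨g, fun z hz => ⟨hW g hg z hz.1, (mem_space_one ρ).mpr fun c => ?_⟩, hgv⟩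
          have hr : σ (lam * σ lam) = lam * σ lam := by rw [map_mul, h.invol, mul_comm]
          have hlr : lam⁻¹ * σ lam⁻¹ * (lam * σ lam) = 1 := by
            have : σ lam ≠ 0 := (map_ne_zero σ).mpr hl
            rw [map_inv₀]; field_simp
          rw [← Module.End.mul_apply, ← map_mul, zf_mul_of_scale h g hp.ee hge hr hlr, map_mul,
            Module.End.mul_apply, (mem_space_one ρ).mp hz.2])
      simp only [bnd, pow_zero, add_zero]
      omega
    · exact ih k (by omega) _ hk hk3 hN0 _ hC0 ⟨v, hv.ee, cy, hv.he, y, hy, hyne⟩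

omit [FiniteDimensional ℂ V] in
theorem nondeg_top (h : UFrob σ q) : Nondeg σ (⊤ : Submodule F (Fin n → F)) := by
  intro x _ hx
  by_contra h0
  obtain ⟨y, hy⟩ := exists_uh_eq_one h h0
  rw [h.swap_zero (hx y trivial)] at hy
  exact zero_ne_one hy

/-- A non-linear irreducible representation of `SU n q` has degree at least `bnd q n`. -/
theorem irreducible_bound [Finite F] (hF : Nat.card F = q ^ 2) (hn : 3 ≤ n) (h32 : n = 3 → 3 ≤ q)
    (k : ℕ) (π : Representation ℂ (Cfsg.SU n F q) (Fin k → ℂ)) (hirr : π.IsIrreducible) (hk : 2 ≤ k) :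
    bnd q n ≤ k := by
  obtain ⟨σ, h⟩ := exists_uFrob hF
  by_contra hlt
  have htriv : ∀ g : Cfsg.SU n F q, ∀ x, π g x = x := by
    let N : Subgroup (Cfsg.SU n F q) :=
      { carrier := {g | ∀ x, π g x = x}
        mul_mem' := fun {a b} ha hb x => by
          show π (a * b) x = x
          rw [map_mul, Module.End.mul_apply, hb, ha]
        one_mem' := fun x => by
          show π 1 x = x
          rw [map_one]; rfl
        inv_mem' := fun {a} ha x => by
          show π a⁻¹ x = x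
          conv_lhs => rw [← ha x]
          rw [← Module.End.mul_apply, ← map_mul, inv_mul_cancel, map_one]
          rfl }
    have hN : transvGroup n F q ≤ N := by
      rw [transvGroup, Subgroup.closure_le]
      rintro A ⟨v, c, hv, hA⟩ x
      rw [h.hermForm_eq] at hv
      rw [h.unitaryTransvection_eq] at hA
      rcases eq_or_ne v 0 with rfl | hv0
      · have : A = 1 := su_ext fun y => by
          rw [su_one_mulVec, hA, tMat_mulVec, smul_zero, add_zero]
        rw [this, map_one]; rfl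
      have hc : c + σ c = 0 := (tMat_preserves_iff h hv0 hv c).mp fun a b => by
        rw [← hA]; exact su_uh h A a b
      have hAz : A = zf h hv ⟨c, hc⟩ := su_ext fun y => by rw [zf_mulVec, hA, tMat_mulVec]
      by_contra hx
      apply hlt
      have := bound π hF h n ⊤ (by rw [finrank_top, Module.finrank_fin_fun]) hn (nondeg_top h) ⊤
        (fun g _ w _ => trivial) ⟨v, hv, ⟨c, hc⟩, trivial, x, trivial, hAz ▸ hx⟩
      rwa [finrank_top, Module.finrank_fin_fun] at this
    intro g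
    exact hN (by rw [transvGroup_eq_top hF h n (by omega) h32]; trivial)
  -- every subspace is then a subrepresentation
  let ρ0 : Subrepresentation π :=
    { toSubmodule := Submodule.span ℂ {Pi.single ⟨0, by omega⟩ 1}
      apply_mem_toSubmodule := fun g v hv => by rwa [htriv g v] }
  have hne : ρ0 ≠ ⊥ := by
    intro h0
    have h1 : (Pi.single ⟨0, by omega⟩ 1 : Fin k → ℂ) ∈ ρ0.toSubmodule := Submodule.subset_span rfl
    rw [h0] at h1
    have h2 := congrFun ((Submodule.mem_bot ℂ).mp h1) ⟨0, by omega⟩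
    simp at h2
  have htop := hirr.eq_bot_or_eq_top ρ0 |>.resolve_left hne
  have h1 : (Pi.single ⟨1, by omega⟩ 1 : Fin k → ℂ) ∈ ρ0.toSubmodule := by rw [htop]; trivial
  obtain ⟨a, ha⟩ := Submodule.mem_span_singleton.mp h1
  have h2 := congrFun ha ⟨1, by omega⟩
  simp [Fin.ext_iff] at h2

theorem bnd_mul_odd (q : ℕ) (hq : 1 ≤ q) : ∀ n, Odd n → (q + 1) * bnd q n + q = q ^ n
  | 0 => fun h => absurd h (by decide)
  | 1 => fun _ => by simp [bnd]
  | n + 2 => fun h => by
    have hn : Odd n := by simpa [parity_simps] using h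
    obtain ⟨p, rfl⟩ := Nat.exists_eq_add_of_le hq
    have := bnd_mul_odd (1 + p) hq n hn
    simp only [bnd, Nat.add_sub_cancel_left, pow_succ]
    nlinarith

theorem bnd_mul_even (q : ℕ) (hq : 1 ≤ q) : ∀ n, Even n → (q + 1) * bnd q n + 1 = q ^ n
  | 0 => fun _ => by simp [bnd]
  | 1 => fun h => absurd h (by decide)
  | n + 2 => fun h => by
    have hn : Even n := by simpa [parity_simps] using h
    obtain ⟨p, rfl⟩ := Nat.exists_eq_add_of_le hq
    have := bnd_mul_even (1 + p) hq n hn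
    simp only [bnd, Nat.add_sub_cancel_left, pow_succ]
    nlinarith

end CfsgLib.KnownA.UnitaryMinDeg
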